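import Cfsg.Agent.Lib.LocalEven.GN.Main

/-!
The join of all `V` and its centraliser under isomorphisms.
-/

set_option autoImplicit false
set_option linter.unusedSectionVars false

namespace CfsgLib.LocalEven.GN

open Cfsg
open CD (cj cen zOf)

universe u

variable {p : ℕ}

/-- A situation seen through an isomorphism. -/
noncomputable def Emb.transport {A B : Type u} [Group A] [Group B] (E : Emb p B) (e : A ≃* B) :
    Emb p A :=
  have hr : (E.ι.comp e.toMonoidHom).range = E.ι.range := by
    rw [MonoidHom.range_comp, MonoidHom.range_eq_top.2 e.surjective, ← MonoidHom.range_eq_map]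
  { G := E.G
    ι := E.ι.comp e.toMonoidHom
    inj := E.inj.comp e.injective
    T0 := E.T0
    setup := by rw [hr]; exact E.setup
    syl := by rw [hr]; exact E.syl
    g0 := E.g0
    gen := by rw [hr]; exact E.gen
    gen' := by rw [hr]; exact E.gen'
    zne := by rw [← Subgroup.map_map, map_centre]; exact E.zne
    jT := by rw [← Subgroup.map_map, map_thompsonA]; exact E.jT }

theorem Emb.transport_V {A B : Type u} [Group A] [Group B] (E : Emb p B) (e : A ≃* B) :
    (E.transport e).V = E.V.map e.symm.toMonoidHom := by
  have hT : (E.transport e).T = E.T.map e.symm.toMonoidHom := by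
    rw [Subgroup.map_equiv_eq_comap_symm', MulEquiv.symm_symm]
    rfl
  show cen (E.transport e).T = _
  rw [hT]
  exact (map_cen e.symm E.T).symm

theorem map_vJoin_le {A B : Type u} [Group A] [Group B] (e : A ≃* B) :
    (vJoin p A).map e.toMonoidHom ≤ vJoin p B := by
  rw [vJoin, Subgroup.map_le_iff_le_comap]
  refine sSup_le ?_
  rintro _ ⟨E, rfl⟩
  rw [← Subgroup.map_le_iff_le_comap]
  refine le_sSup ⟨E.transport e.symm, ?_⟩
  rw [E.transport_V, MulEquiv.symm_symm]

theorem map_vJoin {A B : Type u} [Group A] [Group B] (e : A ≃* B) :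
    (vJoin p A).map e.toMonoidHom = vJoin p B :=
  le_antisymm (map_vJoin_le e) (by
    conv_lhs => rw [← map_map_symm e (vJoin p B)]
    exact Subgroup.map_mono (map_vJoin_le e.symm))

/-- The join of all `V` with its centraliser. -/
def sig (p : ℕ) (A : Type u) [Group A] : Subgroup A := vJoin p A ⊔ cen (vJoin p A)

theorem map_sig {A B : Type u} [Group A] [Group B] (e : A ≃* B) :
    (sig p A).map e.toMonoidHom = sig p B := by
  rw [sig, Subgroup.map_sup, map_cen, map_vJoin, sig]

theorem sig_char {A : Type u} [Group A] : (sig p A).Characteristic :=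
  Subgroup.characteristic_iff_map_eq.2 fun φ => map_sig φ

theorem sig_ne_bot [Fact p.Prime] {A : Type u} [Group A] [Finite A] [Nontrivial A]
    (hA : IsPGroup p A) : sig p A ≠ ⊥ := fun h =>
  center_ne_bot' hA (le_bot_iff.1 (h ▸ le_sup_of_le_right fun z hz y _ =>
    Subgroup.mem_center_iff.1 hz y))

/-- The image under an embedding. -/
theorem map_sig_range {A G : Type u} [Group A] [Group G] {τ : A →* G}
    (hτ : Function.Injective τ) {B : Subgroup G} (hB : τ.range = B) :
    (sig p A).map τ = (sig p ↥B).map B.subtype := by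
  subst hB
  rw [← map_sig (MonoidHom.ofInjective hτ), Subgroup.map_map]
  rfl

end CfsgLib.LocalEven.GN
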