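import Cfsg.Agent.Lib.LocalEven.GN.HD

/-!
The structure of a Sylow subgroup in rank one pushing up.
-/

set_option autoImplicit false
set_option linter.unusedSectionVars false

namespace CfsgLib.LocalEven.GN

open Cfsg
open scoped commutatorElement Pointwise
open CD (cj cen zOf)

universe u

variable {p : ℕ} [Fact p.Prime]

theorem exists_hd {G : Type u} [Group G] [Finite G] (P : Sylow p G)
    (hs : Situ p (P : Subgroup G).subtype)
    (hd : ∀ T : Subgroup ↥(P : Subgroup G), T ≠ ⊥ → T.Characteristic →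
      ¬ (T.map (P : Subgroup G).subtype).Normal) :
    ∃ (g : G) (h : GenAt (P : Subgroup G).subtype.range (pCore p G) g)
      (h' : GenAt (P : Subgroup G).subtype.range (pCore p G) g⁻¹)
      (hset : Push.Setup p (P : Subgroup G).subtype.range (pCore p G))
      (hz : ¬ (Subgroup.center ↥(P : Subgroup G)).map (P : Subgroup G).subtype ≤ Subgroup.center G)
      (hj : ¬ (thompsonSubgroupA ↥(P : Subgroup G)).map (P : Subgroup G).subtype ≤ pCore p G),
      HD ({ G := G, ι := (P : Subgroup G).subtype, inj := Subgroup.subtype_injective _,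
            T0 := pCore p G, setup := hset, syl := hs.1, g0 := g, gen := h, gen' := h', zne := hz
            jT := hj } :
        Emb p ↥(P : Subgroup G)) := by
  obtain ⟨hset, g, h, h'⟩ := hs.setup
  have : Nontrivial ↥(P : Subgroup G) := by
    by_contra hn
    rw [not_nontrivial_iff_subsingleton] at hn
    refine hset.ne ?_
    rintro _ ⟨x, rfl⟩
    rw [Subsingleton.elim x 1, map_one]; exact one_mem _
  refine ⟨g, h, h', hset, fun hc => ?_,
    jT_of_not_normal (Subgroup.subtype_injective _) hset (hd _ thompsonA_ne_bot thompsonA_char),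
    ⟨hs, hd⟩⟩
  exact hd _ (center_ne_bot' P.2) center_char (normal_of_center_le le_rfl hc)

theorem lcs_map {G : Type*} [Group G] (P : Subgroup G) (k : ℕ) :
    P.lowerCentralSeries k = ((⊤ : Subgroup ↥P).lowerCentralSeries k).map P.subtype :=
  (Emb.lcs_top_map P k).symm

/-- Rank one pushing up: the structure of the Sylow subgroup and of `O_p(G)`. -/
theorem rankOne_structure {G : Type u} [Group G] [Finite G] (P : Sylow p G)
    (hs : Situ p (P : Subgroup G).subtype)
    (hd : ∀ T : Subgroup ↥(P : Subgroup G), T ≠ ⊥ → T.Characteristic →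
      ¬ (T.map (P : Subgroup G).subtype).Normal) :
    ((P : Subgroup G).lowerCentralSeries 2 = ⊥ ∧ (P : Subgroup G).lowerCentralSeries 1 ≠ ⊥ ∧
      (p = 2 → Monoid.exponent ↥(P : Subgroup G) = 4) ∧
      (p ≠ 2 → Monoid.exponent ↥(P : Subgroup G) = p) ∧
      (∃ U W : Subgroup G, W ≤ U ∧ U ≤ pCore p G ∧ IsChiefFactor U W ∧
        ¬ ⁅U, (⊤ : Subgroup G)⁆ ≤ W ∧ (∃ k : ℕ, iterCommutator W ⊤ k = ⊥) ∧
        (∃ k : ℕ, iterCommutator (pCore p G) ⊤ k ≤ U))) ∨
    (p = 3 ∧ (P : Subgroup G).lowerCentralSeries 3 = ⊥ ∧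
      (P : Subgroup G).lowerCentralSeries 2 ≠ ⊥ ∧ Monoid.exponent ↥(P : Subgroup G) = 9 ∧
      (∃ U₁ W₁ U₂ W₂ : Subgroup G, W₁ ≤ U₁ ∧ U₁ ≤ W₂ ∧ W₂ ≤ U₂ ∧ U₂ ≤ pCore p G ∧
        IsChiefFactor U₁ W₁ ∧ IsChiefFactor U₂ W₂ ∧ ¬ ⁅U₁, (⊤ : Subgroup G)⁆ ≤ W₁ ∧
        ¬ ⁅U₂, (⊤ : Subgroup G)⁆ ≤ W₂ ∧ (∃ k : ℕ, iterCommutator W₁ ⊤ k = ⊥) ∧
        (∃ k : ℕ, iterCommutator W₂ ⊤ k ≤ U₁) ∧
        (∃ k : ℕ, iterCommutator (pCore p G) ⊤ k ≤ U₂))) := by
  obtain ⟨g, h, h', hset, hz, hj, H⟩ := exists_hd P hs hd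
  generalize hE : (Emb.mk G (P : Subgroup G).subtype _ (pCore p G) hset hs.1 g h h' hz hj :
    Emb p ↥(P : Subgroup G)) = E at H
  have hexc := H.exc
  have hB := H.base
  have hcomm : ∀ x y : ↥(P : Subgroup G), ⁅x, y⁆ ∈ frattini ↥(P : Subgroup G) := fun x y =>
    PGroups.commutator_le_frattini hB.isP
      (Subgroup.commutator_mem_commutator (Subgroup.mem_top _) (Subgroup.mem_top _))
  have hl1 : (P : Subgroup G).lowerCentralSeries 1 ≠ ⊥ := by
    rw [lcs_map, Ne, Subgroup.map_eq_bot_iff_of_injective _ (Subgroup.subtype_injective _)]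
    intro h0
    refine hexc.nab ⟨⟨fun a b => commutatorElement_eq_one_iff_mul_comm.1 ?_⟩⟩
    rw [← Subgroup.mem_bot, ← h0, Subgroup.lowerCentralSeries_succ,
      Subgroup.lowerCentralSeries_zero]
    exact Subgroup.commutator_mem_commutator (Subgroup.mem_top _) (Subgroup.mem_top _)
  have hl : (⊤ : Subgroup ↥(P : Subgroup G)).lowerCentralSeries 1 ≤
      frattini ↥(P : Subgroup G) := by
    rw [Subgroup.lowerCentralSeries_succ, Subgroup.lowerCentralSeries_zero]
    exact Subgroup.commutator_le.2 fun x _ y _ => hcomm x y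
  by_cases hc : frattini ↥(P : Subgroup G) ≤ Subgroup.center ↥(P : Subgroup G)
  · left
    obtain ⟨e2, e3⟩ := H.class_two hc
    refine ⟨?_, hl1, e2, e3, ?_⟩
    · rw [lcs_map, Subgroup.map_eq_bot_iff_of_injective _ (Subgroup.subtype_injective _),
        Subgroup.lowerCentralSeries_succ, Subgroup.commutator_eq_bot_iff_le_centralizer]
      exact (hl.trans hc).trans fun x hx y _ => Subgroup.mem_center_iff.1 hx y
    · obtain ⟨hch, hit⟩ := E.V_chief hB
      have hT := Subgroup.map_mono (f := E.ι) E.V_le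
      have hnc := E.V_not_central hB
      have hi := E.iter_one hB hc
      rw [E.T0_eq] at hT
      subst hE
      exact ⟨_, _, hch.1.le, hT, hch, hnc, ⟨1, hit⟩, 1, hi⟩
  · right
    obtain ⟨h3, E', P0, P'⟩ := H.class_three hc
    subst h3
    have hz2 := hexc.three rfl
    refine ⟨rfl, ?_, ?_, ?_, ?_⟩
    · rw [lcs_map, Subgroup.map_eq_bot_iff_of_injective _ (Subgroup.subtype_injective _),
        Subgroup.lowerCentralSeries_succ, Subgroup.commutator_eq_bot_iff_le_centralizer]
      rw [Subgroup.lowerCentralSeries_succ]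
      refine (Subgroup.commutator_le.2 fun x hx y _ => ?_ :
        _ ≤ Subgroup.center ↥(P : Subgroup G)).trans fun x hx y _ => Subgroup.mem_center_iff.1 hx y
      exact mem_z2.1 (hz2 (hl hx)) y
    · rw [lcs_map, Ne, Subgroup.map_eq_bot_iff_of_injective _ (Subgroup.subtype_injective _)]
      intro h0
      rw [Subgroup.lowerCentralSeries_succ, Subgroup.commutator_eq_bot_iff_le_centralizer,
        Subgroup.coe_top, Subgroup.centralizer_univ, Subgroup.lowerCentralSeries_succ,
        Subgroup.lowerCentralSeries_zero] at h0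
      have hcc : ∀ x y : ↥(P : Subgroup G), ⁅x, y⁆ ∈ Subgroup.center ↥(P : Subgroup G) :=
        fun x y => h0 (Subgroup.commutator_mem_commutator (Subgroup.mem_top _) (Subgroup.mem_top _))
      refine hc (PGroups.frattini_le_of_elementary_quotient (p := 3)
        (by rw [commutator_def]; exact h0) fun x => Subgroup.mem_center_iff.2 fun y => ?_)
      have hpw : ∀ i : ℕ, ⁅x ^ i, y⁆ = ⁅x, y⁆ ^ i := by
        intro i
        induction i with
        | zero => rw [pow_zero, pow_zero, commutatorElement_one_left]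
        | succ i ih =>
          rw [pow_succ', comm_mul_left, ih, center_conj (pow_mem (hcc x y) i), pow_succ]
      exact (commutatorElement_eq_one_iff_mul_comm.1
        ((hpw 3).trans (H.zp _ (hcc x y)))).symm
    · have h9 : ∀ s : ↥(P : Subgroup G), s ^ 9 = 1 := fun s => by
        rw [show (9 : ℕ) = 3 * 3 from rfl, pow_mul]
        exact hexc.phiel.2 _ (PGroups.pow_mem_frattini hB.isP s)
      obtain ⟨k, hk, he⟩ := (Nat.dvd_prime_pow Nat.prime_three).1
        (show Monoid.exponent ↥(P : Subgroup G) ∣ 3 ^ 2 from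
          Monoid.exponent_dvd_of_forall_pow_eq_one h9)
      by_contra hne
      refine P0.exp_three_false P' fun s => Monoid.exponent_dvd_iff_forall_pow_eq_one.1 ?_ s
      rw [he]
      interval_cases k
      · exact one_dvd _
      · exact dvd_rfl
      · exact absurd he hne
    · obtain ⟨hch, hit⟩ := E.V_chief hB
      have hnc := E.V_not_central hB
      obtain ⟨hch2, hnc2⟩ := P0.X_chief P'
      have hXi := P0.X2_inv (g := E.g0) E.gen E.gen'
      obtain ⟨v, hv, hvZ⟩ := P'.exists_moved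
      obtain ⟨-, heT⟩ := P'.moved E'.gen hv hvZ
      obtain ⟨k, hk⟩ := E.iter_le hXi (e := E'.c E'.g0 v) (fun t _ => by
        have h1 := P'.step3 E'.gen (E'.c_mem_cs P'.Y_le_T E'.g0 (P'.V'_le_Y hv)) t
        exact P0.Y_le_X2 (show _ ∈ E.V ⊔ E'.V by rw [sup_comm]; exact h1)) heT
      have hXT := Subgroup.map_mono (f := E.ι) hXi.1
      have hVX := Subgroup.map_mono (f := E.ι) (P0.V_le_Y.trans (P0.Y_le_X2 (g := E.g0)))
      rw [E.T0_eq] at hXT
      subst hE
      exact ⟨_, _, _, _, hch.1.le, le_rfl, hVX, hXT, hch, hch2, hnc, hnc2, ⟨1, hit⟩, ⟨0, le_rfl⟩,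
        k, hk⟩

end CfsgLib.LocalEven.GN
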