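import Cfsg.Agent.Lib.LocalEven.GN.NatMod
import Cfsg.Agent.Lib.LocalEven.GN.RankOne

/-!
The quotient and the chief factors in rank one pushing up.
-/

set_option autoImplicit false
set_option linter.unusedSectionVars false

namespace CfsgLib.LocalEven.GN

open Cfsg Matrix CfsgLib.Classical
open scoped commutatorElement
open CD (cj cen zOf)
open SL2Natural (nSL hSL)

universe u

variable {p : ℕ} [Fact p.Prime]

theorem pr_uSL_inj {F : Type*} [Field F] {a b : F}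
    (h : Push.pr (uSL a) = Push.pr (uSL b : Matrix.SpecialLinearGroup (Fin 2) F)) : a = b := by
  obtain ⟨r, hr⟩ := Push.pr_eq h
  simp only [uSL_coe] at hr
  have h00 := congrFun (congrFun hr 0) 0
  have h01 := congrFun (congrFun hr 0) 1
  simp at h00 h01
  rw [← h00, one_mul] at h01
  exact h01.symm

theorem pr_uSL_lSL {F : Type*} [Field F] {a b : F}
    (h : Push.pr (uSL a) = Push.pr (lSL b : Matrix.SpecialLinearGroup (Fin 2) F)) :
    a = 0 ∧ b = 0 := by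
  obtain ⟨r, hr⟩ := Push.pr_eq h
  simp only [uSL_coe, lSL_coe] at hr
  have h00 := congrFun (congrFun hr 0) 0
  have h01 := congrFun (congrFun hr 0) 1
  have h10 := congrFun (congrFun hr 1) 0
  simp at h00 h01 h10
  rw [← h00] at h01
  exact ⟨h01.resolve_left one_ne_zero, h10⟩

/-- The parametrised situation. -/
theorem exists_par {G : Type u} [Group G] [Finite G] (P : Sylow p G)
    (hE₁ : Subgroup.centralizer (Cfsg.pCore p G : Set G) ≤ Cfsg.pCore p G)
    (hE₂ : ∃! M : Subgroup G, IsCoatom M ∧ (P : Subgroup G) ≤ M) (K : Subgroup G) [K.Normal]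
    (F : Type) [Field F] [Fintype F] (n : ℕ) (hF : Fintype.card F = p ^ n)
    (hE₃ : Nonempty (G ⧸ K ≃* Matrix.ProjectiveSpecialLinearGroup (Fin 2) F))
    (hz : ¬ (Subgroup.center ↥(P : Subgroup G)).map (P : Subgroup G).subtype ≤ Subgroup.center G)
    (hj : ¬ (thompsonSubgroupA ↥(P : Subgroup G)).map (P : Subgroup G).subtype ≤ pCore p G) :
    ∃ (g : G) (h : GenAt (P : Subgroup G).subtype.range (pCore p G) g)
      (h' : GenAt (P : Subgroup G).subtype.range (pCore p G) g⁻¹)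
      (hset : Push.Setup p (P : Subgroup G).subtype.range (pCore p G))
      (hs : ∃ Q : Sylow p G, (Q : Subgroup G) = (P : Subgroup G).subtype.range),
      Situ p (P : Subgroup G).subtype ∧
      Nonempty (Par
        ({ G := G, ι := (P : Subgroup G).subtype, inj := Subgroup.subtype_injective _,
           T0 := pCore p G, setup := hset, syl := hs, g0 := g, gen := h, gen' := h', zne := hz
           jT := hj } :
        Emb p ↥(P : Subgroup G)) F) := by
  have hset0 := Push.setup_of_sylow P hE₁ hE₂ F hF hE₃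
  obtain ⟨e⟩ := hE₃
  haveI : CharP F p := charP_of_card_eq_prime_pow hF
  have : Finite (G ⧸ K) := inferInstance
  have R : Push.RankOne p (G ⧸ K) := Push.rankOne_of_mulEquiv e (Push.rankOne_PSL p)
  have hr : (P : Subgroup G).subtype.range = (P : Subgroup G) := Subgroup.range_subtype _
  set π0 : G →* Matrix.ProjectiveSpecialLinearGroup (Fin 2) F :=
    e.toMonoidHom.comp (QuotientGroup.mk' K)
  have hπ0 : Function.Surjective π0 := e.surjective.comp (QuotientGroup.mk'_surjective K)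
  obtain ⟨k0, hk0⟩ := Push.exists_mapSurjective p (P.mapSurjective hπ0)
  rw [Sylow.coe_mapSurjective] at hk0
  set π : G →* Matrix.ProjectiveSpecialLinearGroup (Fin 2) F :=
    (MulAut.conj (Push.pr k0)⁻¹).toMonoidHom.comp π0 with hπdef
  have hπ : Function.Surjective π := (MulAut.conj (Push.pr k0)⁻¹).surjective.comp hπ0
  have hker : ∀ x, π x = 1 ↔ x ∈ K := fun x => by
    show MulAut.conj (Push.pr k0)⁻¹ (e (QuotientGroup.mk' K x)) = 1 ↔ _
    rw [MulEquiv.map_eq_one_iff, MulEquiv.map_eq_one_iff, QuotientGroup.mk'_apply,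
      QuotientGroup.eq_one_iff]
  have hmk : ∀ x y, QuotientGroup.mk' K x = QuotientGroup.mk' K y → π x = π y := fun x y h => by
    show MulAut.conj _ (e (QuotientGroup.mk' K x)) = MulAut.conj _ (e (QuotientGroup.mk' K y))
    rw [h]
  have hPπ : (P : Subgroup G).map π = (uSubgroup F).map (Push.pr (F := F)) := by
    rw [hπdef, ← Subgroup.map_map, hk0]
    show cj (Push.pr k0)⁻¹ (cj (Push.pr k0) _) = _
    rw [CD.cj_cj, inv_mul_cancel, CD.cj_one]
  have hθ : ∀ s : ↥(P : Subgroup G), ∃ a : F, Push.pr (uSL a) = π (s : G) := fun s => by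
    obtain ⟨w, hw, e'⟩ : π (s : G) ∈ (uSubgroup F).map (Push.pr (F := F)) := hPπ ▸ ⟨s, s.2, rfl⟩
    obtain ⟨a, rfl⟩ := mem_uSubgroup_iff.1 hw
    exact ⟨a, e'⟩
  choose θ hθ using hθ
  have hsurj : Function.Surjective θ := fun a => by
    obtain ⟨x, hx, e'⟩ : Push.pr (uSL a) ∈ (P : Subgroup G).map π :=
      hPπ.symm ▸ ⟨_, mem_uSubgroup_iff.2 ⟨a, rfl⟩, rfl⟩
    exact ⟨⟨x, hx⟩, pr_uSL_inj (by rw [hθ ⟨x, hx⟩, e'])⟩
  obtain ⟨g, hg⟩ := hπ (Push.pr (nSL 1))
  have hgi : π g⁻¹ = Push.pr (nSL (-1)) := by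
    rw [map_inv, hg, inv_eq_iff_mul_eq_one, ← map_mul, SL2Natural.nSL_mul_neg one_ne_zero, map_one]
  have hconj : ∀ (a : F), a ^ 2 = 1 → ∀ (h : G), π h = Push.pr (nSL a) → ∀ (s : ↥(P : Subgroup G)),
      π (h * s * h⁻¹) = Push.pr (lSL (-θ s)) := by
    intro a ha h hh s
    have h0 : a ≠ 0 := fun h1 => by rw [h1] at ha; simp at ha
    rw [map_mul, map_mul, map_inv, hh, ← hθ, ← map_mul, SL2Natural.nSL_mul_uSL h0, ha, div_one,
      map_mul, mul_inv_cancel_right]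
  have hKS : K ⊔ (P : Subgroup G) ≠ ⊤ := by
    intro h
    have h1 : (uSubgroup F).map (Push.pr (F := F)) = ⊤ := by
      rw [← hPπ, ← top_le_iff, ← Subgroup.map_top_of_surjective π hπ, ← h, Subgroup.map_sup]
      refine sup_le ?_ le_rfl
      rintro _ ⟨x, hx, rfl⟩
      rw [(hker x).2 hx]; exact one_mem _
    exact Push.pr_lSL_notMem (F := F) (h1 ▸ Subgroup.mem_top _)
  have hkerP : ∀ s ∈ (P : Subgroup G), QuotientGroup.mk' K s = 1 → s ∈ Cfsg.pCore p G := by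
    intro s hs h
    by_contra hn
    exact hKS (hset0.factA K inferInstance fun hle => hn (hle ⟨(QuotientGroup.eq_one_iff _).1 h, hs⟩))
  have hne : ∀ (a : F), a ^ 2 = 1 → ∀ (h : G), π h = Push.pr (nSL a) →
      (cj h (P : Subgroup G)).map (QuotientGroup.mk' K) ≠
        (P : Subgroup G).map (QuotientGroup.mk' K) := by
    intro a ha h hh he
    obtain ⟨s, hs⟩ := hsurj 1
    obtain ⟨x, hx, hxe⟩ : QuotientGroup.mk' K (h * s * h⁻¹) ∈
        (P : Subgroup G).map (QuotientGroup.mk' K) := he ▸ ⟨_, ⟨s, s.2, rfl⟩, rfl⟩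
    have h1 := hmk _ _ hxe
    rw [show π x = π ((⟨x, hx⟩ : ↥(P : Subgroup G)) : G) from rfl, ← hθ, hconj a ha h hh, hs] at h1
    exact neg_ne_zero.2 one_ne_zero (pr_uSL_lSL h1).2
  have hgen := gen_of_ne P hE₂ R hKS hkerP g (hne 1 (one_pow 2) g hg)
  have hgen' := gen_of_ne P hE₂ R hKS hkerP g⁻¹ (hne (-1) (by ring) g⁻¹ hgi)
  rw [← hr] at hgen hgen'
  have hset := hset0
  rw [← hr] at hset
  have hs : Situ p (P : Subgroup G).subtype :=
    ⟨⟨P, hr.symm⟩, hE₁, by rw [hr]; exact hE₂, K, inferInstance, F, inferInstance, inferInstance,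
      n, hF, ⟨e⟩⟩
  refine ⟨g, hgen, hgen', hset, ⟨P, hr.symm⟩, hs, ⟨?_⟩⟩
  have hTK : Cfsg.pCore p G ≤ K := by
    intro t ht
    have htP := hset0.le ht
    have ht' : g * t * g⁻¹ ∈ Cfsg.pCore p G :=
      (inferInstance : (Cfsg.pCore p G).Normal).conj_mem t ht g
    have h1 := hconj 1 (one_pow 2) g hg ⟨t, htP⟩
    rw [show g * ((⟨t, htP⟩ : ↥(P : Subgroup G)) : G) * g⁻¹ =
      ((⟨_, hset0.le ht'⟩ : ↥(P : Subgroup G)) : G) from rfl, ← hθ] at h1
    rw [← hker, show π t = π ((⟨t, htP⟩ : ↥(P : Subgroup G)) : G) from rfl, ← hθ,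
      neg_eq_zero.1 (pr_uSL_lSL h1).2]
    simp [uSL]
  refine
    { K := K, normal := inferInstance, T_le := hTK
      inter := fun s hs => hkerP s s.2 ((QuotientGroup.eq_one_iff _).2 hs)
      ne_top := (congrArg (fun X : Subgroup G => K ⊔ X ≠ ⊤) hr).mpr hKS
      uniq := (congrArg (fun X : Subgroup G => ∃! M : Subgroup G, IsCoatom M ∧ X ≤ M) hr).mpr hE₂
      θ := θ
      θ_mul := fun s t => pr_uSL_inj (by
        rw [hθ, SL2Natural.uSL_add, map_mul, hθ, hθ, ← map_mul]; rfl)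
      θ_surj := hsurj
      θ_eq := fun s => ?_
      card_eq := ⟨n, by rw [Nat.card_eq_fintype_card, hF]⟩
      swap := ?_ }
  · show θ s = 0 ↔ (s : G) ∈ Cfsg.pCore p G
    refine ⟨fun h => hkerP s s.2 ((QuotientGroup.eq_one_iff _).2 ((hker _).1 ?_)), fun h => ?_⟩
    · rw [← hθ, h]; simp [uSL]
    · exact pr_uSL_inj (by rw [hθ, (hker _).2 (hTK h)]; simp [uSL])
  · intro s t hs0 ht0 R' hSR hNR hKR
    have hSR' : (P : Subgroup G) ≤ R' := hr.symm.trans_le hSR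
    have hNR' : Subgroup.normalizer ((P : Subgroup G) : Set G) ≤ R' :=
      (congrArg (fun X : Subgroup G => Subgroup.normalizer (X : Set G)) hr).symm.trans_le hNR
    set a := θ s
    set y := g⁻¹ * ((s : G) * (g * (t : G) * g⁻¹) * (s : G))
    have hy : π y = Push.pr (hSL a⁻¹) := by
      show π (g⁻¹ * ((s : G) * (g * (t : G) * g⁻¹) * (s : G))) = _
      rw [map_mul, map_mul, map_mul, hgi, hconj 1 (one_pow 2) g hg, ← hθ, ← map_mul, ← map_mul,
        ← map_mul, ht0]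
      exact congrArg Push.pr (SL2Natural.nSL_neg_one_mul hs0)
    have hyL : ((y • P : Sylow p G) : Subgroup G) ≤ K ⊔ (P : Subgroup G) := by
      intro z hz
      obtain ⟨x, hx, rfl⟩ := CfsgLib.Classical.mem_sylow_smul (p := p) |>.1 hz
      obtain ⟨x', hx', he'⟩ : π (y * x * y⁻¹) ∈ (P : Subgroup G).map π := by
        rw [hPπ, map_mul, map_mul, map_inv, hy,
          show π x = π ((⟨x, hx⟩ : ↥(P : Subgroup G)) : G) from rfl, ← hθ, ← map_mul,
          SL2Natural.hSL_mul_uSL (inv_ne_zero hs0), map_mul, mul_inv_cancel_right]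
        exact ⟨_, mem_uSubgroup_iff.2 ⟨_, rfl⟩, rfl⟩
      have h1 : y * x * y⁻¹ * x'⁻¹ ∈ K := by rw [← hker, map_mul, map_inv, ← he', mul_inv_cancel]
      have := mul_mem (Subgroup.mem_sup_left (T := (P : Subgroup G)) h1) (Subgroup.mem_sup_right hx')
      rwa [inv_mul_cancel_right] at this
    obtain ⟨k, hk⟩ := MulAction.exists_smul_eq ↥(K ⊔ (P : Subgroup G)) ((y • P).subtype hyL)
      (P.subtype le_sup_right)
    rw [Sylow.smul_subtype] at hk
    have hyx : ((k : G) * y) • P = P := by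
      rw [mul_smul]; exact Sylow.subtype_injective hk
    have hn : (k : G) * y ∈ R' := hNR' (Sylow.smul_eq_iff_mem_normalizer.1 hyx)
    have hkR : (k : G) ∈ R' := sup_le hKR hSR' k.2
    have := mul_mem (inv_mem hkR) hn
    rwa [inv_mul_cancel_left] at this

section

variable {S : Type u} [Group S] [Finite S]

theorem Emb.sect_V (E : Emb p S) (hB : Base p S) :
    Sect E E.V E.Zc (Subgroup.center S) where
  invA := E.V_inv
  invB := E.Zc_inv
  le₁ := E.Zc_le_center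
  le₂ := E.center_le_V
  irred := fun _ hN h1 h2 => E.V_irred hB hN h1 h2
  comm₁ := fun _ ha s => E.comm_V hB ha s
  comm₂ := fun z hz s => by
    rw [comm_eq_one (Subgroup.mem_center_iff.1 hz s).symm]; exact one_mem _
  fixed := fun _ ha _ hs h => E.mem_center_of_comm hB ha hs h
  card := by rw [E.card_quot hB E.gen, mul_comm]
  ne := fun h => by
    obtain ⟨b, hb⟩ := E.exists_notMem
    refine hb ?_
    rw [← E.cen_V hB]
    exact fun v hv => (Subgroup.mem_center_iff.1 (h hv) b).symm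

theorem Pair.sect_X {E E' : Emb p S} (P : Pair E E') (P' : Pair E' E) :
    Sect E (P.X2 E.g0) E.V P.Y where
  invA := P.X2_inv E.gen E.gen'
  invB := E.V_inv
  le₁ := P.V_le_Y
  le₂ := P.Y_le_X2
  irred := fun N hN h1 h2 => by
    obtain ⟨-, -, -, hirr⟩ := (P.X_chief P').1
    exact (hirr (N.map E.ι) (Emb.Inv.map_normal E hN) (Subgroup.map_mono h1)
      (Subgroup.map_mono h2)).imp (fun h => Subgroup.map_injective E.inj h)
      (fun h => Subgroup.map_injective E.inj h)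
  comm₁ := fun _ ha s => P.X2_comm E.gen ha s
  comm₂ := fun y hy s => by
    rw [← commutatorElement_inv, commutatorElement_def s y]
    exact inv_mem (P.comm_mod_V hy s)
  fixed := fun x hx a ha h1 => by
    have hB := P.base
    have hVn := Emb.Inv.normal E E.V_inv
    have hx' : x ∈ ((P.X2 E.g0 : Subgroup S) : Set S) := hx
    rw [(CD.large_sup_inf P.Y_large
      (E.cs_large hB (g := E.g0) P.Y_large P.V_le_Y P.Y_le_T)).1] at hx'
    obtain ⟨y, hy, η, hη, rfl⟩ := hx'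
    refine mul_mem hy (P.V_le_Y ?_)
    have hηs : ⁅η, a⁆ ∈ E.V := by
      have h2 : ⁅y, a⁆ ∈ E.V := E.center_le_V (mem_z2.1 (P.Y_le_z2 hy) a)
      change ⁅y * η, a⁆ ∈ E.V at h1
      rw [comm_mul_left] at h1
      have h3 := hVn.conj_mem _ (mul_mem h1 (inv_mem h2)) y⁻¹
      rw [mul_inv_cancel_right, inv_inv] at h3
      simpa [mul_assoc] using h3
    obtain ⟨w, hw, rfl⟩ := (E.mem_cs P.Y_le_T).1 hη
    obtain ⟨v, hv, x', hx', rfl⟩ := P.mem_Y hw
    have hcv := E.V_inv.2 E.g0 v hv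
    rw [E.c_mul (E.V_le hv) (P.le hx')] at hηs ⊢
    refine mul_mem hcv ?_
    have hx'Z : x' ∈ Subgroup.center S := by
      by_contra hZ
      refine P.not_mem_V E.gen hx' hZ ha ?_
      rw [comm_mul_left] at hηs
      have h2 : ⁅E.c E.g0 v, a⁆ ∈ E.V := E.center_le_V (E.comm_V hB hcv a)
      have h3 := hVn.conj_mem _ (mul_mem hηs (inv_mem h2)) (E.c E.g0 v)⁻¹
      rw [mul_inv_cancel_right, inv_inv] at h3
      simpa [mul_assoc] using h3
    exact E.V_inv.2 E.g0 x' (E.center_le_V hx'Z)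
  card := by
    have := P.normal_V_Y
    have h2 : Nat.card (↥P.Y ⧸ E.V.subgroupOf P.Y) * Nat.card E.V = Nat.card P.Y := by
      rw [← Nat.card_congr (Subgroup.subgroupOfEquivOfLe P.V_le_Y).toEquiv,
        ← Subgroup.card_eq_card_quotient_mul_card_subgroup]
    rw [← h2, ← P.card_Y_quot]
    calc _ = Nat.card (↥P.Y ⧸ E.V.subgroupOf P.Y) * Nat.card E.T * Nat.card E.V := by ring
      _ ≤ _ := Nat.mul_le_mul_right _ (Nat.mul_le_mul_left _ P'.card_T_le)
  ne := fun h => by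
    obtain ⟨x, hx, hxZ⟩ := P.exists_moved
    obtain ⟨a, ha⟩ := E.exists_notMem
    refine P.not_mem_V E.gen hx hxZ ha ?_
    have hy := h (P.gY_le_X2 (E.c_mem_cs P.Y_le_T E.g0 (P.V'_le_Y hx)))
    rw [← commutatorElement_inv, commutatorElement_def a]
    exact inv_mem (P.comm_mod_V hy a)

/-- An element of order prime to `p` commuting with its displacement of a `p`-element fixes it. -/
theorem commute_of_step {G : Type*} [Group G] {x t : G} (hx : (orderOf x).Coprime p)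
    (hc : ∃ j : ℕ, ⁅x, t⁆ ^ p ^ j = 1) (h : Commute x ⁅x, t⁆) : Commute x t := by
  have h1 : ∀ i : ℕ, x ^ i * t * (x ^ i)⁻¹ = ⁅x, t⁆ ^ i * t := by
    intro i
    induction i with
    | zero => simp
    | succ i ih =>
      rw [pow_succ' x, show x * x ^ i * t * (x * x ^ i)⁻¹ = x * (x ^ i * t * (x ^ i)⁻¹) * x⁻¹ by
        group, ih, pow_succ, show x * (⁅x, t⁆ ^ i * t) * x⁻¹ =
          x * ⁅x, t⁆ ^ i * x⁻¹ * (⁅x, t⁆ * t) by simp only [commutatorElement_def]; group,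
        (h.pow_right i).eq, mul_inv_cancel_right, mul_assoc]
  have h2 := h1 (orderOf x)
  rw [pow_orderOf_eq_one, one_mul, inv_one, mul_one] at h2
  obtain ⟨j, hj⟩ := hc
  have h3 : ⁅x, t⁆ = 1 := by
    have ha := orderOf_dvd_of_pow_eq_one hj
    have hb := orderOf_dvd_of_pow_eq_one (right_eq_mul.1 h2)
    exact orderOf_eq_one_iff.1 (Nat.eq_one_of_dvd_coprimes (hx.pow_right j) hb ha)
  exact commutatorElement_eq_one_iff_mul_comm.1 h3

/-- A normal subgroup whose elements of order prime to `p` centralise `O_p(G)` lies in it. -/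
theorem le_pCore_of_cent {G : Type*} [Group G] [Finite G]
    (hC : Subgroup.centralizer (Cfsg.pCore p G : Set G) ≤ Cfsg.pCore p G) {N : Subgroup G}
    (hN : N.Normal)
    (h : ∀ x ∈ N, (orderOf x).Coprime p → ∀ t ∈ Cfsg.pCore p G, Commute x t) :
    N ≤ Cfsg.pCore p G := by
  refine le_pCore hN fun ⟨x, hx⟩ => ?_
  obtain ⟨k, m, hm, hkm⟩ :=
    Nat.exists_eq_pow_mul_and_not_dvd (orderOf_pos x).ne' p (Fact.out : p.Prime).ne_one
  refine ⟨k, Subtype.ext ?_⟩
  show x ^ p ^ k = 1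
  have ho : orderOf (x ^ p ^ k) = m := by
    rw [orderOf_pow_of_dvd (pow_ne_zero _ (Fact.out : p.Prime).ne_zero) ⟨m, hkm⟩, hkm,
      Nat.mul_div_cancel_left _ (pow_pos (Fact.out : p.Prime).pos _)]
  have hcop : (orderOf (x ^ p ^ k)).Coprime p := by
    rw [ho]; exact ((Fact.out : p.Prime).coprime_iff_not_dvd.2 hm).symm
  have hmem := hC (Subgroup.mem_centralizer_iff.2 fun t ht =>
    (h _ (pow_mem hx _) hcop t ht).symm.eq)
  obtain ⟨j, hj⟩ := isPGroup_pCore (G := G) (p := p) ⟨_, hmem⟩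
  exact orderOf_eq_one_iff.1 (Nat.eq_one_of_dvd_coprimes (hcop.pow_right j) dvd_rfl
    (orderOf_dvd_of_pow_eq_one (congrArg Subtype.val hj)))

/-- A noncentral chief factor inside a normal subgroup does not vanish on its hypercentral layers. -/
theorem chief_descend {G : Type*} [Group G] [Finite G] {U W A B : Subgroup G} (hc : Cfsg.IsChiefFactor U W)
    (hnc : ¬ ⁅U, (⊤ : Subgroup G)⁆ ≤ W) (hA : A.Normal) (hAB : ⁅A, (⊤ : Subgroup G)⁆ ≤ B)
    (hUA : ¬ U ⊓ A ≤ W) : ¬ U ⊓ B ≤ W := by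
  intro hUB
  obtain ⟨hlt, hUn, hWn, hirr⟩ := hc
  have hUAn : (U ⊓ A).Normal := Subgroup.normal_inf_normal U A
  have he : (U ⊓ A) ⊔ W = U := by
    refine ((hirr _ (Subgroup.sup_normal _ _) le_sup_right (sup_le inf_le_left hlt.le))).resolve_left
      fun h => hUA (le_sup_left.trans h.le)
  refine hnc ?_
  rw [← he]
  refine Subgroup.commutator_le.2 fun u hu x hx => ?_
  have hu' : u ∈ (((U ⊓ A) ⊔ W : Subgroup G) : Set G) := hu
  rw [Subgroup.mul_normal] at hu'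
  obtain ⟨a, ha, w, hw, rfl⟩ := hu'
  rw [comm_mul_left]
  have h1 : ⁅a, x⁆ ∈ U ⊓ B := by
    refine ⟨?_, hAB (Subgroup.commutator_mem_commutator ha.2 hx)⟩
    rw [show ⁅a, x⁆ = a * (x * a⁻¹ * x⁻¹) by group]
    exact mul_mem ha.1 (hUn.conj_mem _ (inv_mem ha.1) x)
  refine mul_mem (hWn.conj_mem _ ?_ a) (hUB h1)
  rw [show ⁅w, x⁆ = w * (x * w⁻¹ * x⁻¹) by group]
  exact mul_mem hw (hWn.conj_mem _ (inv_mem hw) x)

/-- The chief factors meeting a natural section are natural. -/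
theorem natural_of_rep (E : Emb p S) {F : Type} [Field F] [Finite F] {A B Z0 : Subgroup S}
    (D : Sect E A B Z0) {ρ : E.G →* Matrix.SpecialLinearGroup (Fin 2) F} (hρ : Function.Surjective ρ)
    {f : S → (Fin 2 → F)} (hfm : ∀ a ∈ A, ∀ b ∈ A, f (a * b) = f a + f b)
    (hfB : ∀ a ∈ A, (f a = 0 ↔ a ∈ B)) (hfs : ∀ v, ∃ a ∈ A, f a = v)
    (hfc : ∀ h, ∀ a ∈ A, f (E.c h a) = (ρ h).1.mulVec (f a))
    (hρT : E.T0 ≤ ρ.ker) {U W : Subgroup E.G} [W.Normal] (hc : Cfsg.IsChiefFactor U W)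
    (hWT : W ≤ E.T0) (hUA : ¬ U ⊓ A.map E.ι ≤ W) (hUB : U ⊓ B.map E.ι ≤ W) :
    Cfsg.IsNaturalSL2Module F (U.map (QuotientGroup.mk' W)) (⊤ : Subgroup (E.G ⧸ W)) := by
  obtain ⟨hlt, hUn, hWn, hirr⟩ := hc
  have hAn := Emb.Inv.map_normal E D.invA
  have hBn := Emb.Inv.map_normal E D.invB
  set q := QuotientGroup.mk' W
  have hf1 : f 1 = 0 := (hfB 1 (one_mem _)).2 (one_mem _)
  have hfinv : ∀ a ∈ A, f a⁻¹ = -f a := fun a ha => by
    refine eq_neg_of_add_eq_zero_left ?_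
    rw [← hfm _ (inv_mem ha) a ha, inv_mul_cancel, hf1]
  -- the subgroups of the section cut out by `U` and by `W`
  have hsect : ∀ N : Subgroup E.G, N.Normal →
      (A ⊓ N.comap E.ι) ⊔ B = B ∨ (A ⊓ N.comap E.ι) ⊔ B = A := by
    intro N hN
    refine D.irred _ ⟨sup_le (inf_le_left.trans D.invA.1) D.invB.1, fun h x hx => ?_⟩ le_sup_right
      (sup_le inf_le_left D.le)
    have : (A ⊓ N.comap E.ι) ⊔ B = ((A.map E.ι ⊓ N) ⊔ B.map E.ι).comap E.ι := by
      refine Subgroup.map_injective E.inj ?_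
      have h1 : (A.map E.ι ⊓ N) ⊔ B.map E.ι ≤ E.ι.range :=
        sup_le (inf_le_left.trans (Subgroup.map_le_range _ _)) (Subgroup.map_le_range _ _)
      rw [Subgroup.map_comap_eq, inf_eq_right.2 h1, Subgroup.map_sup, Subgroup.map_inf _ _ _ E.inj,
        Subgroup.map_comap_eq, ← inf_assoc, inf_eq_left.2 (Subgroup.map_le_range _ _)]
    rw [this, Subgroup.mem_comap] at hx ⊢
    have hxT : x ∈ E.T := by
      refine (sup_le (inf_le_left.trans D.invA.1) D.invB.1 :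
        (A ⊓ N.comap E.ι) ⊔ B ≤ E.T) ?_
      rw [this]; exact hx
    rw [E.ι_c hxT]
    have : (A.map E.ι ⊓ N).Normal := Subgroup.normal_inf_normal _ _
    exact (Subgroup.sup_normal (A.map E.ι ⊓ N) (B.map E.ι)).conj_mem _ hx h
  have hUtop : (A ⊓ U.comap E.ι) ⊔ B = A := by
    refine (hsect U hUn).resolve_left fun h => hUA fun x hx => hUB ⟨hx.1, ?_⟩
    obtain ⟨a, ha, rfl⟩ := hx.2
    exact ⟨a, h ▸ Subgroup.mem_sup_left ⟨ha, hx.1⟩, rfl⟩
  have hWbot : (A ⊓ W.comap E.ι) ⊔ B = B := by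
    refine (hsect W hWn).resolve_right fun h => hUA fun x hx => ?_
    obtain ⟨a, ha, rfl⟩ := hx.2
    have : a ∈ (((A ⊓ W.comap E.ι) ⊔ B : Subgroup S) : Set S) := by rw [h]; exact ha
    have hBn' := Emb.Inv.normal E D.invB
    rw [Subgroup.mul_normal] at this
    obtain ⟨w, hw, b, hb, rfl⟩ := this
    rw [map_mul] at hx ⊢
    refine mul_mem hw.2 (hUB ⟨?_, ⟨b, hb, rfl⟩⟩)
    have := mul_mem (inv_mem (hlt.le (show E.ι w ∈ W from hw.2))) hx.1
    rwa [inv_mul_cancel_left] at this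
  have hUsup : (U ⊓ A.map E.ι) ⊔ W = U := by
    have : (U ⊓ A.map E.ι).Normal := Subgroup.normal_inf_normal _ _
    exact ((hirr _ (Subgroup.sup_normal _ _) le_sup_right (sup_le inf_le_left hlt.le))).resolve_left
      fun h => hUA (le_sup_left.trans h.le)
  have hwell : ∀ a ∈ A, ∀ a' ∈ A, q (E.ι a) = q (E.ι a') → f a = f a' := by
    intro a ha a' ha' e
    have h1 : a⁻¹ * a' ∈ B := hWbot ▸ Subgroup.mem_sup_left ⟨A.mul_mem (A.inv_mem ha) ha',
      show E.ι (a⁻¹ * a') ∈ W by rw [map_mul, map_inv, ← QuotientGroup.eq]; exact e⟩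
    have h2 := (hfB _ (mul_mem (inv_mem ha) ha')).2 h1
    rw [hfm _ (inv_mem ha) a' ha', hfinv a ha, neg_add_eq_zero] at h2
    exact h2
  have hrep : ∀ v : ↥(U.map q), ∃ a ∈ A, E.ι a ∈ U ∧ q (E.ι a) = (v : E.G ⧸ W) := by
    rintro ⟨_, u, hu, rfl⟩
    have hu' : u ∈ (((U ⊓ A.map E.ι) ⊔ W : Subgroup E.G) : Set E.G) := by rw [hUsup]; exact hu
    rw [Subgroup.mul_normal] at hu'
    obtain ⟨_, ⟨h1, a, ha, rfl⟩, w, hw, rfl⟩ := hu'
    refine ⟨a, ha, h1, ?_⟩
    show q (E.ι a) = q (E.ι a * w)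
    rw [map_mul, show q w = 1 from (QuotientGroup.eq_one_iff _).2 hw, mul_one]
  choose r hrA hrU hrq using hrep
  let ψ : Additive ↥(U.map q) →+ (Fin 2 → F) :=
    AddMonoidHom.mk' (fun m => f (r (Additive.toMul m))) fun m n => by
      rw [← hfm _ (hrA _) _ (hrA _)]
      refine hwell _ (hrA _) _ (mul_mem (hrA _) (hrA _)) ?_
      rw [hrq, map_mul, map_mul, hrq, hrq]
      rfl
  have hψinj : Function.Injective ψ := by
    intro m n hmn
    refine Additive.toMul.injective (Subtype.ext ?_)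
    have hb : (r (Additive.toMul m))⁻¹ * r (Additive.toMul n) ∈ B := by
      rw [← hfB _ (mul_mem (inv_mem (hrA _)) (hrA _)), hfm _ (inv_mem (hrA _)) _ (hrA _),
        hfinv _ (hrA _), neg_add_eq_zero]
      exact hmn
    rw [← hrq, ← hrq, QuotientGroup.mk'_apply, QuotientGroup.mk'_apply, QuotientGroup.eq]
    refine hUB ⟨U.mul_mem (U.inv_mem (hrU _)) (hrU _), _, hb, ?_⟩
    rw [map_mul, map_inv]
  have hψsurj : Function.Surjective ψ := by
    intro v
    obtain ⟨a, ha, rfl⟩ := hfs v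
    have ha' : a ∈ (((A ⊓ U.comap E.ι) ⊔ B : Subgroup S) : Set S) := by rw [hUtop]; exact ha
    have hBn' := Emb.Inv.normal E D.invB
    rw [Subgroup.mul_normal] at ha'
    obtain ⟨u, hu, b, hb, rfl⟩ := ha'
    refine ⟨Additive.ofMul ⟨q (E.ι u), ⟨_, hu.2, rfl⟩⟩, ?_⟩
    show f (r _) = _
    rw [hfm u hu.1 b (D.le hb), (hfB b (D.le hb)).2 hb, add_zero]
    exact hwell _ (hrA _) u hu.1 (hrq _)
  have hWk : W ≤ ρ.ker := hWT.trans hρT
  let ρ' : ↥(⊤ : Subgroup (E.G ⧸ W)) →* Matrix.SpecialLinearGroup (Fin 2) F :=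
    (QuotientGroup.lift W ρ hWk).comp (⊤ : Subgroup (E.G ⧸ W)).subtype
  have hUqn : (U.map q).Normal := hUn.map q (QuotientGroup.mk'_surjective W)
  have hact : ∀ (h : E.G) (v : ↥(U.map q)), ∃ w : ↥(U.map q),
      (w : E.G ⧸ W) = q h * v * (q h)⁻¹ ∧
        ψ (Additive.ofMul w) = (ρ h).1.mulVec (ψ (Additive.ofMul v)) := by
    intro h v
    refine ⟨⟨_, hUqn.conj_mem _ v.2 (q h)⟩, rfl, ?_⟩
    show f (r _) = (ρ h).1.mulVec (f (r _))
    rw [← hfc h _ (hrA _)]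
    refine hwell _ (hrA _) _ (D.invA.2 h _ (hrA _)) ?_
    rw [hrq, E.ι_c (D.invA.1 (hrA _)), map_mul, map_mul, map_inv, hrq]
    rfl
  refine ⟨by rw [Subgroup.normalizer_eq_top_iff.2 hUqn], ρ', AddEquiv.ofBijective ψ ⟨hψinj, hψsurj⟩,
    ?_, ?_, ?_⟩
  · intro g
    obtain ⟨x, rfl⟩ := hρ g
    exact ⟨⟨q x, trivial⟩, rfl⟩
  · ext ⟨y, hy⟩
    obtain ⟨x, rfl⟩ := QuotientGroup.mk'_surjective W y
    rw [MonoidHom.mem_ker, Subgroup.mem_subgroupOf]
    show ρ x = 1 ↔ q x ∈ Subgroup.centralizer ((U.map q : Subgroup _) : Set (E.G ⧸ W))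
    refine ⟨fun hx v hv => ?_, fun hx => ?_⟩
    · obtain ⟨w, hw, hψw⟩ := hact x ⟨v, hv⟩
      rw [hx] at hψw
      rw [Additive.ofMul.injective (hψinj (hψw.trans (Matrix.one_mulVec _)))] at hw
      exact (mul_inv_eq_iff_eq_mul.1 hw.symm).symm
    · refine Subtype.ext (Matrix.ext_of_mulVec_single fun i => ?_)
      obtain ⟨m, hm⟩ := hψsurj (Pi.single i 1)
      obtain ⟨w, hw, hψw⟩ := hact x (Additive.toMul m)
      have : w = Additive.toMul m := Subtype.ext (by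
        rw [hw, ← hx _ (Additive.toMul m).2, mul_inv_cancel_right])
      rw [this, ofMul_toMul, hm] at hψw
      exact hψw.symm.trans (Matrix.one_mulVec _).symm
  · rintro ⟨y, hy⟩ v
    obtain ⟨x, rfl⟩ := QuotientGroup.mk'_surjective W y
    obtain ⟨w, hw, hψw⟩ := hact x v
    exact ⟨w, hw, hψw⟩

end

section

variable {S : Type u} [Group S] [Finite S]

/-- The hypercentral layers above `X`: descent and centralising. -/
theorem iter_le_normal (E : Emb p S) (k : ℕ) :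
    (iterCommutator E.T0 (⊤ : Subgroup E.G) k).Normal ∧
      iterCommutator E.T0 (⊤ : Subgroup E.G) k ≤ E.T0 := by
  have := E.setup.normal
  induction k with
  | zero => exact ⟨E.setup.normal, le_rfl⟩
  | succ k ih =>
    have := ih.1
    exact ⟨Subgroup.commutator_normal _ _, (Subgroup.commutator_le_left _ _).trans ih.2⟩

/-- An element of order prime to `p` centralising a deep layer centralises `T`. -/
theorem commute_of_iter (E : Emb p S) {x : E.G} (hx : (orderOf x).Coprime p) {k : ℕ}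
    (hk : ∀ t ∈ iterCommutator E.T0 (⊤ : Subgroup E.G) k, Commute x t) :
    ∀ t ∈ E.T0, Commute x t := by
  induction k with
  | zero => exact hk
  | succ k ih =>
    refine ih fun t ht => ?_
    have h : ⁅x, t⁆ ∈ iterCommutator E.T0 (⊤ : Subgroup E.G) (k + 1) := by
      rw [← commutatorElement_inv]
      exact inv_mem (Subgroup.commutator_mem_commutator ht (Subgroup.mem_top x))
    obtain ⟨j, hj⟩ := (E.setup.isP.to_le E.setup.le) ⟨_, (iter_le_normal E (k + 1)).2 h⟩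
    exact commute_of_step hx ⟨j, congrArg Subtype.val hj⟩ (hk _ h)

/-- Descent along the hypercentral layers. -/
theorem chief_descend_iter (E : Emb p S) {U W : Subgroup E.G} (hc : Cfsg.IsChiefFactor U W)
    (hnc : ¬ ⁅U, (⊤ : Subgroup E.G)⁆ ≤ W) (hU : U ≤ E.T0) :
    ∀ k, ¬ U ⊓ iterCommutator E.T0 (⊤ : Subgroup E.G) k ≤ W
  | 0 => fun h => hc.1.not_ge ((le_inf le_rfl hU).trans h)
  | k + 1 =>
    chief_descend hc hnc (iter_le_normal E k).1 le_rfl (chief_descend_iter E hc hnc hU k)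

/-- An element in the kernel of a representation displaces the section into its bottom. -/
theorem comm_mem_of_ker (E : Emb p S) {F : Type} [Field F] {A B Z0 : Subgroup S}
    (D : Sect E A B Z0) {ρ : E.G →* Matrix.SpecialLinearGroup (Fin 2) F} {f : S → (Fin 2 → F)}
    (hfm : ∀ a ∈ A, ∀ b ∈ A, f (a * b) = f a + f b) (hfB : ∀ a ∈ A, (f a = 0 ↔ a ∈ B))
    (hfc : ∀ h, ∀ a ∈ A, f (E.c h a) = (ρ h).1.mulVec (f a)) {x : E.G} (hx : ρ x = 1) {a : S}
    (ha : a ∈ A) : ∃ b ∈ B, ⁅x, E.ι a⁆ = E.ι b := by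
  refine ⟨E.c x a * a⁻¹, (hfB _ (mul_mem (D.invA.2 x a ha) (inv_mem ha))).1 ?_, ?_⟩
  · have h1 : f (E.c x a) = f a := by
      rw [hfc x a ha, hx]; exact Matrix.one_mulVec _
    rw [hfm _ (D.invA.2 x a ha) _ (inv_mem ha), h1, ← hfm _ ha _ (inv_mem ha), mul_inv_cancel]
    exact (hfB 1 (one_mem _)).2 (one_mem _)
  · rw [map_mul, map_inv, E.ι_c (D.invA.1 ha), commutatorElement_def]

theorem surjective_of_rep (E : Emb p S) {F : Type} [Field F] [Finite F] (Q : Par E F)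
    {ρ : E.G →* Matrix.SpecialLinearGroup (Fin 2) F} (hu : ∀ s, ρ (E.ι s) = uSL (Q.θ s))
    (hl : ∀ s, ρ (E.g0 * E.ι s * E.g0⁻¹) = lSL (-Q.θ s)) : Function.Surjective ρ := by
  rw [← MonoidHom.range_eq_top]
  refine SL2Natural.eq_top (fun a => ?_) ?_
  · obtain ⟨s, rfl⟩ := Q.θ_surj a
    exact ⟨_, hu s⟩
  · rw [nSL]
    refine mul_mem (mul_mem ?_ ?_) ?_
    · obtain ⟨s, hs⟩ := Q.θ_surj 1
      exact ⟨_, hs ▸ hu s⟩
    · obtain ⟨s, hs⟩ := Q.θ_surj 1
      refine ⟨E.g0 * E.ι s * E.g0⁻¹, ?_⟩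
      rw [hl, hs, inv_one]
    · obtain ⟨s, hs⟩ := Q.θ_surj 1
      exact ⟨_, hs ▸ hu s⟩

theorem T0_le_ker (E : Emb p S) {F : Type} [Field F] [Finite F] (Q : Par E F)
    {ρ : E.G →* Matrix.SpecialLinearGroup (Fin 2) F} (hu : ∀ s, ρ (E.ι s) = uSL (Q.θ s)) :
    E.T0 ≤ ρ.ker := by
  intro x hx
  obtain ⟨t, ht, rfl⟩ : x ∈ E.T.map E.ι := by rw [E.T0_eq]; exact hx
  rw [MonoidHom.mem_ker, hu, (Q.θ_eq t).2 ht, SL2Natural.uSL_zero]

/-- Representations with the same root elements agree. -/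
theorem rep_unique (E : Emb p S) {F : Type} [Field F] [Finite F] (Q : Par E F)
    {ρ ρ' : E.G →* Matrix.SpecialLinearGroup (Fin 2) F} (hu : ∀ s, ρ (E.ι s) = uSL (Q.θ s))
    (hl : ∀ s, ρ (E.g0 * E.ι s * E.g0⁻¹) = lSL (-Q.θ s))
    (hu' : ∀ s, ρ' (E.ι s) = uSL (Q.θ s))
    (hl' : ∀ s, ρ' (E.g0 * E.ι s * E.g0⁻¹) = lSL (-Q.θ s)) : ρ = ρ' := by
  obtain ⟨b, hb⟩ := E.exists_notMem
  have h : MonoidHom.eqLocus ρ ρ' = ⊤ := by
    refine E.gen _ ⟨b, rfl⟩ hb _ (show ρ _ = ρ' _ by rw [hu, hu']) ?_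
    rintro _ ⟨_, ⟨s, rfl⟩, rfl⟩
    show ρ (E.g0 * E.ι s * E.g0⁻¹) = ρ' (E.g0 * E.ι s * E.g0⁻¹)
    rw [hl, hl']
  exact MonoidHom.ext fun x => (h ▸ Subgroup.mem_top x : x ∈ MonoidHom.eqLocus ρ ρ')

/-- The quotient and the noncentral chief factors. -/
theorem Emb.quotient_and_factors {E : Emb p S} (hB : Base p S)
    (htwo : p = 2 → ∀ z ∈ Subgroup.center S, z ^ p = 1)
    (hW : ¬ ((vJoin p S ⊔ cen (vJoin p S)).map E.ι).Normal)
    (hC : Subgroup.centralizer (E.T0 : Set E.G) ≤ E.T0) (hT0 : E.T0 = Cfsg.pCore p E.G)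
    {F : Type} [Field F] [Finite F] (Q : Par E F) :
    (∃ ρ : E.G →* Matrix.SpecialLinearGroup (Fin 2) F, Function.Surjective ρ ∧ ρ.ker = E.T0 ∧
        (∀ s, ρ (E.ι s) = uSL (Q.θ s)) ∧
        ∀ s, ρ (E.g0 * E.ι s * E.g0⁻¹) = lSL (-Q.θ s)) ∧
      ∀ (U W : Subgroup E.G) [W.Normal], U ≤ E.T0 → Cfsg.IsChiefFactor U W →
        ¬ ⁅U, (⊤ : Subgroup E.G)⁆ ≤ W →
        Cfsg.IsNaturalSL2Module F (U.map (QuotientGroup.mk' W)) (⊤ : Subgroup (E.G ⧸ W)) := by
  obtain ⟨ρ, f, hfm, hfB, hfs, hfc, hu, hl⟩ := (E.sect_V hB).exists_rep Q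
  have hρs := surjective_of_rep E Q hu hl
  have hρT := T0_le_ker E Q hu
  have hVZ := Subgroup.map_mono (f := E.ι) (E.sect_V hB).le
  have hZc : ∀ (x : E.G) (b : S), b ∈ E.Zc → Commute x (E.ι b) := fun x b hb =>
    Subgroup.mem_center_iff.1 hb.2 x
  have hVcomm : ∀ x ∈ ρ.ker, (orderOf x).Coprime p → ∀ v ∈ E.V, Commute x (E.ι v) := by
    intro x hx hxo v hv
    obtain ⟨b, hb, he⟩ := comm_mem_of_ker E (E.sect_V hB) hfm hfB hfc hx hv
    obtain ⟨j, hj⟩ := E.setup_isP b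
    refine commute_of_step hxo ⟨j, by rw [he, ← map_pow, hj, map_one]⟩ ?_
    rw [he]; exact hZc x b hb
  have hVbot : ⁅E.Zc.map E.ι, (⊤ : Subgroup E.G)⁆ = ⊥ := (E.V_chief hB).2
  have hlowV : ∀ (U W : Subgroup E.G) [W.Normal], U ≤ E.T0 → Cfsg.IsChiefFactor U W →
      ¬ ⁅U, (⊤ : Subgroup E.G)⁆ ≤ W → ¬ U ⊓ E.V.map E.ι ≤ W →
      Cfsg.IsNaturalSL2Module F (U.map (QuotientGroup.mk' W)) (⊤ : Subgroup (E.G ⧸ W)) := by
    intro U W _ hU hc hnc hUV
    refine natural_of_rep E (E.sect_V hB) hρs hfm hfB hfs hfc hρT hc (hc.1.le.trans hU) hUV ?_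
    by_contra h
    exact chief_descend hc hnc (Emb.Inv.map_normal E E.Zc_inv) hVbot.le h
      (inf_le_right.trans bot_le)
  rcases partner_of_not_normal hB E hW with ⟨E', e, he, heT⟩ | ⟨E', P0⟩
  · -- some `V'` is not in `T`
    obtain ⟨k, hi⟩ := E.iter_le E.V_inv (e := e)
      (fun t _ => E.center_le_V (E'.comm_V hB he t)) heT
    refine ⟨⟨ρ, hρs, le_antisymm ?_ hρT, hu, hl⟩, fun U W _ hU hc hnc => hlowV U W hU hc hnc fun h => ?_⟩
    · rw [hT0] at hC ⊢
      refine le_pCore_of_cent hC inferInstance fun x hx hxo t ht => ?_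
      refine commute_of_iter E hxo (k := k) (fun y hy => ?_) t (hT0 ▸ ht)
      obtain ⟨v, hv, rfl⟩ := hi hy
      exact hVcomm x hx hxo v hv
    · exact chief_descend_iter E hc hnc hU k ((inf_le_inf_left _ hi).trans h)
  · -- a pair
    have hp2 : p ≠ 2 := fun h => P0.two_false h (htwo h)
    have P' : Pair E' E := P0.swap (by
      by_contra h
      push Not at h
      exact P0.sub_false hp2 h)
    have DX := P0.sect_X P'
    obtain ⟨ρ', f', hfm', hfB', hfs', hfc', hu', hl'⟩ := DX.exists_rep Q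
    have hρe : ρ' = ρ := rep_unique E Q hu' hl' hu hl
    have hXi := P0.X2_inv (g := E.g0) E.gen E.gen'
    obtain ⟨v, hv, hvZ⟩ := P'.exists_moved
    obtain ⟨-, heT⟩ := P'.moved E'.gen hv hvZ
    obtain ⟨k, hk⟩ := E.iter_le hXi (e := E'.c E'.g0 v) (fun t _ => by
      have h1 := P'.step3 E'.gen (E'.c_mem_cs P'.Y_le_T E'.g0 (P'.V'_le_Y hv)) t
      exact P0.Y_le_X2 (show _ ∈ E.V ⊔ E'.V by rw [sup_comm]; exact h1)) heT
    refine ⟨⟨ρ, hρs, le_antisymm ?_ hρT, hu, hl⟩, fun U W _ hU hc hnc => ?_⟩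
    · rw [hT0] at hC ⊢
      refine le_pCore_of_cent hC inferInstance fun x hx hxo t ht => ?_
      refine commute_of_iter E hxo (k := k) (fun y hy => ?_) t (hT0 ▸ ht)
      obtain ⟨a, ha, rfl⟩ := hk hy
      obtain ⟨b, hb, he⟩ := comm_mem_of_ker E DX hfm' hfB' hfc' (hρe ▸ hx) ha
      obtain ⟨j, hj⟩ := E.setup_isP b
      refine commute_of_step hxo ⟨j, by rw [he, ← map_pow, hj, map_one]⟩ ?_
      rw [he]; exact hVcomm x hx hxo b hb
    · by_cases hUV : U ⊓ E.V.map E.ι ≤ W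
      · subst hρe
        exact natural_of_rep E DX hρs hfm' hfB' hfs' hfc' hρT hc (hc.1.le.trans hU)
          (fun h => chief_descend_iter E hc hnc hU k ((inf_le_inf_left _ hk).trans h)) hUV
      · exact hlowV U W hU hc hnc hUV

end

/-- Rank one pushing up when `W` is not normal: the quotient and the chief factors. -/
theorem rankOne_quotient_of {G : Type u} [Group G] [Finite G] (P : Sylow p G)
    (hE₁ : Subgroup.centralizer (Cfsg.pCore p G : Set G) ≤ Cfsg.pCore p G)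
    (hE₂ : ∃! M : Subgroup G, IsCoatom M ∧ (P : Subgroup G) ≤ M) (K : Subgroup G) [K.Normal]
    (F : Type) [Field F] [Fintype F] (n : ℕ) (hF : Fintype.card F = p ^ n)
    (hE₃ : Nonempty (G ⧸ K ≃* Matrix.ProjectiveSpecialLinearGroup (Fin 2) F))
    (hz : ¬ (Subgroup.center ↥(P : Subgroup G)).map (P : Subgroup G).subtype ≤ Subgroup.center G)
    (hj : ¬ (thompsonSubgroupA ↥(P : Subgroup G)).map (P : Subgroup G).subtype ≤ pCore p G)
    (hB : Base p ↥(P : Subgroup G))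
    (htwo : p = 2 → ∀ z ∈ Subgroup.center ↥(P : Subgroup G), z ^ p = 1)
    (hW : ¬ ((vJoin p ↥(P : Subgroup G) ⊔ cen (vJoin p ↥(P : Subgroup G))).map
      (P : Subgroup G).subtype).Normal) :
    Nonempty (G ⧸ Cfsg.pCore p G ≃* Matrix.SpecialLinearGroup (Fin 2) F) ∧
      ∀ (U W : Subgroup G) [W.Normal], U ≤ Cfsg.pCore p G → Cfsg.IsChiefFactor U W →
        ¬ ⁅U, (⊤ : Subgroup G)⁆ ≤ W →
        Cfsg.IsNaturalSL2Module F (U.map (QuotientGroup.mk' W)) (⊤ : Subgroup (G ⧸ W)) := by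
  obtain ⟨g, h, h', hset, hs, hsi, ⟨Q⟩⟩ := exists_par P hE₁ hE₂ K F n hF hE₃ hz hj
  obtain ⟨⟨ρ, hρ, hk, -⟩, hfac⟩ := Emb.quotient_and_factors hB htwo hW hE₁ rfl Q
  exact ⟨⟨(QuotientGroup.quotientMulEquivOfEq hk.symm).trans
    (QuotientGroup.quotientKerEquivOfSurjective ρ hρ)⟩, hfac⟩

/-- Rank one pushing up: the quotient by `O_p(G)` and the chief factors. -/
theorem rankOne_quotient {G : Type u} [Group G] [Finite G] (P : Sylow p G)
    (hE₁ : Subgroup.centralizer (Cfsg.pCore p G : Set G) ≤ Cfsg.pCore p G)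
    (hE₂ : ∃! M : Subgroup G, IsCoatom M ∧ (P : Subgroup G) ≤ M) (K : Subgroup G) [K.Normal]
    (F : Type) [Field F] [Fintype F] (n : ℕ) (hF : Fintype.card F = p ^ n)
    (hE₃ : Nonempty (G ⧸ K ≃* Matrix.ProjectiveSpecialLinearGroup (Fin 2) F))
    (hd : ∀ T : Subgroup ↥(P : Subgroup G), T ≠ ⊥ → T.Characteristic →
      ¬ (T.map (P : Subgroup G).subtype).Normal) :
    Nonempty (G ⧸ Cfsg.pCore p G ≃* Matrix.SpecialLinearGroup (Fin 2) F) ∧
      ∀ (U W : Subgroup G) [W.Normal], U ≤ Cfsg.pCore p G → Cfsg.IsChiefFactor U W →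
        ¬ ⁅U, (⊤ : Subgroup G)⁆ ≤ W →
        Cfsg.IsNaturalSL2Module F (U.map (QuotientGroup.mk' W)) (⊤ : Subgroup (G ⧸ W)) := by
  obtain ⟨g, h, h', hset, hz, hj, H⟩ := exists_hd P
    ⟨⟨P, (Subgroup.range_subtype _).symm⟩, hE₁, by rw [Subgroup.range_subtype]; exact hE₂, K,
      inferInstance, F, inferInstance, inferInstance, n, hF, hE₃⟩ hd
  exact rankOne_quotient_of P hE₁ hE₂ K F n hF hE₃ hz hj H.base (fun _ => H.zp) H.not_normal

end CfsgLib.LocalEven.GN
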