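import Mathlib

/-!
An identity between two unipotent endomorphisms of an abelian group of exponent `p`.
-/

set_option autoImplicit false

namespace CfsgLib.LocalEven.GN

/-- Relations between `N = a - 1` and `M = b - 1`. -/
structure OpRel {A : Type*} [AddCommGroup A] (N M : A →+ A) : Prop where
  nnn : ∀ x, N (N (N x)) = 0
  mmm : ∀ x, M (M (M x)) = 0
  nnmm : ∀ x, N (N (M (M x))) = 0
  mnmm : ∀ x, M (N (M (M x))) = -M (M x)
  nmnn : ∀ x, N (M (N (N x))) = -N (N x)

variable {A : Type*} [AddCommGroup A] {p : ℕ} {N M : A →+ A}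

theorem pow_apply_unipotent (f : ℕ → A → A) (hf0 : ∀ x, f 0 x = x)
    (hfs : ∀ i x, f (i + 1) x = f 1 (f i x)) (hf1 : ∀ x, f 1 x = x + N x)
    (h3 : ∀ x, N (N (N x)) = 0) :
    ∀ (i : ℕ) (x : A), f i x = x + i • N x + i.choose 2 • N (N x) := by
  intro i
  induction i with
  | zero => intro x; simp [hf0]
  | succ i ih =>
    intro x
    have hc : (i + 1).choose 2 = i.choose 2 + i := by
      rw [Nat.choose_succ_succ' i 1, Nat.choose_one_right, add_comm]
    rw [hfs, ih, hf1, map_add, map_add, map_nsmul, map_nsmul, h3, smul_zero, hc]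
    module

theorem two_choose (n : ℕ) : 2 * (n.choose 2 : ℤ) = (n : ℤ) * (n - 1) := by
  induction n with
  | zero => simp
  | succ i ih =>
    rw [Nat.choose_succ_succ' i 1, Nat.choose_one_right]
    push_cast
    linear_combination ih

/-- One instance of the identity. -/
theorem unipotent_step (R : OpRel N M) (hp : ∀ v : A, (p : ℤ) • v = 0) {m n : ℕ}
    (hmn : p ∣ n * m + 1) {x y : A} (hx : N x = 0) (hy : M y = 0)
    (h : x + m • M x + m.choose 2 • M (M x) = y + n • N y + n.choose 2 • N (N y)) :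
    N (N y) = (m : ℤ) • N (N (M x)) ∧
      (2 * m : ℤ) • (M x + M (N (M x))) + ((m : ℤ) * (m + 1)) • M (M x) -
        ((m : ℤ) - 1) • M (N (N (M x))) = 0 := by
  obtain ⟨c, hc⟩ := hmn
  have hc' : ((n : ℤ) * m + 1) = (p : ℤ) * c := by exact_mod_cast hc
  have hq : ∀ v : A, ((n : ℤ) * m + 1) • v = 0 := fun v => by rw [hc', mul_comm, mul_smul, hp, smul_zero]
  have cn := two_choose n
  have cm := two_choose m
  simp only [← natCast_zsmul] at h
  have E1 := congrArg (fun v => N (N v)) h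
  simp only [map_add, map_zsmul, map_zero, hx, R.nnn, R.nnmm, smul_zero, add_zero, zero_add] at E1
  have E2 := congrArg (fun v => M (N v)) h
  simp only [map_add, map_zsmul, map_zero, hx, R.nnn, R.mnmm, smul_zero, add_zero, zero_add] at E2
  have E3 := congrArg M h
  simp only [map_add, map_zsmul, hy, R.mmm, smul_zero, add_zero, zero_add] at E3
  rw [← E1] at E2 E3
  simp only [map_zsmul] at E2 E3
  refine ⟨E1.symm, ?_⟩
  have q1 := hq (M (N (M x)))
  have q2 := hq (M (M x))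
  have q3 := hq (M (N (N (M x))))
  have k1 : (2 * (n.choose 2 : ℤ)) • M (N (N (M x))) = ((n : ℤ) * (n - 1)) • M (N (N (M x))) := by
    rw [cn]
  have k2 : (2 * (m.choose 2 : ℤ)) • M (M x) = ((m : ℤ) * (m - 1)) • M (M x) := by rw [cm]
  linear_combination (norm := module) (2 * m : ℤ) • E3 - (2 * m * n : ℤ) • E2
    + (2 * m : ℤ) • q1
    - ((m : ℤ) * (m - 1)) • q2 - (((n : ℤ) * m - 1) + m) • q3
    + ((m : ℤ) * m) • k1 - ((n : ℤ) * m) • k2

theorem eq_zero_of_zsmul (hpp : p.Prime) (hp : ∀ v : A, (p : ℤ) • v = 0) {k : ℕ}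
    (hk : ¬ p ∣ k) {v : A} (h : (k : ℤ) • v = 0) : v = 0 := by
  have e : (1 : ℤ) = (k : ℤ) * Nat.gcdA k p + (p : ℤ) * Nat.gcdB k p := by
    rw [← Nat.gcd_eq_gcd_ab, ((hpp.coprime_iff_not_dvd.2 hk).symm).gcd_eq_one, Nat.cast_one]
  rw [← one_smul ℤ v, e, add_smul, mul_comm, mul_smul, h, smul_zero, mul_comm, mul_smul, hp,
    smul_zero, add_zero]

/-- If the identity holds for `m = 1, 2, 3` then `N² y = 0` in the first instance. -/
theorem unipotent_main (R : OpRel N M) (hpp : p.Prime) (hp5 : 5 ≤ p)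
    (hp : ∀ v : A, (p : ℤ) • v = 0) {x : A} (hx : N x = 0) (n : ℕ → ℕ) (y : ℕ → A)
    (h : ∀ m, 1 ≤ m → m ≤ 3 → p ∣ n m * m + 1 ∧ M (y m) = 0 ∧
      x + m • M x + m.choose 2 • M (M x) =
        y m + n m • N (y m) + (n m).choose 2 • N (N (y m))) :
    N (N (y 1)) = 0 := by
  obtain ⟨a1, b1, c1⟩ := h 1 le_rfl (by norm_num)
  obtain ⟨a2, b2, c2⟩ := h 2 (by norm_num) (by norm_num)
  obtain ⟨a3, b3, c3⟩ := h 3 (by norm_num) le_rfl
  obtain ⟨e1, r1⟩ := unipotent_step R hp a1 hx b1 c1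
  obtain ⟨-, r2⟩ := unipotent_step R hp a2 hx b2 c2
  obtain ⟨-, r3⟩ := unipotent_step R hp a3 hx b3 c3
  have hnd : ∀ k : ℕ, 0 < k → k < p → ¬ p ∣ k := fun k h1 h2 hd =>
    absurd (Nat.le_of_dvd h1 hd) (by omega)
  have hP : M (M x) = 0 := by
    refine eq_zero_of_zsmul hpp hp (k := 2) (hnd 2 (by norm_num) (by omega)) ?_
    push_cast at r1 r2 r3 ⊢
    linear_combination (norm := module) r3 + r1 - (2 : ℤ) • r2
  have hR : M (N (N (M x))) = 0 := by
    push_cast at r1 r2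
    rw [hP] at r1 r2
    linear_combination (norm := module) (2 : ℤ) • r1 - r2
  have hε : N (N (M x)) = 0 := by
    have h1 := R.nmnn (M x)
    rw [hR, map_zero, eq_comm, neg_eq_zero] at h1
    exact h1
  rw [e1, hε, smul_zero]

end CfsgLib.LocalEven.GN
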