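import Cfsg.Agent.Lib.LocalEven.GN.Gen
import Cfsg.Agent.Lib.LocalEven.PushBaumannApps

/-!
A fixed `p`-group `S` seen inside a pushing-up situation: everything is pulled back to `S`.
-/

set_option autoImplicit false

namespace CfsgLib.LocalEven.GN

open Cfsg
open scoped commutatorElement Pointwise
open CD (cj cen zOf)


universe u

variable {p : ℕ} {S : Type u} [Group S]

/-- An embedding of `S` as a Sylow subgroup in a pushing-up situation, with noncentral centre. -/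
structure Emb (p : ℕ) (S : Type u) [Group S] where
  G : Type u
  [grp : Group G]
  [fin : Finite G]
  ι : S →* G
  inj : Function.Injective ι
  T0 : Subgroup G
  setup : Push.Setup p ι.range T0
  syl : ∃ P : Sylow p G, (P : Subgroup G) = ι.range
  g0 : G
  gen : GenAt ι.range T0 g0
  gen' : GenAt ι.range T0 g0⁻¹
  zne : ¬ (Subgroup.center S).map ι ≤ Subgroup.center G
  jT : ¬ (thompsonSubgroupA S).map ι ≤ T0

attribute [instance] Emb.grp Emb.fin

/-- The facts about `S` itself. -/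
structure Base (p : ℕ) (S : Type u) [Group S] : Prop where
  isP : IsPGroup p S
  top : IsCentrallyLarge (⊤ : Subgroup S)

namespace Emb

variable (E : Emb p S)

/-- `O_p` of the ambient group, inside `S`. -/
def T : Subgroup S := E.T0.comap E.ι

/-- `Z(T)`. -/
def V : Subgroup S := cen E.T

/-- The part of `V` central in the ambient group. -/
def Zc : Subgroup S := E.V ⊓ (Subgroup.center E.G).comap E.ι

/-- Conjugation by `g` on `T`. -/
noncomputable def c (g : E.G) (t : S) : S := Function.invFun E.ι (g * E.ι t * g⁻¹)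

/-- Image of a subgroup of `T` under conjugation by `g`. -/
def cs (g : E.G) (R : Subgroup S) : Subgroup S := (cj g (R.map E.ι)).comap E.ι

/-- Opposite elements. -/
def Gen (g : E.G) : Prop := GenAt E.ι.range E.T0 g

/-- Invariance under the ambient group. -/
def Inv (N : Subgroup S) : Prop := N ≤ E.T ∧ ∀ g : E.G, ∀ x ∈ N, E.c g x ∈ N

/-- `y` is fixed by the ambient group modulo `N`. -/
def Fx (N : Subgroup S) (y : S) : Prop := ∀ g : E.G, E.c g y * y⁻¹ ∈ N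

theorem mem_T {s : S} : s ∈ E.T ↔ E.ι s ∈ E.T0 := Iff.rfl

theorem T0_eq : E.T.map E.ι = E.T0 := by
  rw [T, Subgroup.map_comap_eq, inf_eq_right.2 E.setup.le]

theorem ι_T {t : S} (ht : t ∈ E.T) (g : E.G) : g * E.ι t * g⁻¹ ∈ E.T0 :=
  E.setup.normal.conj_mem _ ht g

theorem ι_c {t : S} (ht : t ∈ E.T) (g : E.G) : E.ι (E.c g t) = g * E.ι t * g⁻¹ :=
  Function.invFun_eq (f := E.ι) (E.setup.le (E.ι_T ht g))

theorem c_mem {t : S} (ht : t ∈ E.T) (g : E.G) : E.c g t ∈ E.T := by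
  rw [mem_T, E.ι_c ht]; exact E.ι_T ht g

theorem c_mul {t u : S} (ht : t ∈ E.T) (hu : u ∈ E.T) (g : E.G) :
    E.c g (t * u) = E.c g t * E.c g u := by
  apply E.inj
  rw [map_mul, E.ι_c (mul_mem ht hu), E.ι_c ht, E.ι_c hu, map_mul]; group

theorem c_one_left {t : S} (ht : t ∈ E.T) : E.c 1 t = t := E.inj (by rw [E.ι_c ht]; group)

theorem c_one (g : E.G) : E.c g 1 = 1 := E.inj (by rw [E.ι_c (one_mem _)]; simp)

theorem c_inv {t : S} (ht : t ∈ E.T) (g : E.G) : E.c g t⁻¹ = (E.c g t)⁻¹ := by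
  apply E.inj
  rw [map_inv, E.ι_c (inv_mem ht), E.ι_c ht, map_inv]; group

theorem c_c {t : S} (ht : t ∈ E.T) (g h : E.G) : E.c g (E.c h t) = E.c (g * h) t := by
  apply E.inj
  rw [E.ι_c (E.c_mem ht h), E.ι_c ht, E.ι_c ht]; group

theorem c_ι {t : S} (ht : t ∈ E.T) (s : S) : E.c (E.ι s) t = s * t * s⁻¹ :=
  E.inj (by rw [E.ι_c ht, map_mul, map_mul, map_inv])

theorem T_normal : E.T.Normal :=
  ⟨fun t ht s => by rw [← E.c_ι ht]; exact E.c_mem ht _⟩

theorem conj_mem_T {t : S} (ht : t ∈ E.T) (s : S) : s * t * s⁻¹ ∈ E.T := E.T_normal.conj_mem t ht s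

theorem c_comm {t u : S} (ht : t ∈ E.T) (hu : u ∈ E.T) (g : E.G) :
    E.c g ⁅t, u⁆ = ⁅E.c g t, E.c g u⁆ := by
  simp only [commutatorElement_def]
  rw [E.c_mul (mul_mem (mul_mem ht hu) (inv_mem ht)) (inv_mem hu),
    E.c_mul (mul_mem ht hu) (inv_mem ht), E.c_mul ht hu, E.c_inv ht, E.c_inv hu]

theorem c_inv_c {t : S} (ht : t ∈ E.T) (g : E.G) : E.c g⁻¹ (E.c g t) = t := by
  rw [E.c_c ht, inv_mul_cancel, E.c_one_left ht]

theorem c_c_inv {t : S} (ht : t ∈ E.T) (g : E.G) : E.c g (E.c g⁻¹ t) = t := by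
  rw [E.c_c ht, mul_inv_cancel, E.c_one_left ht]

theorem c_pow {t : S} (ht : t ∈ E.T) (g : E.G) (n : ℕ) : E.c g (t ^ n) = E.c g t ^ n := by
  induction n with
  | zero => simp [E.c_one]
  | succ n ih => rw [pow_succ, E.c_mul (pow_mem ht n) ht, ih, pow_succ]

theorem mem_cs {R : Subgroup S} (hR : R ≤ E.T) {g : E.G} {x : S} :
    x ∈ E.cs g R ↔ ∃ r ∈ R, E.c g r = x := by
  constructor
  · rintro ⟨_, ⟨r, hr, rfl⟩, hx⟩
    exact ⟨r, hr, E.inj (by rw [E.ι_c (hR hr)]; exact hx)⟩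
  · rintro ⟨r, hr, rfl⟩
    exact ⟨E.ι r, ⟨r, hr, rfl⟩, by rw [E.ι_c (hR hr)]; rfl⟩

theorem c_mem_cs {R : Subgroup S} (hR : R ≤ E.T) (g : E.G) {r : S} (hr : r ∈ R) :
    E.c g r ∈ E.cs g R := (E.mem_cs hR).2 ⟨r, hr, rfl⟩

theorem cs_le {R : Subgroup S} (hR : R ≤ E.T) (g : E.G) : E.cs g R ≤ E.T := fun x hx => by
  obtain ⟨r, hr, rfl⟩ := (E.mem_cs hR).1 hx
  exact E.c_mem (hR hr) g

theorem map_cs {R : Subgroup S} (hR : R ≤ E.T) (g : E.G) :
    (E.cs g R).map E.ι = cj g (R.map E.ι) := by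
  rw [cs, Subgroup.map_comap_eq, inf_eq_right.2]
  rintro _ ⟨_, ⟨r, hr, rfl⟩, rfl⟩
  exact E.setup.le (E.ι_T (hR hr) g)

theorem card_cs {R : Subgroup S} (hR : R ≤ E.T) (g : E.G) :
    Nat.card (E.cs g R) = Nat.card R := by
  rw [← Subgroup.card_map_of_injective (f := E.ι) E.inj, E.map_cs hR, CD.card_cj,
    Subgroup.card_map_of_injective E.inj]

theorem cs_mono {R Q : Subgroup S} (h : R ≤ Q) (g : E.G) : E.cs g R ≤ E.cs g Q :=
  Subgroup.comap_mono (CD.cj_mono g (Subgroup.map_mono h))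

theorem Inv.cs_eq {N : Subgroup S} (hN : E.Inv N) (g : E.G) : E.cs g N = N := by
  refine le_antisymm (fun x hx => ?_) fun x hx => ?_
  · obtain ⟨r, hr, rfl⟩ := (E.mem_cs hN.1).1 hx
    exact hN.2 g r hr
  · exact (E.mem_cs hN.1).2 ⟨_, hN.2 g⁻¹ x hx, E.c_c_inv (hN.1 hx) g⟩

theorem Inv.normal {N : Subgroup S} (hN : E.Inv N) : N.Normal :=
  ⟨fun x hx s => by rw [← E.c_ι (hN.1 hx)]; exact hN.2 _ x hx⟩

theorem Inv.map_normal {N : Subgroup S} (hN : E.Inv N) : (N.map E.ι).Normal := by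
  refine ⟨?_⟩
  rintro _ ⟨x, hx, rfl⟩ g
  exact ⟨_, hN.2 g x hx, E.ι_c (hN.1 hx) g⟩

theorem fx_mul {N : Subgroup S} (hN : E.Inv N) {x y : S} (hxT : x ∈ E.T) (hyT : y ∈ E.T)
    (hx : E.Fx N x) (hy : E.Fx N y) : E.Fx N (x * y) := fun g => by
  have h1 : E.c g (x * y) * (x * y)⁻¹ =
      E.c g x * x⁻¹ * (x * (E.c g y * y⁻¹) * x⁻¹) := by rw [E.c_mul hxT hyT]; group
  rw [h1]
  exact mul_mem (hx g) ((Inv.normal E hN).conj_mem _ (hy g) x)

theorem fx_of_mem {N : Subgroup S} (hN : E.Inv N) {x : S} (hx : x ∈ N) : E.Fx N x := fun g =>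
  mul_mem (hN.2 g x hx) (inv_mem hx)

theorem fx_inv {N : Subgroup S} (hN : E.Inv N) {x : S} (hxT : x ∈ E.T) (hx : E.Fx N x) :
    E.Fx N x⁻¹ := fun g => by
  have h1 : E.c g x⁻¹ * x⁻¹⁻¹ = x⁻¹ * (E.c g x * x⁻¹)⁻¹ * x := by rw [E.c_inv hxT]; group
  rw [h1]
  simpa using (Inv.normal E hN).conj_mem _ (inv_mem (hx g)) x⁻¹

theorem fx_c {N : Subgroup S} (hN : E.Inv N) {x : S} (hxT : x ∈ E.T) {g : E.G}
    (hx : E.Fx N (E.c g x)) : E.Fx N x := by
  intro h
  have h1 := hx g⁻¹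
  rw [E.c_inv_c hxT] at h1
  have h2 : E.Fx N (x * (E.c g x)⁻¹) := E.fx_of_mem hN h1
  have h3 := E.fx_mul hN (mul_mem hxT (inv_mem (E.c_mem hxT g))) (E.c_mem hxT g) h2 hx
  rw [inv_mul_cancel_right] at h3
  exact h3 h

/-- **The hammer.** A set of elements fixed modulo `N` by an opposite Sylow subgroup and generating,
with `N`, a subgroup normalised by an element of `S ∖ T`, is fixed modulo `N` by everything. -/
theorem hammer {g : E.G} (hg : E.Gen g) {N : Subgroup S} (hN : E.Inv N) {C : Set S}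
    (hC : ∀ x ∈ C, x ∈ E.T) (hfix : ∀ x ∈ C, ∀ s : S, ⁅x, s⁆ ∈ N) {b : S} (hb : b ∉ E.T)
    (hbn : ∀ x ∈ C, b * E.c g x * b⁻¹ ∈ Subgroup.closure (E.c g '' C) ⊔ N) :
    ∀ x ∈ C, E.Fx N x := by
  have hN0 := Inv.map_normal E hN
  set N0 := N.map E.ι
  set D0 := Subgroup.closure (E.c g '' C) ⊔ N with hD0
  set D := D0.map E.ι with hD
  set q := QuotientGroup.mk' N0
  set Dq := D.map q
  -- `D` is normalised by `b`
  have hb' : E.ι b ∈ Subgroup.normalizer (D : Set E.G) := by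
    rw [Subgroup.mem_normalizer_iff_map_conj_eq]
    refine Subgroup.eq_of_le_of_card_ge ?_ (CD.card_cj (E.ι b) D).ge
    rw [hD, hD0, Subgroup.map_sup, Subgroup.map_sup, MonoidHom.map_closure, MonoidHom.map_closure]
    refine sup_le ((Subgroup.closure_le _).2 ?_) ?_
    · rintro _ ⟨_, ⟨_, ⟨x, hx, rfl⟩, rfl⟩, rfl⟩
      have h := hbn x hx
      have h2 : E.ι (b * E.c g x * b⁻¹) ∈ D0.map E.ι := ⟨_, h, rfl⟩
      rw [hD0, Subgroup.map_sup, MonoidHom.map_closure] at h2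
      show (MulAut.conj (E.ι b)).toMonoidHom (E.ι (E.c g x)) ∈ _
      rw [MulEquiv.coe_toMonoidHom, MulAut.conj_apply, ← map_inv, ← map_mul, ← map_mul]
      exact h2
    · refine le_trans ?_ le_sup_right
      rintro _ ⟨y, hy, rfl⟩
      exact hN0.conj_mem y hy _
  -- `S^g` centralises `D` modulo `N`
  set K : Subgroup E.G := (Subgroup.centralizer (Dq : Set (E.G ⧸ N0))).comap q with hK
  have hgK : cj g E.ι.range ≤ K := by
    rintro _ ⟨_, ⟨s, rfl⟩, rfl⟩
    rw [hK, Subgroup.mem_comap]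
    have hle : Dq ≤ Subgroup.centralizer ({q ((MulAut.conj g).toMonoidHom (E.ι s))} : Set _) := by
      show (D0.map E.ι).map q ≤ _
      rw [hD0, Subgroup.map_sup, Subgroup.map_sup, MonoidHom.map_closure, MonoidHom.map_closure]
      refine sup_le ((Subgroup.closure_le _).2 ?_) ?_
      · rintro _ ⟨_, ⟨_, ⟨x, hx, rfl⟩, rfl⟩, rfl⟩
        rw [SetLike.mem_coe, Subgroup.mem_centralizer_singleton_iff,
          ← commutatorElement_eq_one_iff_mul_comm, ← map_commutatorElement,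
          MulEquiv.coe_toMonoidHom, MulAut.conj_apply, QuotientGroup.mk'_apply,
          QuotientGroup.eq_one_iff]
        refine ⟨E.c g ⁅x, s⁆, hN.2 g _ (hfix x hx s), ?_⟩
        have hxT := hC x hx
        rw [E.ι_c (hN.1 (hfix x hx s)), map_commutatorElement, E.ι_c hxT]
        simp only [commutatorElement_def]; group
      · rintro _ ⟨_, ⟨n, hn, rfl⟩, rfl⟩
        rw [Subgroup.mem_centralizer_singleton_iff]
        have : q (E.ι n) = 1 := (QuotientGroup.eq_one_iff _).2 ⟨n, hn, rfl⟩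
        rw [this, one_mul, mul_one]
    exact fun d hd => Subgroup.mem_centralizer_singleton_iff.1 (hle hd)
  have hKn : K ≤ Subgroup.normalizer (D : Set E.G) := by
    intro k hk
    rw [Subgroup.mem_normalizer_iff_map_conj_eq]
    refine Subgroup.eq_of_le_of_card_ge ?_ (CD.card_cj k D).ge
    rintro _ ⟨d, hd, rfl⟩
    have h1 : q k * q d = q d * q k :=
      (Subgroup.mem_centralizer_iff.1 (Subgroup.mem_comap.1 hk) (q d) ⟨d, hd, rfl⟩).symm
    have h2 : (k * d * k⁻¹) * d⁻¹ ∈ N0 := by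
      rw [← QuotientGroup.eq_one_iff, ← QuotientGroup.mk'_apply, map_mul, map_mul, map_mul,
        map_inv, map_inv, h1]
      simp [mul_assoc, q]
    have hND : N0 ≤ D := by
      rw [hD, hD0]; exact Subgroup.map_mono le_sup_right
    have := mul_mem (hND h2) hd
    rw [inv_mul_cancel_right] at this
    exact this
  have hnorm : Subgroup.normalizer (D : Set E.G) = ⊤ :=
    hg (E.ι b) ⟨b, rfl⟩ hb _ hb' (hgK.trans hKn)
  have hDn : D.Normal := Subgroup.normalizer_eq_top_iff.1 hnorm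
  have hKtop : K = ⊤ := by
    have hDqn : Dq.Normal := hDn.map q (QuotientGroup.mk'_surjective N0)
    have hKnn : K.Normal := by rw [hK]; exact (Push.cen_normal hDqn).comap q
    refine hg (E.ι b) ⟨b, rfl⟩ hb K ?_ hgK
    have h2 := CD.cj_mono g⁻¹ hgK
    rw [CD.cj_cj, inv_mul_cancel, CD.cj_one] at h2
    exact Push.cj_le_of_normal hKnn _ (h2 ⟨b, rfl⟩)
  intro x hx
  refine E.fx_c hN (hC x hx) (g := g) fun h => ?_
  have hxT := hC x hx
  have hd : E.ι (E.c g x) ∈ D := by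
    rw [hD, hD0]
    exact ⟨_, Subgroup.mem_sup_left (Subgroup.subset_closure ⟨x, hx, rfl⟩), rfl⟩
  have hk : h ∈ K := hKtop ▸ Subgroup.mem_top h
  have h1 : q (E.ι (E.c g x)) * q h = q h * q (E.ι (E.c g x)) :=
    Subgroup.mem_centralizer_iff.1 (Subgroup.mem_comap.1 hk) _ ⟨_, hd, rfl⟩
  have h2 : E.ι (E.c h (E.c g x) * (E.c g x)⁻¹) ∈ N0 := by
    rw [← QuotientGroup.eq_one_iff, ← QuotientGroup.mk'_apply, map_mul E.ι,
      E.ι_c (E.c_mem hxT g), map_inv E.ι, map_mul, map_mul, map_mul, map_inv, map_inv, ← h1]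
    simp [mul_assoc, q]
  exact (Subgroup.mem_map_iff_mem E.inj).1 h2

end Emb

end CfsgLib.LocalEven.GN
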