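import Cfsg.Agent.Lib.LocalEven.GN.Steps
import Cfsg.Agent.Lib.PGroups.Basic

/-!
When some element outside `T` nearly centralises `T`, deep commutators of `S` are central.
-/

set_option autoImplicit false
set_option linter.unusedSectionVars false

namespace CfsgLib.LocalEven.GN

open Cfsg
open scoped commutatorElement Pointwise
open CD (cj cen zOf)

universe u

variable {p : ℕ} [Fact p.Prime] {S : Type u} [Group S] [Finite S]

namespace Emb

variable (E : Emb p S)

/-- An element of the normaliser of `S` induces an automorphism of `S`. -/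
theorem exists_aut {x : E.G} (hx : x ∈ Subgroup.normalizer (E.ι.range : Set E.G)) :
    ∃ φ : S ≃* S, ∀ s : S, E.ι (φ s) = x * E.ι s * x⁻¹ := by
  have h1 : ∀ s : S, ∃ r : S, E.ι r = x * E.ι s * x⁻¹ := fun s =>
    (Subgroup.mem_normalizer_iff.1 hx (E.ι s)).1 ⟨s, rfl⟩
  choose f hf using h1
  let φ : S →* S :=
    { toFun := f
      map_one' := E.inj (by rw [hf]; simp)
      map_mul' := fun a b => E.inj (by rw [hf, map_mul, map_mul, hf, hf]; group) }
  have hinj : Function.Injective φ := fun a b h => by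
    apply E.inj
    have h1 := congrArg E.ι h
    change E.ι (f a) = E.ι (f b) at h1
    rw [hf, hf] at h1
    exact mul_left_cancel (mul_right_cancel h1)
  exact ⟨MulEquiv.ofBijective φ (Finite.injective_iff_bijective.1 hinj), fun s => hf s⟩

/-- A subgroup above `T`, invariant under all automorphisms that `N_G(S)` may induce and
containing an element outside `T`, is everything. -/
theorem eq_top_of_irred {B : Subgroup S} (hT : E.T ≤ B) {e : S} (he : e ∈ B) (heT : e ∉ E.T)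
    (hinv : ∀ (x : E.G) (φ : S ≃* S), (∀ s : S, E.ι (φ s) = x * E.ι s * x⁻¹) →
      ∀ s ∈ B, φ s ∈ B) : B = ⊤ := by
  have h := E.setup.irred (B.map E.ι) (E.T0_eq.ge.trans (Subgroup.map_mono hT))
    (by rw [← E.range_eq]; exact Subgroup.map_mono le_top) fun x hx => by
      obtain ⟨φ, hφ⟩ := E.exists_aut hx
      rintro _ ⟨_, ⟨s, hs, rfl⟩, rfl⟩
      exact ⟨φ s, hinv x φ hφ s hs, hφ s⟩
  rcases h with h | h
  · exact absurd (by rw [mem_T, ← h]; exact ⟨e, he, rfl⟩) heT
  · apply Subgroup.map_injective E.inj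
    rw [h, E.range_eq]

/-- The elements of `G` centralising `T` modulo `X`. -/
def sectionCent (X : Subgroup S) (hX : E.Inv X) : Subgroup E.G where
  carrier := {h | ∀ t ∈ E.T, E.c h t * t⁻¹ ∈ X}
  one_mem' := fun t ht => by rw [E.c_one_left ht, mul_inv_cancel]; exact one_mem _
  mul_mem' := fun {a b} ha hb t ht => by
    have h1 : E.c (a * b) t * t⁻¹ = E.c a (E.c b t * t⁻¹) * (E.c a t * t⁻¹) := by
      rw [E.c_mul (E.c_mem ht b) (inv_mem ht), E.c_c ht, E.c_inv ht]; group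
    rw [h1]
    exact mul_mem (hX.2 a _ (hb t ht)) (ha t ht)
  inv_mem' := fun {a} ha t ht => by
    have h1 := hX.2 a⁻¹ _ (ha t ht)
    rw [E.c_mul (E.c_mem ht a) (inv_mem ht), E.c_inv_c ht, E.c_inv ht] at h1
    have h2 : E.c a⁻¹ t * t⁻¹ = (t * (E.c a⁻¹ t)⁻¹)⁻¹ := by group
    rw [h2]; exact inv_mem h1

theorem sectionCent_normal {X : Subgroup S} (hX : E.Inv X) : (E.sectionCent X hX).Normal := by
  refine ⟨fun h hh g t ht => ?_⟩
  have h1 : E.c (g * h * g⁻¹) t * t⁻¹ = E.c g (E.c h (E.c g⁻¹ t) * (E.c g⁻¹ t)⁻¹) := by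
    rw [E.c_mul (E.c_mem (E.c_mem ht _) h) (inv_mem (E.c_mem ht _)),
      E.c_inv (E.c_mem ht _), E.c_c_inv ht, E.c_c ht, E.c_c ht, mul_assoc g h g⁻¹]
  rw [h1]
  exact hX.2 g _ (hh _ (E.c_mem ht _))

/-- The kernel used in the end game. -/
structure EndData (X Yl : Subgroup S) (e : S) : Prop where
  inv : E.Inv X
  central : ∀ x ∈ X, ∀ t ∈ E.T, ⁅x, t⁆ ∈ E.Zc
  exp : ∀ x ∈ X, x ^ p ∈ E.Zc
  le : Yl ≤ X
  two : Yl ≤ z2 S
  char : ∀ φ : S ≃* S, (∀ x ∈ X, φ x ∈ X) → ∀ y ∈ Yl, φ y ∈ Yl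
  normal : Yl.Normal
  notMem : e ∉ E.T
  pow : e ^ p ∈ E.Zc
  comm : ∀ s : S, ⁅e, s⁆ ∈ Yl

theorem end_core (hB : Base p S) {X Yl : Subgroup S} {e : S} (h : E.EndData X Yl e) :
    ∃ W : Subgroup S, W.Normal ∧ W ⊓ Subgroup.center S ≤ E.Zc ∧ E.Zc ≤ W ∧
      frattini S ≤ Yl ⊔ W ∧
      (Yl ≤ Subgroup.center S → p ≠ 2 → ∀ s : S, s ^ p ∈ W) := by
  have hX := h.inv
  set K := E.sectionCent X hX
  have hKn : K.Normal := E.sectionCent_normal hX
  have hYn := h.normal
  have heK : E.ι e ∈ K := fun t ht => by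
    rw [E.c_ι ht]; exact h.le (h.comm t)
  let W : Subgroup S :=
    { carrier := {w | w ∈ E.T ∧ ∀ k ∈ K, E.c k w * w⁻¹ ∈ E.Zc}
      one_mem' := ⟨one_mem _, fun k _ => by rw [E.c_one, inv_one, mul_one]; exact one_mem _⟩
      mul_mem' := fun {a b} ha hb => ⟨mul_mem ha.1 hb.1, fun k hk => by
        have h1 : E.c k (a * b) * (a * b)⁻¹ =
            E.c k a * a⁻¹ * (a * (E.c k b * b⁻¹) * a⁻¹) := by rw [E.c_mul ha.1 hb.1]; group
        rw [h1, center_conj (E.Zc_le_center (hb.2 k hk))]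
        exact mul_mem (ha.2 k hk) (hb.2 k hk)⟩
      inv_mem' := fun {a} ha => ⟨inv_mem ha.1, fun k hk => by
        have h1 : E.c k a⁻¹ * a⁻¹⁻¹ = a⁻¹ * (E.c k a * a⁻¹)⁻¹ * a⁻¹⁻¹ := by rw [E.c_inv ha.1]; group
        rw [h1, center_conj (E.Zc_le_center (inv_mem (ha.2 k hk)))]
        exact inv_mem (ha.2 k hk)⟩ }
  have hW : E.Inv W := by
    refine ⟨fun w hw => hw.1, fun g w hw => ⟨E.c_mem hw.1 g, fun k hk => ?_⟩⟩
    have hw' := hw.1
    have h1 : E.c k (E.c g w) * (E.c g w)⁻¹ = E.c g (E.c (g⁻¹ * k * g) w * w⁻¹) := by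
      rw [E.c_mul (E.c_mem hw' _) (inv_mem hw'), E.c_inv hw', E.c_c hw', E.c_c hw']
      congr 2; group
    rw [h1]
    refine E.Zc_inv.2 g _ (hw.2 _ ?_)
    simpa using hKn.conj_mem k hk g⁻¹
  have hWn : W.Normal := Inv.normal E hW
  have hZcW : E.Zc ≤ W := fun z hz => ⟨E.Zc_inv.1 hz, fun k _ => by
    rw [(E.mem_Zc_iff.1 hz).2 k, mul_inv_cancel]; exact one_mem _⟩
  have hWZ : W ⊓ Subgroup.center S ≤ E.Zc := by
    rintro z ⟨hzW, hz⟩
    have hzT := (hzW : z ∈ W).1
    let H : Subgroup E.G :=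
      { carrier := {h | E.c h z * z⁻¹ ∈ E.Zc}
        one_mem' := by
          show E.c 1 z * z⁻¹ ∈ E.Zc
          rw [E.c_one_left hzT, mul_inv_cancel]; exact one_mem _
        mul_mem' := fun {a b} ha hb => by
          show E.c (a * b) z * z⁻¹ ∈ E.Zc
          have h1 : E.c (a * b) z * z⁻¹ = E.c a (E.c b z * z⁻¹) * (E.c a z * z⁻¹) := by
            rw [E.c_mul (E.c_mem hzT b) (inv_mem hzT), E.c_c hzT, E.c_inv hzT]; group
          rw [h1]
          exact mul_mem (E.Zc_inv.2 a _ hb) ha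
        inv_mem' := fun {a} ha => by
          show E.c a⁻¹ z * z⁻¹ ∈ E.Zc
          have h1 := E.Zc_inv.2 a⁻¹ _ ha
          rw [E.c_mul (E.c_mem hzT a) (inv_mem hzT), E.c_inv_c hzT, E.c_inv hzT] at h1
          have h2 : E.c a⁻¹ z * z⁻¹ = (z * (E.c a⁻¹ z)⁻¹)⁻¹ := by group
          rw [h2]; exact inv_mem h1 }
    have hH : H = ⊤ := by
      refine top_le_iff.1 ((E.setup.factA K hKn fun hle => h.notMem ?_).ge.trans
        (sup_le (fun k hk => (hzW : z ∈ W).2 k hk) ?_))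
      · exact hle ⟨heK, e, rfl⟩
      · rintro _ ⟨s, rfl⟩
        show E.c (E.ι s) z * z⁻¹ ∈ E.Zc
        rw [E.c_ι hzT, center_conj hz, mul_inv_cancel]; exact one_mem _
    refine E.zc_of_center E.gen hz ?_
    have h1 : E.c E.g0 z * z⁻¹ ∈ E.Zc := (hH ▸ Subgroup.mem_top E.g0 : E.g0 ∈ H)
    have h2 := mul_mem (E.Zc_le_center h1) hz
    rwa [inv_mul_cancel_right] at h2
  -- modulo `Zc` the section `X` commutes with `T`
  have hZcn : E.Zc.Normal := Inv.normal E E.Zc_inv
  set q := QuotientGroup.mk' E.Zc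
  have hqc : ∀ x ∈ X, ∀ t ∈ E.T, q x * q t = q t * q x := fun x hx t ht => by
    rw [← commutatorElement_eq_one_iff_mul_comm, ← map_commutatorElement,
      QuotientGroup.mk'_apply, QuotientGroup.eq_one_iff]
    exact h.central x hx t ht
  have hmemW : ∀ w ∈ E.T, (∀ k ∈ K, q (E.c k w) = q w) → w ∈ W := fun w hw hk =>
    ⟨hw, fun k hk' => by
      rw [← QuotientGroup.eq_one_iff, ← QuotientGroup.mk'_apply, map_mul, map_inv, hk k hk',
        mul_inv_cancel]⟩
  have hder : ∀ t ∈ E.T, ∀ u ∈ E.T, ⁅t, u⁆ ∈ W := by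
    intro t ht u hu
    refine hmemW _ (E.comm_mem_T t u) fun k hk => ?_
    have hy := hk t ht
    have hy' := hk u hu
    set y := E.c k t * t⁻¹ with hydef
    set y' := E.c k u * u⁻¹ with hy'def
    have e1 : E.c k t = y * t := by rw [hydef, inv_mul_cancel_right]
    have e2 : E.c k u = y' * u := by rw [hy'def, inv_mul_cancel_right]
    rw [E.c_comm ht hu, e1, e2]
    simp only [commutatorElement_def, map_mul, map_inv, mul_inv_rev]
    have c1 := hqc y hy u hu
    have c2 := hqc y' hy' t ht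
    have c3 := hqc y hy y' (hX.1 hy')
    have c4 := hqc y hy t ht
    have c5 := hqc y' hy' u hu
    generalize q y = Y1 at *
    generalize q y' = Y2 at *
    generalize q t = A at *
    generalize q u = B at *
    calc Y1 * A * (Y2 * B) * (A⁻¹ * Y1⁻¹) * (B⁻¹ * Y2⁻¹)
        = Y1 * (A * Y2) * B * A⁻¹ * Y1⁻¹ * B⁻¹ * Y2⁻¹ := by group
      _ = (Y1 * Y2) * (A * B * A⁻¹) * Y1⁻¹ * B⁻¹ * Y2⁻¹ := by rw [← c2]; group
      _ = Y2 * (Y1 * (A * B * A⁻¹)) * Y1⁻¹ * B⁻¹ * Y2⁻¹ := by rw [c3]; group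
      _ = Y2 * ((A * B * A⁻¹) * Y1) * Y1⁻¹ * B⁻¹ * Y2⁻¹ := by
        rw [(((show Commute Y1 A from c4).mul_right c1).mul_right
          (show Commute Y1 A from c4).inv_right).eq]
      _ = Y2 * (A * B * A⁻¹ * B⁻¹) * Y2⁻¹ := by group
      _ = A * B * A⁻¹ * B⁻¹ := by
        rw [((((show Commute Y2 A from c2).mul_right c5).mul_right
          (show Commute Y2 A from c2).inv_right).mul_right
          (show Commute Y2 B from c5).inv_right).eq, mul_inv_cancel_right]
  have hpowT : ∀ t ∈ E.T, t ^ p ∈ W := by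
    intro t ht
    refine hmemW _ (pow_mem ht p) fun k hk => ?_
    have e1 : E.c k t = E.c k t * t⁻¹ * t := by rw [inv_mul_cancel_right]
    rw [E.c_pow ht, map_pow, e1, map_mul,
      (show Commute _ _ from hqc _ (hk t ht) t ht).mul_pow, ← map_pow, QuotientGroup.mk'_apply,
      (QuotientGroup.eq_one_iff _).2 (h.exp _ (hk t ht)), one_mul, ← map_pow]
  -- irreducibility
  set U := Yl ⊔ W with hU
  have hUn : U.Normal := Subgroup.sup_normal Yl W
  have haut : ∀ (x : E.G) (φ : S ≃* S), (∀ s : S, E.ι (φ s) = x * E.ι s * x⁻¹) →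
      (∀ t ∈ E.T, φ t = E.c x t) ∧ ∀ u ∈ U, φ u ∈ U := by
    intro x φ hφ
    have hT : ∀ t ∈ E.T, φ t = E.c x t := fun t ht => E.inj (by rw [hφ, E.ι_c ht])
    refine ⟨hT, fun u hu => ?_⟩
    have hle : U.map φ.toMonoidHom ≤ U := by
      rw [hU, Subgroup.map_sup]
      refine sup_le_sup ?_ ?_
      · rintro _ ⟨y, hy, rfl⟩
        exact h.char φ (fun z hz => by rw [hT z (hX.1 hz)]; exact hX.2 x z hz) y hy
      · rintro _ ⟨w, hw, rfl⟩
        show φ w ∈ W
        rw [hT w hw.1]; exact hW.2 x w hw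
    exact hle ⟨u, hu, rfl⟩
  let E0 : Subgroup S :=
    { carrier := {s | ∀ t ∈ E.T, ⁅s, t⁆ ∈ U}
      one_mem' := fun t _ => by rw [commutatorElement_one_left]; exact one_mem _
      mul_mem' := fun {a b} ha hb t ht => by
        rw [comm_mul_left]; exact mul_mem (hUn.conj_mem _ (hb t ht) a) (ha t ht)
      inv_mem' := fun {a} ha t ht => by
        have h1 : ⁅a⁻¹, t⁆ = a⁻¹ * ⁅a, t⁆⁻¹ * a⁻¹⁻¹ := by group
        rw [h1]; exact hUn.conj_mem _ (inv_mem (ha t ht)) _ }
  have hE0 : E0 = ⊤ := by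
    refine E.eq_top_of_irred (fun t ht u hu => Subgroup.mem_sup_right (hder t ht u hu))
      (fun t _ => Subgroup.mem_sup_left (h.comm t)) h.notMem fun x φ hφ s hs t ht => ?_
    obtain ⟨hT, hUx⟩ := haut x φ hφ
    have h1 := hUx _ (hs _ (E.c_mem ht x⁻¹))
    rwa [map_commutatorElement, hT _ (E.c_mem ht _), E.c_c_inv ht] at h1
  let E1 : Subgroup S :=
    { carrier := {s | ∀ r : S, ⁅s, r⁆ ∈ U}
      one_mem' := fun t => by rw [commutatorElement_one_left]; exact one_mem _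
      mul_mem' := fun {a b} ha hb t => by
        rw [comm_mul_left]; exact mul_mem (hUn.conj_mem _ (hb t) a) (ha t)
      inv_mem' := fun {a} ha t => by
        have h1 : ⁅a⁻¹, t⁆ = a⁻¹ * ⁅a, t⁆⁻¹ * a⁻¹⁻¹ := by group
        rw [h1]; exact hUn.conj_mem _ (inv_mem (ha t)) _ }
  have hE1 : E1 = ⊤ := by
    refine E.eq_top_of_irred (fun t ht r => ?_)
      (fun r => Subgroup.mem_sup_left (h.comm r)) h.notMem fun x φ hφ s hs r => ?_
    · rw [← commutatorElement_inv r t]
      exact inv_mem ((hE0 ▸ Subgroup.mem_top r : r ∈ E0) t ht)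
    · obtain ⟨r', rfl⟩ := φ.surjective r
      rw [← map_commutatorElement]
      exact (haut x φ hφ).2 _ (hs r')
  have hcomm : commutator S ≤ U := by
    rw [commutator_def]
    exact Subgroup.commutator_le.2 fun a _ b _ => (hE1 ▸ Subgroup.mem_top a : a ∈ E1) b
  have hpow : ∀ s : S, s ^ p ∈ U := by
    let E2 : Subgroup S :=
      { carrier := {s | s ^ p ∈ U}
        one_mem' := by show (1 : S) ^ p ∈ U; rw [one_pow]; exact one_mem _
        mul_mem' := fun {a b} ha hb => by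
          show (a * b) ^ p ∈ U
          rw [← QuotientGroup.eq_one_iff, ← QuotientGroup.mk'_apply, map_pow, map_mul]
          have hc : Commute (QuotientGroup.mk' U a) (QuotientGroup.mk' U b) := by
            rw [commute_iff_eq, ← commutatorElement_eq_one_iff_mul_comm, ← map_commutatorElement,
              QuotientGroup.mk'_apply, QuotientGroup.eq_one_iff]
            exact (hE1 ▸ Subgroup.mem_top a : a ∈ E1) b
          rw [hc.mul_pow, ← map_pow, ← map_pow, QuotientGroup.mk'_apply, QuotientGroup.mk'_apply,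
            (QuotientGroup.eq_one_iff _).2 ha, (QuotientGroup.eq_one_iff _).2 hb, one_mul]
        inv_mem' := fun {a} ha => by
          show (a⁻¹) ^ p ∈ U
          rw [inv_pow]; exact inv_mem ha }
    have hE2 : E2 = ⊤ := by
      refine E.eq_top_of_irred (fun t ht => Subgroup.mem_sup_right (hpowT t ht))
        (show e ^ p ∈ U from Subgroup.mem_sup_right (hZcW h.pow)) h.notMem fun x φ hφ s hs => ?_
      show φ s ^ p ∈ U
      rw [← map_pow]; exact (haut x φ hφ).2 _ hs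
    exact fun s => (hE2 ▸ Subgroup.mem_top s : s ∈ E2)
  refine ⟨W, hWn, hWZ, hZcW, CfsgLib.PGroups.frattini_le_of_elementary_quotient hcomm hpow, ?_⟩
  intro hYZ hp2 s
  let E3 : Subgroup S :=
    { carrier := {s | s ^ p ∈ W}
      one_mem' := by show (1 : S) ^ p ∈ W; rw [one_pow]; exact one_mem _
      mul_mem' := fun {a b} ha hb => by
        show (a * b) ^ p ∈ W
        rw [← QuotientGroup.eq_one_iff, ← QuotientGroup.mk'_apply, map_pow, map_mul]
        have hc : ⁅b, a⁆ ∈ U := (hE1 ▸ Subgroup.mem_top b : b ∈ E1) a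
        rw [hU, ← SetLike.mem_coe, Subgroup.mul_normal] at hc
        obtain ⟨z, hz, w, hw, hzw⟩ := hc
        have hq : QuotientGroup.mk' W ⁅b, a⁆ = QuotientGroup.mk' W z := by
          rw [← hzw, map_mul, QuotientGroup.mk'_apply W w,
            (QuotientGroup.eq_one_iff _).2 hw, mul_one]
        have hzc : ∀ r : S, Commute ⁅QuotientGroup.mk' W b, QuotientGroup.mk' W a⁆
            (QuotientGroup.mk' W r) := fun r => by
          rw [← map_commutatorElement, hq, commute_iff_eq, ← map_mul, ← map_mul,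
            Subgroup.mem_center_iff.1 (hYZ hz) r]
        rw [CfsgLib.PGroups.mul_pow_of_commute (hzc a) (hzc b)]
        obtain ⟨j, hj⟩ := (Fact.out : p.Prime).dvd_choose_self (k := 2) (by norm_num)
          (lt_of_le_of_ne (Fact.out : p.Prime).two_le (Ne.symm hp2))
        have hz1 : QuotientGroup.mk' W (z ^ p) = 1 :=
          (QuotientGroup.eq_one_iff _).2 (hZcW (E.zpow_mem_Zc hB (hYZ hz)))
        rw [← map_commutatorElement, hq, hj, pow_mul, ← map_pow _ z, hz1,
          one_pow, mul_one, ← map_pow, ← map_pow, QuotientGroup.mk'_apply, QuotientGroup.mk'_apply,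
          (QuotientGroup.eq_one_iff _).2 ha, (QuotientGroup.eq_one_iff _).2 hb, one_mul]
      inv_mem' := fun {a} ha => by
        show (a⁻¹) ^ p ∈ W
        rw [inv_pow]; exact inv_mem ha }
  have hE3 : E3 = ⊤ := by
    refine E.eq_top_of_irred hpowT (show e ^ p ∈ W from hZcW h.pow) h.notMem
      fun x φ hφ s hs => ?_
    show φ s ^ p ∈ W
    have hsT : s ^ p ∈ E.T := E.pow_mem_T s
    rw [← map_pow, (haut x φ hφ).1 _ hsT]
    exact hW.2 x _ hs
  exact (hE3 ▸ Subgroup.mem_top s : s ∈ E3)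

end Emb

/-- The subgroup `S₀` of the pushing-up theorem. -/
def sZero (p : ℕ) (S : Type u) [Group S] : Subgroup S :=
  if p = 2 then ⁅frattini S, (⊤ : Subgroup S)⁆ ⊔ (frattini ↥(frattini S)).map (frattini S).subtype
  else if p = 3 then
    ⁅⁅frattini S, (⊤ : Subgroup S)⁆, (⊤ : Subgroup S)⁆ ⊔
      (frattini ↥(frattini S)).map (frattini S).subtype
  else ⁅frattini S, (⊤ : Subgroup S)⁆ ⊔ Cfsg.powerClosure p 1 (⊤ : Subgroup S)

namespace Emb

variable (E : Emb p S)

theorem comm_le {U : Subgroup S} {Yl W : Subgroup S} [W.Normal] (hU : U ≤ Yl ⊔ W)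
    (hY : ∀ y ∈ Yl, ∀ s : S, ⁅y, s⁆ ∈ W) : ⁅U, (⊤ : Subgroup S)⁆ ≤ W := by
  refine Subgroup.commutator_le.2 fun u hu s _ => ?_
  have hu' := hU hu
  rw [← SetLike.mem_coe, Subgroup.mul_normal] at hu'
  obtain ⟨y, hy, w, hw, rfl⟩ := hu'
  show ⁅y * w, s⁆ ∈ W
  rw [comm_mul_left]
  refine mul_mem ((inferInstance : W.Normal).conj_mem _ ?_ y) (hY y hy s)
  rw [show ⁅w, s⁆ = w * (s * w⁻¹ * s⁻¹) by group]
  exact mul_mem hw ((inferInstance : W.Normal).conj_mem _ (inv_mem hw) s)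

theorem frattini_frattini_le (hB : Base p S) {Yl W : Subgroup S} [W.Normal]
    (hU : frattini S ≤ Yl ⊔ W) (hY : ∀ y ∈ Yl, ∀ y' ∈ Yl, ⁅y, y'⁆ ∈ W)
    (hYp : ∀ y ∈ Yl, y ^ p ∈ W) :
    (frattini ↥(frattini S)).map (frattini S).subtype ≤ W := by
  set q := QuotientGroup.mk' W
  have hdec : ∀ u ∈ frattini S, ∃ y ∈ Yl, q u = q y := by
    intro u hu
    have hu' := hU hu
    rw [← SetLike.mem_coe, Subgroup.mul_normal] at hu'
    obtain ⟨y, hy, w, hw, rfl⟩ := hu'
    exact ⟨y, hy, by rw [map_mul, QuotientGroup.mk'_apply W w,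
      (QuotientGroup.eq_one_iff _).2 hw, mul_one]⟩
  refine CfsgLib.LocalEven.frattini_map_le (p := p) (hB.isP.to_subgroup _) ?_ fun x hx => ?_
  · refine Subgroup.commutator_le.2 fun a ha b hb => ?_
    obtain ⟨y, hy, hya⟩ := hdec a ha
    obtain ⟨y', hy', hyb⟩ := hdec b hb
    rw [← QuotientGroup.eq_one_iff, ← QuotientGroup.mk'_apply, map_commutatorElement, hya, hyb,
      ← map_commutatorElement, QuotientGroup.mk'_apply, QuotientGroup.eq_one_iff]
    exact hY y hy y' hy'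
  · obtain ⟨y, hy, hyx⟩ := hdec x hx
    rw [← QuotientGroup.eq_one_iff, ← QuotientGroup.mk'_apply, map_pow, hyx, ← map_pow,
      QuotientGroup.mk'_apply, (QuotientGroup.eq_one_iff _).2 (hYp y hy)]

/-- Case `V' ⊄ T`. -/
theorem caseA (hB : Base p S) (E' : Emb p S) {e : S} (he : e ∈ E'.V) (heT : e ∉ E.T) :
    sZero p S ⊓ Subgroup.center S ≤ E.Zc := by
  obtain ⟨W, hWn, hWZ, hZcW, hPhi, hpow⟩ := E.end_core hB (X := E.V) (Yl := Subgroup.center S)
    (e := e)
    { inv := E.V_inv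
      central := fun x hx t ht => by rw [comm_eq_one (E.V_comm hx ht)]; exact one_mem _
      exp := fun x hx => E.V_pow hB hx E
      le := E.center_le_V
      two := fun z hz => mem_z2.2 fun y => by
        rw [comm_eq_one (Subgroup.mem_center_iff.1 hz y).symm]; exact one_mem _
      char := fun φ _ z hz => by
        rw [Subgroup.mem_center_iff] at hz ⊢
        intro s
        obtain ⟨r, rfl⟩ := φ.surjective s
        rw [← map_mul, hz r, map_mul]
      normal := inferInstance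
      notMem := heT
      pow := E'.V_pow hB he E
      comm := fun s => E'.comm_V hB he s }
  refine le_trans (inf_le_inf_right _ ?_) hWZ
  have h1 : ⁅frattini S, (⊤ : Subgroup S)⁆ ≤ W := comm_le hPhi fun z hz s => by
    rw [comm_eq_one (Subgroup.mem_center_iff.1 hz s).symm]; exact one_mem _
  have h2 : (frattini ↥(frattini S)).map (frattini S).subtype ≤ W :=
    frattini_frattini_le hB hPhi (fun z hz y _ => by
      rw [comm_eq_one (Subgroup.mem_center_iff.1 hz y).symm]; exact one_mem _)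
      fun z hz => hZcW (E.zpow_mem_Zc hB hz)
  rw [sZero]
  split_ifs with h2' h3
  · exact sup_le h1 h2
  · refine sup_le ?_ h2
    exact (Subgroup.commutator_mono h1 le_rfl).trans (Subgroup.commutator_le_left W ⊤)
  · refine sup_le h1 ?_
    rw [powerClosure, Subgroup.closure_le]
    rintro _ ⟨x, -, rfl⟩
    rw [pow_one]
    exact hpow le_rfl h2' x

end Emb

namespace Pair

variable {E E' : Emb p S} (P : Pair E E')
include P

/-- Case `V' ≤ T` with both `V`, `V'` moved, for `p = 3`. -/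
theorem three_le (h3 : p = 3) (P' : Pair E' E) : sZero p S ⊓ Subgroup.center S ≤ E.Zc := by
  set X := sSup (Set.range fun h : E.G => E.cs h P.Y) with hXdef
  have hgen : ∀ h : E.G, E.cs h P.Y ≤ X := fun h => le_sSup ⟨h, rfl⟩
  have hXT : X ≤ E.T := sSup_le (by rintro _ ⟨h, rfl⟩; exact E.cs_le P.Y_le_T h)
  have hYX : P.Y ≤ X := fun y hy =>
    hgen 1 ((E.mem_cs P.Y_le_T).2 ⟨y, hy, E.c_one_left (P.Y_le_T hy)⟩)
  have hXi : E.Inv X := by
    refine ⟨hXT, fun k x hx => ?_⟩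
    have hle : X ≤ E.cs k⁻¹ X := sSup_le (by
      rintro _ ⟨h, rfl⟩ z hz
      obtain ⟨y, hy, rfl⟩ := (E.mem_cs P.Y_le_T).1 hz
      refine (E.mem_cs hXT).2 ⟨E.c (k * h) y, hgen _ (E.c_mem_cs P.Y_le_T _ hy), ?_⟩
      rw [E.c_c (P.Y_le_T hy), ← mul_assoc, inv_mul_cancel, one_mul])
    obtain ⟨x', hx', rfl⟩ := (E.mem_cs hXT).1 (hle hx)
    rwa [E.c_c_inv (hXT hx')]
  have hXall : ∀ x ∈ X, (x ∈ E.T ∧ ∀ t ∈ E.T, ⁅x, t⁆ ∈ E.Zc) ∧ x ^ p ∈ E.Zc := by
    intro x hx
    rw [hXdef, sSup_eq_iSup'] at hx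
    induction hx using Subgroup.iSup_induction' with
    | hp i z hz =>
      obtain ⟨_, h, rfl⟩ := i
      refine ⟨⟨E.cs_le P.Y_le_T h hz, fun t ht => P.PhY hz ht⟩, ?_⟩
      obtain ⟨y, hy, rfl⟩ := (E.mem_cs P.Y_le_T).1 hz
      rw [← E.c_pow (P.Y_le_T hy)]
      exact E.Zc_inv.2 h _ (P.Y_pow hy E)
    | h1 => exact ⟨⟨one_mem _, fun t _ => by rw [commutatorElement_one_left]; exact one_mem _⟩,
        by rw [one_pow]; exact one_mem _⟩
    | hmul z w _ _ ihz ihw =>
      refine ⟨⟨mul_mem ihz.1.1 ihw.1.1, fun t ht => ?_⟩, ?_⟩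
      · rw [comm_mul_left, center_conj (E.Zc_le_center (ihw.1.2 t ht))]
        exact mul_mem (ihw.1.2 t ht) (ihz.1.2 t ht)
      · have hcm := ihw.1.2 z ihz.1.1
        have hc := E.Zc_le_center hcm
        rw [CfsgLib.PGroups.mul_pow_of_commute (Subgroup.mem_center_iff.1 hc z).symm
          (Subgroup.mem_center_iff.1 hc w).symm]
        exact mul_mem (mul_mem ihz.2 ihw.2) (pow_mem hcm _)
  obtain ⟨v, hv, hvZ⟩ := P'.exists_moved
  have hg : E'.Gen E'.g0 := E'.gen
  obtain ⟨-, heT⟩ := P'.moved hg hv hvZ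
  set e := E'.c E'.g0 v
  obtain ⟨W, hWn, hWZ, hZcW, hPhi, -⟩ := E.end_core P.base (X := X) (Yl := X ⊓ z2 S) (e := e)
    { inv := hXi
      central := fun x hx => (hXall x hx).1.2
      exp := fun x hx => (hXall x hx).2
      le := inf_le_left
      two := inf_le_right
      char := fun φ hφ y hy => ⟨hφ y hy.1, mem_z2.2 fun s => by
        obtain ⟨r, rfl⟩ := φ.surjective s
        rw [← map_commutatorElement, Subgroup.mem_center_iff]
        intro s'
        obtain ⟨r', rfl⟩ := φ.surjective s'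
        rw [← map_mul, ← map_mul, Subgroup.mem_center_iff.1 (mem_z2.1 hy.2 r) r']⟩
      normal := by
        have := Emb.Inv.normal E hXi
        have : (z2 S).Normal := by rw [z2]; infer_instance
        exact Subgroup.normal_inf_normal X (z2 S)
      notMem := heT
      pow := by
        show E'.c E'.g0 v ^ p ∈ E.Zc
        rw [← E'.c_pow (P'.le hv), (E'.mem_Zc_iff.1 (E.V_pow P.base hv E')).2 E'.g0]
        exact E.V_pow P.base hv E
      comm := fun s => by
        have h := P'.step3 hg (E'.c_mem_cs P'.Y_le_T _ (P'.V'_le_Y hv)) s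
        have h' : ⁅e, s⁆ ∈ P.Y := by
          show ⁅e, s⁆ ∈ E.V ⊔ E'.V
          rw [sup_comm]; exact h
        exact ⟨hYX h', P.Y_le_z2 h'⟩ }
  refine le_trans (inf_le_inf_right _ ?_) hWZ
  rw [sZero, if_neg (by omega), if_pos h3]
  refine sup_le ?_ ?_
  · have h1 : ⁅frattini S, (⊤ : Subgroup S)⁆ ≤ Subgroup.center S ⊔ W :=
      Emb.comm_le (hPhi.trans (sup_le_sup_left le_sup_right _)) fun y hy s =>
        Subgroup.mem_sup_left (mem_z2.1 hy.2 s)
    exact Emb.comm_le h1 fun z hz s => by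
      rw [comm_eq_one (Subgroup.mem_center_iff.1 hz s).symm]; exact one_mem _
  · refine Emb.frattini_frattini_le P.base hPhi (fun y hy y' hy' => hZcW ?_)
      fun y hy => hZcW (hXall y hy.1).2
    exact (hXall y hy.1).1.2 y' (hXT hy'.1)

end Pair

end CfsgLib.LocalEven.GN
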