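import Cfsg.Agent.Lib.LocalEven.GN.Emb

/-!
Basic facts about `V = Z(T)` in a pushing-up situation, and the key commutator lemma.
-/

set_option autoImplicit false
set_option linter.unusedSectionVars false

namespace CfsgLib.LocalEven.GN

open Cfsg
open scoped commutatorElement Pointwise
open CD (cj cen zOf)

universe u

variable {p : ℕ}

theorem zOf_top {A : Type*} [Group A] : zOf (⊤ : Subgroup A) = Subgroup.center A := by
  rw [zOf, top_inf_eq, Subgroup.coe_top, Subgroup.centralizer_univ]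

theorem cen_top {A : Type*} [Group A] : cen (⊤ : Subgroup A) = Subgroup.center A := by
  rw [cen, Subgroup.coe_top, Subgroup.centralizer_univ]

theorem maxCentralProduct_le_of_hom {A B : Type*} [Group A] [Finite A] [Group B] [Finite B]
    (f : A →* B) (hf : Function.Injective f) : maxCentralProduct A ≤ maxCentralProduct B := by
  obtain ⟨R, hR⟩ := CD.exists_centrallyLarge (G := A)
  rw [← (hR : _ = maxCentralProduct A), CD.card_center_eq, ← Push.card_mul_zOf_map hf,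
    ← CD.card_center_eq]
  exact CD.central_le _

variable {S : Type u} [Group S] [Finite S]

/-- Elements central modulo the centre. -/
def z2 (S : Type u) [Group S] : Subgroup S := Subgroup.upperCentralSeries S 2

theorem mem_z2 {x : S} : x ∈ z2 S ↔ ∀ y : S, ⁅x, y⁆ ∈ Subgroup.center S := by
  rw [z2, show (2 : ℕ) = 1 + 1 from rfl, Subgroup.mem_upperCentralSeries_succ_iff]
  simp only [Subgroup.upperCentralSeries_one]

theorem comm_mul_right (u t a : S) : ⁅u, t * a⁆ = ⁅u, t⁆ * (t * ⁅u, a⁆ * t⁻¹) := by group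

theorem comm_mul_left (u v a : S) : ⁅u * v, a⁆ = u * ⁅v, a⁆ * u⁻¹ * ⁅u, a⁆ := by group

theorem comm_eq_one {a b : S} (h : a * b = b * a) : ⁅a, b⁆ = 1 :=
  commutatorElement_eq_one_iff_mul_comm.2 h

theorem center_conj {z : S} (hz : z ∈ Subgroup.center S) (t : S) : t * z * t⁻¹ = z := by
  rw [Subgroup.mem_center_iff.1 hz t, mul_inv_cancel_right]

namespace Emb

variable [Fact p.Prime] (E : Emb p S)

theorem range_eq : (⊤ : Subgroup S).map E.ι = E.ι.range := (MonoidHom.range_eq_map E.ι).symm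

theorem zOf_range : zOf E.ι.range = (Subgroup.center S).map E.ι := by
  rw [← E.range_eq, Push.zOf_map E.inj, zOf_top]

theorem range_cls (hB : Base p S) : Push.CLs E.ι.range E.ι.range := by
  refine ⟨le_rfl, le_antisymm (Push.prod_le le_rfl) ?_⟩
  have e := MonoidHom.ofInjective E.inj
  refine (maxCentralProduct_le_of_hom e.symm.toMonoidHom e.symm.injective).trans (le_of_eq ?_)
  rw [← (hB.top : _ = maxCentralProduct S), CD.card_center_eq, ← E.range_eq,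
    Push.card_mul_zOf_map E.inj]

theorem V_le : E.V ≤ E.T := by
  intro x hx
  refine E.setup.cenT ?_
  rw [← E.T0_eq]
  rintro _ ⟨t, ht, rfl⟩
  rw [← map_mul, ← map_mul, (hx : x ∈ cen E.T) t ht]

theorem zOf_T0 : zOf E.T0 = E.V.map E.ι := by
  rw [← E.T0_eq, Push.zOf_map E.inj]
  exact congrArg (Subgroup.map E.ι) (inf_eq_right.2 E.V_le)

theorem center_le_V : Subgroup.center S ≤ E.V := fun _ hz t _ => Subgroup.mem_center_iff.1 hz t

theorem zne' : ¬ zOf E.ι.range ≤ Subgroup.center E.G := by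
  rw [E.zOf_range]; exact E.zne

theorem quad (hB : Base p S) : Push.Quadratic p E.ι.range E.T0 :=
  Push.quadratic E.setup (E.range_cls hB) E.zne'

theorem index (hB : Base p S) :
    Nat.card E.T * Nat.card E.V = maxCentralizerProduct S := by
  have h := (E.quad hB).index
  rw [E.zOf_T0, E.zOf_range, ← E.T0_eq, ← E.range_eq, Subgroup.card_map_of_injective E.inj,
    Subgroup.card_map_of_injective E.inj, Subgroup.card_map_of_injective E.inj,
    Subgroup.card_map_of_injective E.inj] at h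
  rw [h, ← CD.maxCentralProduct_eq, ← (hB.top : _ = maxCentralProduct S), CD.card_center_eq,
    zOf_top]

theorem T_large (hB : Base p S) : IsCentralizerLarge E.T := E.index hB

theorem cen_V (hB : Base p S) : cen E.V = E.T := (CD.large_cen (E.T_large hB)).2

theorem V_large (hB : Base p S) : IsCentralizerLarge E.V := (CD.large_cen (E.T_large hB)).1

theorem T_inv : E.Inv E.T := ⟨le_rfl, fun g _ hx => E.c_mem hx g⟩

theorem V_inv : E.Inv E.V := by
  refine ⟨E.V_le, fun g x hx => ?_⟩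
  intro t ht
  have hxT := E.V_le hx
  have h := congrArg (E.c g) ((hx : x ∈ cen E.T) _ (E.c_mem ht g⁻¹))
  rwa [E.c_mul (E.c_mem ht _) hxT, E.c_mul hxT (E.c_mem ht _), E.c_c_inv ht] at h

theorem bot_inv : E.Inv ⊥ := ⟨bot_le, fun g x hx => by
  rw [Subgroup.mem_bot] at hx ⊢; rw [hx, E.c_one]⟩

theorem V_comm {v t : S} (hv : v ∈ E.V) (ht : t ∈ E.T) : v * t = t * v :=
  ((hv : v ∈ cen E.T) t ht).symm

theorem V_abelian : E.V ≤ cen E.V := fun _ hx _ hy => (hx : _ ∈ cen E.T) _ (E.V_le hy)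

/-- An element of `V ∖ Z(S)` commutes only with `T`. -/
theorem fix (hB : Base p S) {v s : S} (hv : v ∈ E.V) (hs : s ∉ E.T) (h : s * v = v * s) :
    v ∈ Subgroup.center S := by
  have h1 := (E.quad hB).fix (E.ι s) ⟨s, rfl⟩ hs (E.ι v)
    (E.zOf_T0.symm ▸ ⟨v, hv, rfl⟩) (by rw [← map_mul, ← map_mul, h])
  rw [E.zOf_range] at h1
  exact (Subgroup.mem_map_iff_mem E.inj).1 h1

theorem mem_T_of_comm (hB : Base p S) {v s : S} (hv : v ∈ E.V) (hvZ : v ∉ Subgroup.center S)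
    (h : s * v = v * s) : s ∈ E.T := by
  by_contra hs
  exact hvZ (E.fix hB hv hs h)

theorem exists_notMem : ∃ b : S, b ∉ E.T := by
  obtain ⟨_, ⟨b, rfl⟩, hb⟩ := SetLike.not_le_iff_exists.1 E.setup.ne
  exact ⟨b, hb⟩

theorem mem_Zc_iff {z : S} : z ∈ E.Zc ↔ z ∈ E.V ∧ ∀ g : E.G, E.c g z = z := by
  refine and_congr_right fun hzV => ?_
  have hzT := E.V_le hzV
  refine Iff.trans (Subgroup.mem_center_iff (z := E.ι z)) ?_
  constructor
  · intro h g
    apply E.inj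
    rw [E.ι_c hzT, h g, mul_inv_cancel_right]
  · intro h g
    have := congrArg E.ι (h g)
    rw [E.ι_c hzT, mul_inv_eq_iff_eq_mul] at this
    exact this

theorem Zc_le_center : E.Zc ≤ Subgroup.center S := fun z hz => by
  rw [Subgroup.mem_center_iff]
  intro s
  apply E.inj
  rw [map_mul, map_mul, Subgroup.mem_center_iff.1 hz.2]

theorem Zc_inv : E.Inv E.Zc :=
  ⟨inf_le_left.trans E.V_le, fun g z hz => by rw [(E.mem_Zc_iff.1 hz).2 g]; exact hz⟩

theorem zc_of_fx {z : S} (hz : z ∈ E.V) (h : E.Fx ⊥ z) : z ∈ E.Zc :=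
  E.mem_Zc_iff.2 ⟨hz, fun g => mul_inv_eq_one.1 (Subgroup.mem_bot.1 (h g))⟩

/-- A central element which is also central in an opposite Sylow subgroup is central. -/
theorem zc_of_center {g : E.G} (hg : E.Gen g) {z : S} (hz : z ∈ Subgroup.center S)
    (hgz : E.c g z ∈ Subgroup.center S) : z ∈ E.Zc := by
  obtain ⟨b, hb⟩ := E.exists_notMem
  refine E.zc_of_fx (E.center_le_V hz) ?_
  refine E.hammer hg E.bot_inv (C := {z}) ?_ ?_ hb ?_ z rfl
  · rintro x rfl; exact E.V_le (E.center_le_V hz)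
  · rintro x rfl s
    rw [Subgroup.mem_bot]; exact comm_eq_one (Subgroup.mem_center_iff.1 hz s).symm
  · rintro x rfl
    rw [center_conj hgz]
    exact Subgroup.mem_sup_left (Subgroup.subset_closure ⟨_, rfl, rfl⟩)

theorem center_inf_cs {g : E.G} (hg : E.Gen g) :
    Subgroup.center S ⊓ E.cs g (Subgroup.center S) ≤ E.Zc := by
  rintro x ⟨hx, hx'⟩
  obtain ⟨z, hz, rfl⟩ := (E.mem_cs (E.center_le_V.trans E.V_le)).1 hx'
  exact E.Zc_inv.2 g z (E.zc_of_center hg hz hx)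

theorem V_eq (hB : Base p S) {g : E.G} (hg : E.Gen g) :
    Subgroup.center S ⊔ E.cs g (Subgroup.center S) = E.V := by
  have hZV := E.center_le_V
  have hZT := hZV.trans E.V_le
  have hle : E.cs g (Subgroup.center S) ≤ E.V :=
    (E.cs_mono hZV g).trans (Inv.cs_eq E E.V_inv g).le
  refine Subgroup.eq_of_le_of_card_ge (sup_le hZV hle) ?_
  obtain ⟨g', -, hint, -, hcard⟩ :=
    (Push.quadraticCore E.setup E.zne' (Push.hmax_of_cls E.setup (E.range_cls hB))).two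
  rw [E.zOf_range, E.zOf_T0, Subgroup.card_map_of_injective E.inj,
    Subgroup.card_map_of_injective E.inj] at hcard
  have hc : E.V.map E.ι ⊓ Subgroup.center E.G = E.Zc.map E.ι := by
    rw [Zc, Subgroup.map_inf _ _ _ E.inj, Subgroup.map_comap_eq, ← inf_assoc,
      inf_eq_left.2 (show E.V.map E.ι ≤ E.ι.range from fun _ ⟨x, _, hx⟩ => ⟨x, hx⟩)]
  rw [hc, Subgroup.card_map_of_injective E.inj] at hcard
  have h := CD.card_mul_set (Subgroup.center S) (E.cs g (Subgroup.center S))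
  rw [E.card_cs hZT, hcard] at h
  refine Nat.le_of_mul_le_mul_right ?_ (Nat.card_pos (α := E.Zc))
  rw [← h]
  exact Nat.mul_le_mul (CD.card_mul_set_le _ _)
    (Nat.card_mono (Set.toFinite _) (SetLike.coe_subset_coe.2 (E.center_inf_cs hg)))

/-- `p`-th powers of central elements are central in the ambient group. -/
theorem zpow_mem_Zc (hB : Base p S) {z : S} (hz : z ∈ Subgroup.center S) : z ^ p ∈ E.Zc := by
  refine ⟨E.center_le_V (pow_mem hz p), ?_⟩
  show E.ι (z ^ p) ∈ Subgroup.center E.G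
  rw [map_pow]
  refine (Push.quadraticCore E.setup E.zne' (Push.hmax_of_cls E.setup (E.range_cls hB))).powc _ ?_
  rw [E.zOf_range]
  exact ⟨z, hz, rfl⟩

theorem V_pow_eq (hB : Base p S) {v : S} (hv : v ∈ E.V) :
    ∃ z ∈ Subgroup.center S, ∃ z' ∈ Subgroup.center S, v ^ p = z ^ p * z' ^ p := by
  have hg : E.Gen E.g0 := E.gen
  rw [← E.V_eq hB hg] at hv
  have hle : E.cs E.g0 (Subgroup.center S) ≤ cen (Subgroup.center S) := fun x _ y hy =>
    (Subgroup.mem_center_iff.1 hy x).symm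
  have hv' : v ∈ ((Subgroup.center S ⊔ E.cs E.g0 (Subgroup.center S) : Subgroup S) : Set S) := hv
  rw [CD.sup_eq_mul_of_le_cen hle] at hv'
  obtain ⟨z, hz, _, he, rfl⟩ := hv'
  obtain ⟨z', hz', rfl⟩ := (E.mem_cs (E.center_le_V.trans E.V_le)).1 he
  refine ⟨z, hz, z', hz', ?_⟩
  rw [(Commute.symm (Subgroup.mem_center_iff.1 hz _)).mul_pow,
    ← E.c_pow (E.V_le (E.center_le_V hz')), (E.mem_Zc_iff.1 (E.zpow_mem_Zc hB hz')).2]

/-- `p`-th powers in `V` are central in every ambient group. -/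
theorem V_pow (hB : Base p S) {v : S} (hv : v ∈ E.V) (F : Emb p S) : v ^ p ∈ F.Zc := by
  obtain ⟨z, hz, z', hz', e⟩ := E.V_pow_eq hB hv
  rw [e]
  exact mul_mem (F.zpow_mem_Zc hB hz) (F.zpow_mem_Zc hB hz')

theorem V_pow_one (hB : Base p S) (hzp : ∀ z ∈ Subgroup.center S, z ^ p = 1) {v : S}
    (hv : v ∈ E.V) : v ^ p = 1 := by
  obtain ⟨z, hz, z', hz', e⟩ := E.V_pow_eq hB hv
  rw [e, hzp z hz, hzp z' hz', one_mul]

theorem comm_V (hB : Base p S) {v : S} (hv : v ∈ E.V) (s : S) : ⁅v, s⁆ ∈ Subgroup.center S := by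
  have hTn := E.setup.normal
  set R := E.ι.range
  set V0 := zOf E.T0
  have hV0n : V0.Normal := Push.zOf_normal hTn
  have hVab : IsMulCommutative V0 := Subgroup.le_centralizer_iff_isMulCommutative.1
    (inf_le_right.trans (CD.cen_anti inf_le_left))
  have hTV : E.T0 ≤ cen V0 := Subgroup.le_centralizer_iff.1 inf_le_right
  have hcenV : R ⊓ cen V0 ≤ E.T0 := (E.quad hB).cenV
  have hSV : R ≤ Subgroup.normalizer (V0 : Set E.G) := fun x _ => by
    rw [Subgroup.normalizer_eq_top_iff.2 hV0n]; trivial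
  have hab : ⁅R, R⁆ ≤ cen V0 := E.setup.comm.trans hTV
  have hmax := Push.hmax_of_cls E.setup (E.range_cls hB)
  obtain ⟨-, -⟩ := PLocal.replacement hVab hSV hab hmax (le_refl V0)
  set B := R ⊓ cen ⁅V0, R⁆ with hBdef
  have hVSle : ⁅V0, R⁆ ≤ V0 := Subgroup.commutator_le_left V0 R
  have hB' : B = R := by
    refine (E.setup.irred B (le_inf E.setup.le (hTV.trans (CD.cen_anti hVSle))) inf_le_left
      fun x hx => ?_).resolve_left fun hBT => ?_
    · have e1 : cj x R = R := CD.cj_eq_of_mem_normalizer hx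
      have e2 : cj x V0 = V0 := CD.cj_eq_of_mem_normalizer
        (by rw [Subgroup.normalizer_eq_top_iff.2 hV0n]; trivial)
      have e3 : cj x ⁅V0, R⁆ = ⁅V0, R⁆ :=
        (Subgroup.map_commutator V0 R _).trans (congrArg₂ (fun a b : Subgroup E.G => ⁅a, b⁆) e2 e1)
      refine le_inf ((CD.cj_mono x inf_le_left).trans e1.le)
        ((CD.cj_mono x inf_le_right).trans ?_)
      rw [← CD.cen_cj, e3]
    · have hne : ⁅V0, R⁆ ≠ ⊥ := by
        rw [Ne, Subgroup.commutator_eq_bot_iff_le_centralizer]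
        intro h
        exact E.setup.ne (fun x hx => hcenV ⟨hx, Subgroup.le_centralizer_iff.1 h hx⟩)
      refine PLocal.replacement_nontrivial (p := p) hVab
        ((E.setup.isP.to_le E.setup.le).to_le inf_le_left)
        hSV hab (fun a ha => ⟨1, by rw [pow_one]; exact hTV (E.setup.pow a ha)⟩) hmax (le_refl V0)
        hne ?_
      rw [Subgroup.commutator_eq_bot_iff_le_centralizer]
      exact Subgroup.le_centralizer_iff.1 (hBT.le.trans hTV)
  have hm : E.ι ⁅v, s⁆ ∈ ⁅V0, R⁆ := by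
    rw [map_commutatorElement]
    exact Subgroup.commutator_mem_commutator (by rw [show V0 = E.V.map E.ι from E.zOf_T0]; exact ⟨v, hv, rfl⟩)
      ⟨s, rfl⟩
  rw [Subgroup.mem_center_iff]
  intro y
  apply E.inj
  rw [map_mul, map_mul]
  exact ((hB'.ge ⟨y, rfl⟩ : E.ι y ∈ B).2 _ hm).symm

theorem V_le_z2 (hB : Base p S) : E.V ≤ z2 S := fun _ hv => mem_z2.2 (E.comm_V hB hv)

/-- Commutators with `S ∖ T` detect `V` modulo `Z(S)`, even modulo the central part. -/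
theorem mem_center_of_comm (hB : Base p S) {v s : S} (hv : v ∈ E.V) (hs : s ∉ E.T)
    (h : ⁅v, s⁆ ∈ E.Zc) : v ∈ Subgroup.center S := by
  have hg : E.Gen E.g0 := E.gen
  have hv' : v ∈ ((Subgroup.center S ⊔ E.cs E.g0 (Subgroup.center S) : Subgroup S) : Set S) := by
    rw [E.V_eq hB hg]; exact hv
  have hle : E.cs E.g0 (Subgroup.center S) ≤ cen (Subgroup.center S) := fun x _ y hy =>
    (Subgroup.mem_center_iff.1 hy x).symm
  rw [CD.sup_eq_mul_of_le_cen hle] at hv'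
  obtain ⟨z, hz, e, he, rfl⟩ := hv'
  obtain ⟨z', hz', rfl⟩ := (E.mem_cs (E.center_le_V.trans E.V_le)).1 he
  set e := E.c E.g0 z' with hedef
  have hzs : ⁅z, s⁆ = 1 := comm_eq_one (Subgroup.mem_center_iff.1 hz s).symm
  have hes : ⁅e, s⁆ ∈ E.Zc := by
    have h1 : ⁅z * e, s⁆ = ⁅e, s⁆ := by
      rw [comm_mul_left, hzs, mul_one, ← Subgroup.mem_center_iff.1 hz ⁅e, s⁆,
        mul_inv_cancel_right]
    rwa [← h1]
  have hz'T := E.V_le (E.center_le_V hz')
  have hfx : E.Fx E.Zc z' := by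
    refine E.hammer hg E.Zc_inv (C := {z'}) ?_ ?_ hs ?_ z' rfl
    · rintro x rfl; exact hz'T
    · rintro x rfl y
      rw [comm_eq_one (Subgroup.mem_center_iff.1 hz' y).symm]; exact one_mem _
    · rintro x rfl
      have h1 : s * e * s⁻¹ = ⁅e, s⁆⁻¹ * e := by group
      rw [h1]
      exact mul_mem (Subgroup.mem_sup_right (inv_mem hes))
        (Subgroup.mem_sup_left (Subgroup.subset_closure ⟨_, rfl, rfl⟩))
  have hez : ∀ h : E.G, E.c h e * e⁻¹ ∈ E.Zc := fun h => by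
    have h1 := hfx (h * E.g0)
    have h2 := hfx E.g0
    rw [hedef, E.c_c hz'T]
    have h3 : E.c (h * E.g0) z' * (E.c E.g0 z')⁻¹ =
        (E.c (h * E.g0) z' * z'⁻¹) * (E.c E.g0 z' * z'⁻¹)⁻¹ := by group
    rw [h3]; exact mul_mem h1 (inv_mem h2)
  have heT : e ∈ E.T := E.c_mem hz'T _
  let ψ : E.G →* ↥(Subgroup.center E.G) :=
    { toFun := fun h => ⟨h * E.ι e * h⁻¹ * (E.ι e)⁻¹, by
        have : E.ι (E.c h e * e⁻¹) ∈ Subgroup.center E.G := (hez h).2
        rwa [map_mul, E.ι_c heT, map_inv] at this⟩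
      map_one' := Subtype.ext (by simp)
      map_mul' := fun a b => Subtype.ext <| by
        have hb : E.ι (E.c b e * e⁻¹) ∈ Subgroup.center E.G := (hez b).2
        rw [map_mul, E.ι_c heT, map_inv] at hb
        change a * b * E.ι e * (a * b)⁻¹ * (E.ι e)⁻¹ =
          a * E.ι e * a⁻¹ * (E.ι e)⁻¹ * (b * E.ι e * b⁻¹ * (E.ι e)⁻¹)
        have h1 : a * b * E.ι e * (a * b)⁻¹ * (E.ι e)⁻¹ =
            a * (b * E.ι e * b⁻¹ * (E.ι e)⁻¹) * E.ι e * a⁻¹ * (E.ι e)⁻¹ := by group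
        generalize b * E.ι e * b⁻¹ * (E.ι e)⁻¹ = w at h1 hb ⊢
        rw [h1, Subgroup.mem_center_iff.1 hb a, mul_assoc w, mul_assoc w, mul_assoc w,
          ← Subgroup.mem_center_iff.1 hb (a * E.ι e * a⁻¹ * (E.ι e)⁻¹)] }
  have hker : cj E.g0 E.ι.range ≤ ψ.ker := by
    rintro _ ⟨_, ⟨y, rfl⟩, rfl⟩
    rw [MonoidHom.mem_ker]
    refine Subtype.ext ?_
    change (MulAut.conj E.g0).toMonoidHom (E.ι y) * E.ι e * ((MulAut.conj E.g0).toMonoidHom (E.ι y))⁻¹ *
      (E.ι e)⁻¹ = 1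
    have hzy : E.ι y * E.ι z' = E.ι z' * E.ι y := by
      rw [← map_mul, ← map_mul, Subgroup.mem_center_iff.1 hz' y]
    rw [hedef, E.ι_c hz'T, MulEquiv.coe_toMonoidHom, MulAut.conj_apply,
      mul_inv_eq_one]
    calc E.g0 * E.ι y * E.g0⁻¹ * (E.g0 * E.ι z' * E.g0⁻¹) * (E.g0 * E.ι y * E.g0⁻¹)⁻¹
        = E.g0 * (E.ι y * E.ι z') * (E.ι y)⁻¹ * E.g0⁻¹ := by group
      _ = _ := by rw [hzy]; group
  have hs' : ψ (E.ι s) = 1 := by
    have h2 := CD.cj_mono E.g0⁻¹ hker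
    rw [CD.cj_cj, inv_mul_cancel, CD.cj_one] at h2
    exact MonoidHom.mem_ker.1 (Push.cj_le_of_normal inferInstance _ (h2 ⟨s, rfl⟩))
  have hse : s * e = e * s := by
    apply E.inj
    have h := congrArg Subtype.val hs'
    change E.ι s * E.ι e * (E.ι s)⁻¹ * (E.ι e)⁻¹ = 1 at h
    rw [mul_inv_eq_one, mul_inv_eq_iff_eq_mul] at h
    rw [map_mul, map_mul, h]
  exact mul_mem hz (E.fix hB (E.V_inv.2 _ z' (E.center_le_V hz')) hs hse)

/-- Commutators of elements fixed modulo `N` with an invariant set centralising `N`. -/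
theorem equi {N W : Subgroup S} (hW : E.Inv W)
    (hNW : ∀ n ∈ N, ∀ w ∈ W, n * w = w * n) {y : S} (hy : y ∈ E.T) (hfy : E.Fx N y)
    (hZ : ∀ w ∈ W, ⁅y, w⁆ ∈ Subgroup.center S) {w : S} (hw : w ∈ W) : ⁅y, w⁆ ∈ E.Zc := by
  refine E.zc_of_center E.gen (hZ w hw) ?_
  have hw' := hW.2 E.g0 w hw
  have hn := hfy E.g0
  rw [E.c_comm hy (hW.1 hw)]
  have h1 : E.c E.g0 y = E.c E.g0 y * y⁻¹ * y := by group
  rw [h1, comm_mul_left, comm_eq_one (hNW _ hn _ hw'), mul_one, center_conj (hZ _ hw')]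
  exact hZ _ hw'

theorem cen_cs_le {g : E.G} {L : Subgroup S} (hVL : E.V ≤ L) (hLT : L ≤ E.T) :
    E.V ≤ E.cs g L := fun x hx =>
  (E.mem_cs hLT).2 ⟨_, hVL (E.V_inv.2 g⁻¹ x hx), E.c_c_inv (E.V_le hx) g⟩

theorem cen_le_T (hB : Base p S) {L : Subgroup S} (hVL : E.V ≤ L) : cen L ≤ E.T :=
  (CD.cen_anti hVL).trans (E.cen_V hB).le

/-- Conjugates of large subgroups between `V` and `T` are large. -/
theorem cs_large (hB : Base p S) {g : E.G} {L : Subgroup S} (hL : IsCentralizerLarge L)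
    (hVL : E.V ≤ L) (hLT : L ≤ E.T) : IsCentralizerLarge (E.cs g L) := by
  refine CD.large_of_le ?_
  rw [← (hL : _ = maxCentralizerProduct S), CD.meas, E.card_cs hLT]
  refine Nat.mul_le_mul_left _ ?_
  have hcT := E.cen_le_T hB hVL
  rw [← E.card_cs (g := g) hcT]
  refine Nat.card_mono (Set.toFinite _) ?_
  intro x hx
  obtain ⟨d, hd, rfl⟩ := (E.mem_cs hcT).1 hx
  intro y hy
  obtain ⟨r, hr, rfl⟩ := (E.mem_cs hLT).1 hy
  rw [← E.c_mul (hLT hr) (hcT hd), ← E.c_mul (hcT hd) (hLT hr), (hd : d ∈ cen L) r hr]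

theorem c_mem_cen (hB : Base p S) {g : E.G} {L : Subgroup S} (hVL : E.V ≤ L) (hLT : L ≤ E.T)
    {d : S} (hd : d ∈ cen L) : E.c g d ∈ cen (E.cs g L) := by
  intro y hy
  obtain ⟨r, hr, rfl⟩ := (E.mem_cs hLT).1 hy
  have hdT := E.cen_le_T hB hVL hd
  rw [← E.c_mul (hLT hr) hdT, ← E.c_mul hdT (hLT hr), (hd : d ∈ cen L) r hr]

theorem inv_cen' (hB : Base p S) {X : Subgroup S} (hX : E.Inv X) (hVX : E.V ≤ X) :
    E.Inv (cen X) := by
  refine ⟨E.cen_le_T hB hVX, fun g d hd => ?_⟩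
  have h := E.c_mem_cen hB (g := g) hVX hX.1 hd
  rwa [Inv.cs_eq E hX] at h

theorem exists_maxAb : ∃ A ∈ maxAbelianSubgroups S, ∃ b ∈ A, b ∉ E.T := by
  by_contra h
  push Not at h
  refine E.jT (Subgroup.map_le_iff_le_comap.2 ?_)
  exact sSup_le fun A hA => fun x hx => h A hA x hx

/-- An abelian subgroup with an element outside `T` splitting conjugation and centralisers of `U`. -/
def Splits (U : Subgroup S) : Prop :=
  ∃ (A : Subgroup S) (b : S), b ∈ A ∧ b ∉ E.T ∧ A ≤ cen A ∧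
    ((cen (A ⊓ U) : Subgroup S) : Set S) ⊆
      ((cen A : Subgroup S) : Set S) * ((cen U : Subgroup S) : Set S) ∧
    ∀ u ∈ U, b * u * b⁻¹ ∈ (A : Set S) * (U : Set S)

/-- **The key lemma.** -/
theorem key (hB : Base p S) {g : E.G} (hg : E.Gen g) {N L : Subgroup S} (hN : E.Inv N)
    (hsp : E.Splits (E.cs g L)) (hVL : E.V ≤ L) (hLT : L ≤ E.T)
    (hLN : ∀ y ∈ L, ∀ s : S, ⁅y, s⁆ ∈ N) {W : Set S} (hW : ∀ w ∈ W, w ∈ E.T)
    (hF : ∀ y ∈ L, E.Fx N y → ∀ w ∈ W, y * w = w * y)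
    (hZ : ∀ y ∈ L, ∀ w ∈ W, ⁅y, w⁆ ∈ Subgroup.center S) :
    ∀ y ∈ L, ∀ w ∈ W, ⁅y, w⁆ ∈ E.Zc := by
  obtain ⟨A, b, hbA, hbT, hAc, hcap, hmv⟩ := hsp
  have hAab : ∀ x ∈ A, ∀ y ∈ A, x * y = y * x := fun x hx y hy => hAc hy x hx
  -- `A ∩ L^g` centralises `W^g`
  have h1 : ∀ w ∈ W, E.c g w ∈ cen (A ⊓ E.cs g L) := by
    intro w hw y hy
    obtain ⟨y0, hy0, rfl⟩ := (E.mem_cs hLT).1 hy.2
    have hfx : E.Fx N y0 := by
      refine E.hammer hg hN (C := {y0}) ?_ ?_ hbT ?_ y0 rfl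
      · rintro x rfl; exact hLT hy0
      · rintro x rfl s; exact hLN _ hy0 s
      · rintro x rfl
        rw [hAab b hbA _ hy.1, mul_inv_cancel_right]
        exact Subgroup.mem_sup_left (Subgroup.subset_closure ⟨_, rfl, rfl⟩)
    rw [← E.c_mul (hLT hy0) (hW w hw), ← E.c_mul (hW w hw) (hLT hy0), hF y0 hy0 hfx w hw]
  set Bset : Set S := {β | β ∈ cen A ∧ β ∈ E.T ∧
    ∀ y ∈ E.cs g L, ⁅y, β⁆ ∈ E.cs g (Subgroup.center S)} with hBset
  have hZT : Subgroup.center S ≤ E.T := E.center_le_V.trans E.V_le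
  set C : Set S := {z | z ∈ Subgroup.center S ∧
    ∃ y ∈ E.cs g L, ∃ β ∈ Bset, ⁅y, β⁆ = E.c g z} with hCdef
  intro y0 hy0 w0 hw0
  have hw1 := h1 w0 hw0
  have hw2 : E.c g w0 ∈ ((cen A : Subgroup S) : Set S) * ((cen (E.cs g L) : Subgroup S) : Set S) :=
    hcap hw1
  obtain ⟨β, hβ, d, hd, hβd⟩ := hw2
  change β * d = E.c g w0 at hβd
  rw [SetLike.mem_coe] at hβ
  have hdT : d ∈ E.T := E.cen_le_T hB (E.cen_cs_le hVL hLT) hd
  have hβT : β ∈ E.T := by
    rw [show β = E.c g w0 * d⁻¹ by rw [← hβd, mul_inv_cancel_right]]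
    exact mul_mem (E.c_mem (hW w0 hw0) g) (inv_mem hdT)
  have hcomm : ∀ y ∈ L, ⁅E.c g y, β⁆ = E.c g ⁅y, w0⁆ := by
    intro y hy
    rw [E.c_comm (hLT hy) (hW w0 hw0), ← hβd, comm_mul_right,
      comm_eq_one ((hd : d ∈ cen _) _ (E.c_mem_cs hLT g hy)), mul_one, mul_inv_cancel, mul_one]
  have hβmem : β ∈ Bset := by
    refine ⟨hβ, hβT, fun y hy => ?_⟩
    obtain ⟨y1, hy1, rfl⟩ := (E.mem_cs hLT).1 hy
    rw [hcomm y1 hy1]
    exact E.c_mem_cs hZT g (hZ y1 hy1 w0 hw0)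
  have hmemC : ⁅y0, w0⁆ ∈ C :=
    ⟨hZ y0 hy0 w0 hw0, _, E.c_mem_cs hLT g hy0, β, hβmem, hcomm y0 hy0⟩
  refine E.zc_of_fx (E.center_le_V (hZ y0 hy0 w0 hw0)) ?_
  refine E.hammer hg E.bot_inv (C := C) (fun z hz => hZT hz.1) ?_ hbT ?_ _ hmemC
  · intro z hz s
    rw [Subgroup.mem_bot]; exact comm_eq_one (Subgroup.mem_center_iff.1 hz.1 s).symm
  rintro z ⟨hz, y, hy, β', ⟨hβA, hβT', hβZ⟩, hyz⟩
  rw [← hyz]
  obtain ⟨κ, hκ, y', hy', hκy⟩ := hmv y hy
  change κ * y' = b * y * b⁻¹ at hκy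
  have hy'T : y' ∈ E.T := E.cs_le hLT g hy'
  have hκT : κ ∈ E.T := by
    rw [show κ = b * y * b⁻¹ * y'⁻¹ by rw [← hκy, mul_inv_cancel_right]]
    exact mul_mem (E.conj_mem_T (E.cs_le hLT g hy) b) (inv_mem hy'T)
  have hV1 : ⁅y', β'⁆ ∈ E.V := by
    obtain ⟨z1, hz1, e⟩ := (E.mem_cs hZT).1 (hβZ y' hy')
    rw [← e]; exact E.V_inv.2 g z1 (E.center_le_V hz1)
  have h4 : b * ⁅y, β'⁆ * b⁻¹ = ⁅y', β'⁆ := by
    have e1 : b * β' * b⁻¹ = β' := by rw [hβA b hbA, mul_inv_cancel_right]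
    have e2 : b * ⁅y, β'⁆ * b⁻¹ = ⁅b * y * b⁻¹, b * β' * b⁻¹⁆ := by group
    rw [e2, e1, ← hκy, comm_mul_left, comm_eq_one (hβA κ hκ), mul_one,
      ← E.V_comm hV1 hκT, mul_inv_cancel_right]
  rw [h4]
  obtain ⟨z1, hz1, e⟩ := (E.mem_cs hZT).1 (hβZ y' hy')
  rw [← e]
  exact Subgroup.mem_sup_left (Subgroup.subset_closure
    ⟨z1, ⟨hz1, y', hy', β', ⟨hβA, hβT', hβZ⟩, e.symm⟩, rfl⟩)

end Emb

end CfsgLib.LocalEven.GN
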