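import Cfsg.Agent.Lib.OddOrder.QuadraticSection
import Cfsg.Agent.Lib.OddOrder.SL2Sections

/-!
For `p ≥ 5`, a quadratic automorphism of order `p` centralises every `p'`-group of automorphisms
that it normalises.
-/

set_option autoImplicit false

namespace CfsgLib.LocalEven.GN

open CfsgLib.OddOrder
open scoped Pointwise commutatorElement

variable {p : ℕ} [Fact p.Prime]

/-- A quadratic automorphism centralises the `p'`-groups it normalises, for `p ≥ 5`. -/
theorem quad_comm (hp5 : 5 ≤ p) {A : Type*} [CommGroup A] [Finite A]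
    (hA : ∀ v : A, v ^ p = 1) (R : Subgroup (MulAut A)) (hR : ∀ ρ ∈ R, ρ ^ p = 1 → ρ = 1)
    (b : MulAut A) (hb : b ^ p = 1) (hn : ∀ ρ ∈ R, b * ρ * b⁻¹ ∈ R)
    (hq : ∀ v, b (b v) * v = b v * b v) {ρ : MulAut A} (hρ : ρ ∈ R) : ρ * b = b * ρ := by
  have : Finite (MulAut A) := Finite.of_injective (fun e => (e : A → A)) DFunLike.coe_injective
  set Hs := Subgroup.zpowers b ⊔ R with hHs
  have hnorm : Subgroup.zpowers b ≤ Subgroup.normalizer (R : Set (MulAut A)) := by
    rw [Subgroup.zpowers_le, Subgroup.mem_normalizer_iff_map_conj_eq]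
    refine Subgroup.eq_of_le_of_card_ge ?_
      (Subgroup.card_map_of_injective (MulAut.conj b).injective).ge
    rintro _ ⟨r, hr, rfl⟩
    exact hn r hr
  have hHn : Hs ≤ Subgroup.normalizer (R : Set (MulAut A)) := sup_le hnorm Subgroup.le_normalizer
  set N := R.subgroupOf Hs with hN
  have : N.Normal := Subgroup.normal_subgroupOf_iff_le_normalizer le_sup_right |>.2 hHn
  have hbH : b ∈ Hs := Subgroup.mem_sup_left (Subgroup.mem_zpowers b)
  have hρH : ρ ∈ Hs := Subgroup.mem_sup_right hρ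
  -- the quotient is a `p`-group
  have hquot : IsPGroup p (Hs ⧸ N) := by
    intro x
    obtain ⟨⟨y, hy⟩, rfl⟩ := QuotientGroup.mk_surjective x
    refine ⟨1, ?_⟩
    rw [pow_one, ← QuotientGroup.mk_pow, QuotientGroup.eq_one_iff]
    show y ^ p ∈ R
    have hy' : y ∈ ((Subgroup.zpowers b : Subgroup _) : Set (MulAut A)) * (R : Set (MulAut A)) := by
      rw [← Subgroup.coe_mul_of_left_le_normalizer_right _ _ hnorm]; exact hy
    obtain ⟨_, ⟨i, rfl⟩, r, hr, rfl⟩ := hy'
    set qn := QuotientGroup.mk' (R.subgroupOf (Subgroup.normalizer (R : Set (MulAut A))))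
    have hbn : b ^ i ∈ Subgroup.normalizer (R : Set (MulAut A)) :=
      hnorm (zpow_mem (Subgroup.mem_zpowers b) i)
    have hrn : r ∈ Subgroup.normalizer (R : Set (MulAut A)) := Subgroup.le_normalizer hr
    have h1 : qn (⟨b ^ i, hbn⟩ * ⟨r, hrn⟩) ^ p = 1 := by
      rw [map_mul, show qn ⟨r, hrn⟩ = 1 from (QuotientGroup.eq_one_iff _).2 hr, mul_one, ← map_pow]
      refine (QuotientGroup.eq_one_iff _).2 ?_
      show (b ^ i) ^ p ∈ R
      rw [← zpow_natCast, ← zpow_mul, mul_comm, zpow_mul, zpow_natCast, hb, one_zpow]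
      exact one_mem _
    rw [← map_pow] at h1
    have h2 := (QuotientGroup.eq_one_iff _).1 h1
    exact h2
  have hRcop : (Nat.card N).Coprime p := by
    rw [hN, Nat.card_congr (Subgroup.subgroupOfEquivOfLe le_sup_right).toEquiv]
    refine ((Fact.out : p.Prime).coprime_iff_not_dvd.2 fun hdvd => ?_).symm
    obtain ⟨⟨x, hx⟩, hxo⟩ := exists_prime_orderOf_dvd_card' p hdvd
    have h1 := pow_orderOf_eq_one (⟨x, hx⟩ : R)
    rw [hxo] at h1
    have h2 := hR x hx (congrArg Subtype.val h1)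
    subst h2
    rw [show (⟨(1 : MulAut A), hx⟩ : R) = 1 from rfl, orderOf_one] at hxo
    exact (Fact.out : p.Prime).one_lt.ne hxo
  have hps : Cfsg.IsPSolvable p Hs := CfsgLib.PLocal.isPSolvable_of_normal N
    (CfsgLib.PLocal.isPSolvable_of_coprime hRcop) (CfsgLib.PLocal.isPSolvable_of_isPGroup hquot)
  have hnoSL : ¬ InvolvesSL2 p Hs := fun h => by
    have := h.eq_three (by omega) hps
    omega
  -- Baer
  have hcore : (⟨b, hbH⟩ : Hs) ∈ Cfsg.pCore p Hs := by
    refine mem_pCore_of_pairs _ fun g => ?_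
    set x : Hs := ⟨b, hbH⟩
    set C := Subgroup.closure ({x, g * x * g⁻¹} : Set Hs) with hC
    have hxC : x ∈ C := Subgroup.subset_closure (Or.inl rfl)
    have hyC : g * x * g⁻¹ ∈ C := Subgroup.subset_closure (Or.inr rfl)
    let β : C →* MulAut A := Hs.subtype.comp C.subtype
    have hgen : Subgroup.closure ({⟨x, hxC⟩, ⟨g * x * g⁻¹, hyC⟩} : Set C) = ⊤ := by
      apply Subgroup.map_injective C.subtype_injective
      rw [MonoidHom.map_closure, ← MonoidHom.range_eq_map, Subgroup.range_subtype,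
        Set.image_pair]
      exact hC.symm
    have hq2 : ∀ v, β ⟨g * x * g⁻¹, hyC⟩ (β ⟨g * x * g⁻¹, hyC⟩ v) * v =
        β ⟨g * x * g⁻¹, hyC⟩ v * β ⟨g * x * g⁻¹, hyC⟩ v := by
      intro v
      show (g : MulAut A) (b ((g : MulAut A)⁻¹ ((g : MulAut A) (b ((g : MulAut A)⁻¹ v))))) * v =
        (g : MulAut A) (b ((g : MulAut A)⁻¹ v)) * (g : MulAut A) (b ((g : MulAut A)⁻¹ v))
      have h1 := congrArg (g : MulAut A) (hq ((g : MulAut A)⁻¹ v))
      simp only [map_mul, MulAut.apply_inv_self, MulAut.inv_apply_self] at h1 ⊢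
      exact h1
    rcases action_dichotomy p (by omega) hA β hgen (fun v => hq v) hq2 with h | h
    · intro c
      obtain ⟨k, hk⟩ := h c
      exact ⟨k, Subtype.ext (Subtype.ext hk)⟩
    · exact absurd h.of_subgroup hnoSL
  have hcn : (Cfsg.pCore p Hs).Normal := Cfsg.pCore_normal p Hs
  set c : Hs := ⁅(⟨ρ, hρH⟩ : Hs), ⟨b, hbH⟩⁆
  have hc1 : c ∈ Cfsg.pCore p Hs :=
    mul_mem (hcn.conj_mem _ hcore _) (inv_mem hcore)
  have hρN : (⟨ρ, hρH⟩ : Hs) ∈ N := hρ
  have hc2 : c ∈ N := by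
    have h := mul_mem hρN ((inferInstance : N.Normal).conj_mem _ (inv_mem hρN) ⟨b, hbH⟩)
    have e : c = ⟨ρ, hρH⟩ * (⟨b, hbH⟩ * ⟨ρ, hρH⟩⁻¹ * ⟨b, hbH⟩⁻¹) := by
      simp only [c, commutatorElement_def]; group
    rwa [e]
  obtain ⟨k, hk⟩ := CfsgLib.Base.isPGroup_pCore p Hs ⟨c, hc1⟩
  have hk' : c ^ p ^ k = 1 := congrArg Subtype.val hk
  have hd1 : orderOf c ∣ p ^ k := orderOf_dvd_of_pow_eq_one hk'
  have hd2 : orderOf c ∣ Nat.card N := N.orderOf_dvd_natCard hc2
  have hc : c = 1 := orderOf_eq_one_iff.1 (Nat.dvd_one.1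
    ((hRcop.pow_right k) ▸ Nat.dvd_gcd hd2 hd1))
  exact congrArg Subtype.val (commutatorElement_eq_one_iff_mul_comm.1 hc)

end CfsgLib.LocalEven.GN
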