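import Cfsg.Agent.Lib.LocalEven.GN.Line
import Cfsg.Agent.Lib.LocalEven.GN.Quad
import Cfsg.Agent.Lib.LocalEven.GN.Alg

/-!
The main case does not occur for `p ≥ 5`.
-/

set_option autoImplicit false
set_option linter.unusedSectionVars false

namespace CfsgLib.LocalEven.GN

open Cfsg
open scoped commutatorElement Pointwise
open CD (cj cen zOf)

universe u

variable {p : ℕ} [Fact p.Prime] {S : Type u} [Group S] [Finite S]

namespace Emb

variable (E : Emb p S)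

/-- The elements stabilising two subgroups of `T`. -/
def secStab (X N : Subgroup S) (hX : X ≤ E.T) (hN : N ≤ E.T) : Subgroup E.G where
  carrier := {h | (∀ x ∈ X, E.c h x ∈ X) ∧ ∀ x ∈ N, E.c h x ∈ N}
  one_mem' := ⟨fun x hx => by rw [E.c_one_left (hX hx)]; exact hx,
    fun x hx => by rw [E.c_one_left (hN hx)]; exact hx⟩
  mul_mem' := fun {a b} ha hb => ⟨fun x hx => by rw [← E.c_c (hX hx)]; exact ha.1 _ (hb.1 x hx),
    fun x hx => by rw [← E.c_c (hN hx)]; exact ha.2 _ (hb.2 x hx)⟩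
  inv_mem' := fun {a} ha => by
    have h : ∀ (Y : Subgroup S) (hY : Y ≤ E.T), (∀ x ∈ Y, E.c a x ∈ Y) →
        ∀ x ∈ Y, E.c a⁻¹ x ∈ Y := by
      intro Y hY h x hx
      let f : ↥Y → ↥Y := fun y => ⟨E.c a y, h y y.2⟩
      have hf : Function.Injective f := fun y z e => Subtype.ext <| by
        have h1 := congrArg (fun w : ↥Y => E.c a⁻¹ (w : S)) e
        simp only [f] at h1
        rwa [E.c_inv_c (hY y.2), E.c_inv_c (hY z.2)] at h1
      obtain ⟨y, hy⟩ := Finite.injective_iff_surjective.1 hf ⟨x, hx⟩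
      have e : E.c a (y : S) = x := congrArg Subtype.val hy
      rw [← e, E.c_inv_c (hY y.2)]; exact y.2
    exact ⟨h X hX ha.1, h N hN ha.2⟩

/-- The map induced on a section. -/
noncomputable def secMap (X N : Subgroup S) (hX : X ≤ E.T) (hN : N ≤ E.T)
    [(N.subgroupOf X).Normal] (h : ↥(E.secStab X N hX hN)) :
    ↥X ⧸ N.subgroupOf X →* ↥X ⧸ N.subgroupOf X :=
  QuotientGroup.map _ _
    { toFun := fun x => ⟨E.c h x, h.2.1 x x.2⟩
      map_one' := Subtype.ext (E.c_one _)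
      map_mul' := fun x y => Subtype.ext (E.c_mul (hX x.2) (hX y.2) _) }
    fun x hx => h.2.2 x hx

theorem secMap_mul (X N : Subgroup S) (hX : X ≤ E.T) (hN : N ≤ E.T) [(N.subgroupOf X).Normal]
    (h k : ↥(E.secStab X N hX hN)) (v : ↥X ⧸ N.subgroupOf X) :
    E.secMap X N hX hN (h * k) v = E.secMap X N hX hN h (E.secMap X N hX hN k v) := by
  obtain ⟨x, rfl⟩ := QuotientGroup.mk_surjective v
  exact congrArg QuotientGroup.mk (Subtype.ext (E.c_c (hX x.2) _ _).symm)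

theorem secMap_one (X N : Subgroup S) (hX : X ≤ E.T) (hN : N ≤ E.T) [(N.subgroupOf X).Normal]
    (v : ↥X ⧸ N.subgroupOf X) : E.secMap X N hX hN 1 v = v := by
  obtain ⟨x, rfl⟩ := QuotientGroup.mk_surjective v
  exact congrArg QuotientGroup.mk (Subtype.ext (E.c_one_left (hX x.2)))

/-- The action on a section. -/
noncomputable def secAut (X N : Subgroup S) (hX : X ≤ E.T) (hN : N ≤ E.T)
    [(N.subgroupOf X).Normal] : ↥(E.secStab X N hX hN) →* MulAut (↥X ⧸ N.subgroupOf X) where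
  toFun h :=
    { E.secMap X N hX hN h with
      invFun := E.secMap X N hX hN h⁻¹
      left_inv := fun v => by
        show E.secMap X N hX hN h⁻¹ (E.secMap X N hX hN h v) = v
        rw [← secMap_mul, inv_mul_cancel, secMap_one]
      right_inv := fun v => by
        show E.secMap X N hX hN h (E.secMap X N hX hN h⁻¹ v) = v
        rw [← secMap_mul, mul_inv_cancel, secMap_one] }
  map_one' := MulEquiv.ext fun v => E.secMap_one X N hX hN v
  map_mul' h k := MulEquiv.ext fun v => E.secMap_mul X N hX hN h k v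

theorem secAut_mk (X N : Subgroup S) (hX : X ≤ E.T) (hN : N ≤ E.T) [(N.subgroupOf X).Normal]
    (h : ↥(E.secStab X N hX hN)) (x : ↥X) :
    E.secAut X N hX hN h (QuotientGroup.mk x) =
      QuotientGroup.mk ⟨E.c h x, h.2.1 x x.2⟩ := rfl

theorem secAut_eq_one_iff (X N : Subgroup S) (hX : X ≤ E.T) (hN : N ≤ E.T)
    [(N.subgroupOf X).Normal] (h : ↥(E.secStab X N hX hN)) :
    E.secAut X N hX hN h = 1 ↔ ∀ x ∈ X, E.dl h x ∈ N := by
  constructor
  · intro e x hx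
    have h1 := MulEquiv.congr_fun e (QuotientGroup.mk ⟨x, hx⟩)
    rw [secAut_mk, MulAut.one_apply] at h1
    have h1' := (mul_inv_eq_one.2 h1)
    rw [← QuotientGroup.mk_inv, ← QuotientGroup.mk_mul, QuotientGroup.eq_one_iff] at h1'
    exact h1'
  · intro e
    refine MulEquiv.ext fun v => ?_
    obtain ⟨x, rfl⟩ := QuotientGroup.mk_surjective v
    rw [secAut_mk, MulAut.one_apply, ← mul_inv_eq_one, ← QuotientGroup.mk_inv,
      ← QuotientGroup.mk_mul, QuotientGroup.eq_one_iff]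
    exact e x x.2

theorem secStab_top {X N : Subgroup S} (hX : E.Inv X) (hN : E.Inv N) (h : E.G) :
    h ∈ E.secStab X N hX.1 hN.1 := ⟨hX.2 h, hN.2 h⟩

theorem dl_one_left {t : S} (ht : t ∈ E.T) : E.dl 1 t = 1 := by
  rw [dl, E.c_one_left ht, mul_inv_cancel]

theorem dl_mul_left (h k : E.G) {t : S} (ht : t ∈ E.T) :
    E.dl (h * k) t = E.c h (E.dl k t) * E.dl h t := by
  unfold dl
  rw [E.c_mul (E.c_mem ht k) (inv_mem ht), E.c_inv ht, E.c_c ht]
  group

end Emb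

namespace Pair

variable {E E' : Emb p S} (P : Pair E E') {g : E.G}

/-- `Y Y^g`. -/
abbrev X2 (P : Pair E E') (g : E.G) : Subgroup S := P.Y ⊔ E.cs g P.Y

include P

theorem X2_le : P.X2 g ≤ E.T := sup_le P.Y_le_T (E.cs_le P.Y_le_T g)

theorem Y_le_X2 : P.Y ≤ P.X2 g := le_sup_left

theorem gY_le_X2 : E.cs g P.Y ≤ P.X2 g := le_sup_right

theorem X2_spec {z : S} (hz : z ∈ P.X2 g) :
    (∀ t ∈ E.T, ⁅z, t⁆ ∈ E.Zc) ∧ z ^ p ∈ E.Zc := by
  suffices z ∈ E.T ∧ (∀ t ∈ E.T, ⁅z, t⁆ ∈ E.Zc) ∧ z ^ p ∈ E.Zc from this.2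
  rw [X2, Subgroup.sup_eq_closure] at hz
  induction hz using Subgroup.closure_induction with
  | mem x hx =>
    rcases hx with hx | hx
    · exact ⟨P.Y_le_T hx, fun t ht => P.PY hx ht, P.Y_pow hx E⟩
    · refine ⟨E.cs_le P.Y_le_T g hx, fun t ht => P.PhY hx ht, ?_⟩
      obtain ⟨y, hy, rfl⟩ := (E.mem_cs P.Y_le_T).1 hx
      rw [← E.c_pow (P.Y_le_T hy)]
      exact E.Zc_inv.2 g _ (P.Y_pow hy E)
  | one => exact ⟨one_mem _, fun t _ => by rw [commutatorElement_one_left]; exact one_mem _,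
      by rw [one_pow]; exact one_mem _⟩
  | mul x y _ _ ihx ihy =>
    refine ⟨mul_mem ihx.1 ihy.1, fun t ht => ?_, ?_⟩
    · rw [comm_mul_left, center_conj (E.Zc_le_center (ihy.2.1 t ht))]
      exact mul_mem (ihy.2.1 t ht) (ihx.2.1 t ht)
    · have hcm := ihy.2.1 x ihx.1
      have hc := E.Zc_le_center hcm
      rw [CfsgLib.PGroups.mul_pow_of_commute (Subgroup.mem_center_iff.1 hc x).symm
        (Subgroup.mem_center_iff.1 hc y).symm]
      exact mul_mem (mul_mem ihx.2.2 ihy.2.2) (pow_mem hcm _)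
  | inv x _ ih =>
    refine ⟨inv_mem ih.1, fun t ht => ?_, by rw [inv_pow]; exact inv_mem ih.2.2⟩
    have e : ⁅x⁻¹, t⁆ = x⁻¹ * ⁅x, t⁆⁻¹ * x⁻¹⁻¹ := by group
    rw [e, center_conj (E.Zc_le_center (inv_mem (ih.2.1 t ht)))]
    exact inv_mem (ih.2.1 t ht)

theorem X2_comm (hg : E.Gen g) {z : S} (hz : z ∈ P.X2 g) (s : S) : ⁅z, s⁆ ∈ P.Y := by
  have hYn := P.Y_normal
  rw [X2, Subgroup.sup_eq_closure] at hz
  induction hz using Subgroup.closure_induction with
  | mem x hx =>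
    rcases hx with hx | hx
    · exact P.center_le_Y (mem_z2.1 (P.Y_le_z2 hx) s)
    · exact P.step3 hg hx s
  | one => rw [commutatorElement_one_left]; exact one_mem _
  | mul x y _ _ ihx ihy => rw [comm_mul_left]; exact mul_mem (hYn.conj_mem _ ihy x) ihx
  | inv x _ ih =>
    have e : ⁅x⁻¹, s⁆ = x⁻¹ * ⁅x, s⁆⁻¹ * x⁻¹⁻¹ := by group
    rw [e]; exact hYn.conj_mem _ (inv_mem ih) _

theorem X2_conj (hg : E.Gen g) {z : S} (hz : z ∈ P.X2 g) (s : S) : ⁅s, z⁆ ∈ P.Y := by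
  rw [← commutatorElement_inv]; exact inv_mem (P.X2_comm hg hz s)

theorem cs_X2_le : E.cs g (P.X2 g⁻¹) ≤ P.X2 g := by
  intro x hx
  obtain ⟨r, hr, rfl⟩ := (E.mem_cs P.X2_le).1 hx
  clear hx
  suffices r ∈ E.T ∧ E.c g r ∈ P.X2 g from this.2
  rw [X2, Subgroup.sup_eq_closure] at hr
  induction hr using Subgroup.closure_induction with
  | mem r hr =>
    rcases hr with hr | hr
    · exact ⟨P.Y_le_T hr, Subgroup.mem_sup_right (E.c_mem_cs P.Y_le_T g hr)⟩
    · refine ⟨E.cs_le P.Y_le_T _ hr, ?_⟩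
      obtain ⟨y, hy, rfl⟩ := (E.mem_cs P.Y_le_T).1 hr
      rw [E.c_c_inv (P.Y_le_T hy)]
      exact Subgroup.mem_sup_left hy
  | one => exact ⟨one_mem _, by rw [E.c_one]; exact one_mem _⟩
  | mul a b _ _ iha ihb =>
    exact ⟨mul_mem iha.1 ihb.1, by rw [E.c_mul iha.1 ihb.1]; exact mul_mem iha.2 ihb.2⟩
  | inv a _ ih => exact ⟨inv_mem ih.1, by rw [E.c_inv ih.1]; exact inv_mem ih.2⟩

theorem mem_X2_inv {z : S} (hz : z ∈ P.X2 g) : E.c g⁻¹ z ∈ P.X2 g⁻¹ := by
  have h := P.cs_X2_le (g := g⁻¹)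
  rw [inv_inv] at h
  exact h (E.c_mem_cs P.X2_le _ hz)

theorem X2_inv (hg : E.Gen g) (hg' : E.Gen g⁻¹) : E.Inv (P.X2 g) := by
  refine ⟨P.X2_le, fun h => ?_⟩
  have hbot : E.Inv (⊥ : Subgroup S) := E.bot_inv
  set K := E.secStab (P.X2 g) ⊥ P.X2_le hbot.1
  suffices K = ⊤ from fun x hx => ((this ▸ Subgroup.mem_top h : h ∈ K)).1 x hx
  obtain ⟨s, hs⟩ := E.exists_notMem
  have hconj : ∀ (g : E.G) (_ : E.Gen g) (s : S), ∀ x ∈ P.X2 g, s * x * s⁻¹ ∈ P.X2 g := by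
    intro g hg s x hx
    rw [show s * x * s⁻¹ = ⁅s, x⁆ * x by group]
    exact mul_mem (P.Y_le_X2 (P.X2_conj hg hx s)) hx
  refine hg (E.ι s) ⟨s, rfl⟩ hs K ⟨fun x hx => ?_, hbot.2 _⟩ ?_
  · rw [E.c_ι (P.X2_le hx)]; exact hconj g hg s x hx
  · rintro _ ⟨_, ⟨r, rfl⟩, rfl⟩
    refine ⟨fun x hx => ?_, hbot.2 _⟩
    have hxT := P.X2_le hx
    have e : E.c ((MulAut.conj g).toMonoidHom (E.ι r)) x = E.c g (r * E.c g⁻¹ x * r⁻¹) := by
      rw [← E.c_ι (E.c_mem hxT _) r, E.c_c hxT, E.c_c hxT, MulEquiv.coe_toMonoidHom,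
        MulAut.conj_apply, mul_assoc]
    rw [e]
    exact P.cs_X2_le (E.c_mem_cs P.X2_le g (hconj g⁻¹ hg' r _ (P.mem_X2_inv hx)))

/-- Commutators of `V'` with `S` are central in both groups. -/
theorem comm_Zc {x : S} (hx : x ∈ E'.V) (s : S) : ⁅x, s⁆ ∈ E.Zc := by
  obtain ⟨t, ht, t', ht', rfl⟩ := P.prod_eq s
  rw [comm_mul_right, comm_eq_one (E'.V_comm hx ht'), mul_one, mul_inv_cancel, mul_one]
  exact P.PY (P.V'_le_Y hx) ht

/-- The heart of the case `p ≥ 5`: nothing moved escapes `V'`. -/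
theorem five_mem (hp5 : 5 ≤ p) (hg : E.Gen g) (hg' : E.Gen g⁻¹) {x : S} (hx : x ∈ E'.V)
    {a : S} (ha : a ∉ E.T) : ⁅a, E.c g x⁆ ∈ E'.V := by
  have hB := P.base
  have hp2 : p ≠ 2 := by omega
  have hxT := P.le hx
  have hξ : E.c g x ∈ E.cs g P.Y := E.c_mem_cs P.Y_le_T g (P.V'_le_Y hx)
  set ξ := E.c g x with hξdef
  have hζY := P.X2_conj hg (P.gY_le_X2 hξ) a
  obtain ⟨v, hv, x', hx', hζ⟩ := P.mem_Y hζY
  rw [← hζ]
  refine mul_mem ?_ hx'
  by_contra hvV'
  have hvZ : v ∉ Subgroup.center S := fun h => hvV' (E'.center_le_V h)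
  set z0 := ⁅a, v⁆ with hz0
  have hz0Z : z0 ∈ Subgroup.center S := E.comm_V' hB hv a
  have hz0c : z0 ∉ E.Zc := fun h => hvZ <| by
    refine E.mem_center_of_comm hB hv ha ?_
    rw [← commutatorElement_inv]; exact inv_mem h
  obtain ⟨L⟩ := exists_line hB hg ha hz0Z hz0c
  set X := P.X2 g with hXdef
  have hXT : X ≤ E.T := P.X2_le
  have hXi : E.Inv X := P.X2_inv hg hg'
  have hVX : E.V ≤ X := P.V_le_Y.trans P.Y_le_X2
  have hHX : L.H ≤ X := L.H_le_V.trans hVX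
  have hHT : L.H ≤ E.T := L.H_le_V.trans E.V_le
  have hcentX : ∀ y ∈ X, ∀ z ∈ X, ⁅y, z⁆ ∈ E.Zc := fun y hy z hz =>
    (P.X2_spec hy).1 z (hXT hz)
  have hnX : ∀ N : Subgroup S, N ≤ E.V → (N.subgroupOf X).Normal := fun N hN =>
    ⟨fun n hn y => by
      have h1 : ((y * n * y⁻¹ : ↥X) : S) = (n : S) := by
        show (y : S) * n * (y : S)⁻¹ = n
        rw [← E.V_comm (show (n : S) ∈ E.V from hN hn) (hXT y.2), mul_inv_cancel_right]
      rw [Subgroup.mem_subgroupOf, h1]; exact hn⟩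
  have := hnX L.H L.H_le_V
  have := hnX E.V le_rfl
  have hcomm : ∀ N : Subgroup S, ∀ [(N.subgroupOf X).Normal], E.Zc ≤ N →
      ∀ u w : ↥X ⧸ N.subgroupOf X, u * w = w * u := by
    intro N _ hN u w
    obtain ⟨y, rfl⟩ := QuotientGroup.mk_surjective u
    obtain ⟨z, rfl⟩ := QuotientGroup.mk_surjective w
    rw [← QuotientGroup.mk_mul, ← QuotientGroup.mk_mul, QuotientGroup.eq]
    refine hN ?_
    have e : ((((y * z)⁻¹ * (z * y) : ↥X)) : S) = ⁅(z : S)⁻¹, (y : S)⁻¹⁆ := by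
      push_cast; group
    show (((y * z)⁻¹ * (z * y) : ↥X) : S) ∈ E.Zc
    rw [e]
    exact hcentX _ (inv_mem z.2) _ (inv_mem y.2)
  have hpowX : ∀ N : Subgroup S, ∀ [(N.subgroupOf X).Normal], E.Zc ≤ N →
      ∀ u : ↥X ⧸ N.subgroupOf X, u ^ p = 1 := by
    intro N _ hN u
    obtain ⟨y, rfl⟩ := QuotientGroup.mk_surjective u
    rw [← QuotientGroup.mk_pow, QuotientGroup.eq_one_iff]
    exact hN (P.X2_spec y.2).2
  let _ : CommGroup (↥X ⧸ E.V.subgroupOf X) :=
    { (inferInstance : Group (↥X ⧸ E.V.subgroupOf X)) with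
      mul_comm := hcomm E.V inf_le_left }
  -- the opposite element
  set b := L.b with hbdef
  have hdb : ∀ y ∈ E.T, E.dl b y = E.c g ⁅L.s0, E.c g⁻¹ y⁆ := by
    intro y hy
    rw [← E.dl_ι (E.c_mem hy _), Emb.dl, Emb.dl, E.c_mul (E.c_mem (E.c_mem hy _) _)
      (inv_mem (E.c_mem hy _)), E.c_inv (E.c_mem hy _), E.c_c_inv hy, E.c_c hy, E.c_c hy,
      hbdef, Line.b, mul_assoc]
  have hZT : Subgroup.center S ≤ E.T := E.center_le_V.trans E.V_le
  have hMX : ∀ y ∈ X, E.dl b y ∈ E.cs g P.Y := fun y hy => by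
    rw [hdb y (hXT hy)]
    exact E.c_mem_cs P.Y_le_T g (P.X2_conj hg' (P.mem_X2_inv hy) L.s0)
  have hMY : ∀ y ∈ E.cs g P.Y, E.dl b y ∈ E.cs g (Subgroup.center S) := fun y hy => by
    obtain ⟨y0, hy0, rfl⟩ := (E.mem_cs P.Y_le_T).1 hy
    rw [hdb _ (E.c_mem (P.Y_le_T hy0) _), E.c_inv_c (P.Y_le_T hy0)]
    refine E.c_mem_cs hZT g ?_
    rw [← commutatorElement_inv]; exact inv_mem (mem_z2.1 (P.Y_le_z2 hy0) _)
  have hMZ : ∀ e ∈ E.cs g (Subgroup.center S), E.dl b e = 1 := fun e he => by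
    rw [Emb.dl, L.b_fix he, mul_inv_cancel]
  have hNY : ∀ y ∈ P.Y, ⁅a, y⁆ ∈ Subgroup.center S := fun y hy => by
    rw [← commutatorElement_inv]; exact inv_mem (mem_z2.1 (P.Y_le_z2 hy) _)
  -- stabilisers
  set St := E.secStab X L.H hXT hHT
  have hStab : ∀ h, L.Stab h → h ∈ St := fun h hh => ⟨hXi.2 h, hh⟩
  have hT0NQ := L.T0_le_NQ
  set αW := E.secAut X L.H hXT hHT
  set αA := E.secAut X E.V hXT E.V_le
  have hT0W : ∀ (h : ↥St), (h : E.G) ∈ E.T0 → αW h = 1 := by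
    intro h hh
    rw [E.secAut_eq_one_iff]
    intro y hy
    obtain ⟨w, hw, hwe⟩ : (h : E.G) ∈ E.T.map E.ι := by rw [E.T0_eq]; exact hh
    rw [← hwe, E.dl_ι (hXT hy), ← commutatorElement_inv]
    exact inv_mem (L.zc_le_H ((P.X2_spec hy).1 w hw))
  have hp_pow : ∀ h : E.G, h ∈ L.NQ → ∃ m, ¬ p ∣ m ∧ h ^ m ∈ E.T0 := by
    intro h hh
    obtain ⟨eb, m, hm, hord⟩ :=
      Nat.exists_eq_pow_mul_and_not_dvd (orderOf_pos h).ne' p (Fact.out : p.Prime).ne_one
    exact ⟨m, hm, L.pElement_mem hB (L.NQ.pow_mem hh _)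
      ⟨eb, by rw [← pow_mul, mul_comm, ← hord, pow_orderOf_eq_one]⟩⟩
  have haSt : E.ι a ∈ St := hStab _ (L.stab_a hB)
  have hbSt : b ∈ St := hStab _ (L.stab_b hB)
  have hapT : E.ι a ^ p ∈ E.T0 := E.setup.pow _ ⟨a, rfl⟩
  have hbpT : b ^ p ∈ E.T0 := by
    rw [hbdef, Line.b, conj_pow]
    exact E.setup.normal.conj_mem _ (E.setup.pow _ ⟨_, rfl⟩) _
  have hNQSt : L.NQ ≤ St := fun h hh => hStab h (L.stab_NQ hh)
  -- the kernel on `V / H` centralises `b` on `X / H`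
  have hker : ∀ (r : E.G) (hr : r ∈ L.NQ),
      αW ⟨r, hNQSt hr⟩ * αW ⟨b, hbSt⟩ = αW ⟨b, hbSt⟩ * αW ⟨r, hNQSt hr⟩ := by
    intro r hr
    have hin : ∀ h : E.G, h ∈ E.secStab X E.V hXT E.V_le := fun h =>
      ⟨hXi.2 h, E.V_inv.2 h⟩
    let ι' : L.NQ →* ↥(E.secStab X E.V hXT E.V_le) :=
      { toFun := fun h => ⟨h, hin h⟩, map_one' := rfl, map_mul' := fun _ _ => rfl }
    set R := (αA.comp ι').range with hR
    have hT0A : ∀ h : ↥(E.secStab X E.V hXT E.V_le), (h : E.G) ∈ E.T0 → αA h = 1 := by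
      intro h hh
      rw [E.secAut_eq_one_iff]
      intro y hy
      obtain ⟨w, hw, hwe⟩ : (h : E.G) ∈ E.T.map E.ι := by rw [E.T0_eq]; exact hh
      rw [← hwe, E.dl_ι (hXT hy), ← commutatorElement_inv]
      exact inv_mem ((P.X2_spec hy).1 w hw).1
    have hcomm' := quad_comm hp5 (A := ↥X ⧸ E.V.subgroupOf X) (hpowX E.V inf_le_left) R
      (fun ρ hρ hρp => ?_) (αA ⟨b, hin b⟩) ?_ ?_ ?_ (ρ := αA ⟨r, hin r⟩) ⟨⟨r, hr⟩, rfl⟩
    · -- pass from `X / V` to `X / H`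
      set e := ⁅r, b⁆ with he
      have heN : e ∈ L.NQ := by
        have h1 := mul_mem hr (L.NQ_conj (L.stab_b hB) (inv_mem hr))
        rw [he, commutatorElement_def]
        simpa [hbdef, mul_assoc] using h1
      have heA : αA ⟨e, hin e⟩ = 1 := by
        rw [show (⟨e, hin e⟩ : ↥(E.secStab X E.V hXT E.V_le)) = ⁅(⟨r, hin r⟩ : ↥(E.secStab X E.V hXT E.V_le)), ⟨b, hin b⟩⁆
          from Subtype.ext rfl, map_commutatorElement]
        exact commutatorElement_eq_one_iff_mul_comm.2 hcomm'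
      rw [E.secAut_eq_one_iff] at heA
      have heW : αW ⟨e, hNQSt heN⟩ = 1 := by
        rw [E.secAut_eq_one_iff]
        intro y hy
        obtain ⟨m, hm, hmT⟩ := hp_pow e heN
        have hd := heA y hy
        have hpow : ∀ i : ℕ, E.dl (e ^ i) y * (E.dl e y ^ i)⁻¹ ∈ L.H := by
          intro i
          induction i with
          | zero =>
            rw [pow_zero, pow_zero, E.dl_one_left (hXT hy), inv_one, mul_one]; exact one_mem _
          | succ i ih =>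
            rw [pow_succ, E.dl_mul_left _ _ (hXT hy), E.c_eq_dl (e ^ i) (E.dl e y), pow_succ,
              mul_inv_rev]
            have cc : E.dl (e ^ i) y * (E.dl e y)⁻¹ = (E.dl e y)⁻¹ * E.dl (e ^ i) y :=
              (E.V_comm (inv_mem hd) (E.dl_mem_T (hXT hy) _)).symm
            have e1 : E.dl (e ^ i) (E.dl e y) * E.dl e y * E.dl (e ^ i) y *
                ((E.dl e y)⁻¹ * (E.dl e y ^ i)⁻¹) =
                E.dl (e ^ i) (E.dl e y) * (E.dl (e ^ i) y * (E.dl e y ^ i)⁻¹) := by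
              rw [← mul_assoc, mul_assoc (E.dl (e ^ i) (E.dl e y) * E.dl e y), cc,
                ← mul_assoc, mul_inv_cancel_right, mul_assoc]
            rw [e1]
            exact mul_mem (L.NQ.pow_mem heN i _ hd) ih
        have h1 := hT0W ⟨_, hNQSt (L.NQ.pow_mem heN m)⟩ hmT
        rw [E.secAut_eq_one_iff] at h1
        have h2 := mul_mem (inv_mem (hpow m)) (h1 y hy)
        rw [mul_inv_rev, inv_inv, inv_mul_cancel_right] at h2
        exact mem_of_pow_two_coprime ((Fact.out : p.Prime).coprime_iff_not_dvd.2 hm).symm h2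
          (L.zc_le_H (E.V_pow hB hd E))
      rw [← commutatorElement_eq_one_iff_mul_comm, ← map_commutatorElement, ← heW]
      rfl
    · obtain ⟨h, rfl⟩ := hρ
      obtain ⟨m, hm, hmT⟩ := hp_pow h h.2
      have h1 : (αA.comp ι') h ^ m = 1 := by
        rw [← map_pow]; exact hT0A _ hmT
      exact orderOf_eq_one_iff.1 (Nat.dvd_one.1
        (((Fact.out : p.Prime).coprime_iff_not_dvd.2 hm).gcd_eq_one ▸
          Nat.dvd_gcd (orderOf_dvd_of_pow_eq_one hρp) (orderOf_dvd_of_pow_eq_one h1)))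
    · rw [← map_pow]; exact hT0A _ hbpT
    · rintro ρ ⟨h, rfl⟩
      refine ⟨⟨b * h * b⁻¹, L.NQ_conj (L.stab_b hB) h.2⟩, ?_⟩
      show αA _ = αA _ * αA _ * (αA _)⁻¹
      rw [← map_inv, ← map_mul, ← map_mul]
      rfl
    · intro u
      obtain ⟨y, rfl⟩ := QuotientGroup.mk_surjective u
      rw [E.secAut_mk, E.secAut_mk, ← QuotientGroup.mk_mul, ← QuotientGroup.mk_mul,
        QuotientGroup.eq]
      show ((E.c b (E.c b y) * (y : S))⁻¹ * (E.c b y * E.c b y)) ∈ E.V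
      have hyT := hXT y.2
      have h1 : E.dl b (E.dl b y) ∈ E.V := Line.gZ_le_V (hMY _ (hMX _ y.2))
      have hd := E.dl_mem_T hyT b
      rw [E.c_eq_dl b y, E.c_mul hd hyT, E.c_eq_dl b (E.dl b y), E.c_eq_dl b y]
      set d := E.dl b (y : S)
      have e : (E.dl b d * d * (d * (y : S)) * (y : S))⁻¹ * (d * (y : S) * (d * (y : S))) =
          (y : S)⁻¹ * (y : S)⁻¹ * d⁻¹ * d⁻¹ * (E.dl b d)⁻¹ * d * ((y : S) * d) * (y : S) := by
        group
      rw [e]
      have e2 : (y : S) * d = ⁅(y : S), d⁆ * d * (y : S) := by group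
      rw [e2]
      have hz := hcentX _ y.2 d (P.gY_le_X2 (hMX _ y.2))
      have c1 : ∀ s : S, ⁅(y : S), d⁆ * s = s * ⁅(y : S), d⁆ := fun s =>
        (Subgroup.mem_center_iff.1 (E.Zc_le_center hz) s).symm
      have c2 : (E.dl b d)⁻¹ * d = d * (E.dl b d)⁻¹ := E.V_comm (inv_mem h1) hd
      generalize hzc : ⁅(y : S), d⁆ = zc at c1 hz ⊢
      rw [mul_assoc _ _ d, c2, ← mul_assoc]
      simp only [mul_assoc]
      rw [c1]
      simp only [← mul_assoc]
      refine mul_mem ?_ hz.1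
      rw [show (y : S)⁻¹ * (y : S)⁻¹ * d⁻¹ * d⁻¹ * d * (E.dl b d)⁻¹ * d * (y : S) * (y : S) =
        ((y : S) * (y : S))⁻¹ * (d⁻¹ * (E.dl b d)⁻¹ * d) * ((y : S) * (y : S)) by group]
      rw [← E.V_comm (inv_mem h1) (inv_mem hd), inv_mul_cancel_right,
        ← E.V_comm (inv_mem h1) (inv_mem (mul_mem hyT hyT)), inv_mul_cancel_right]
      exact inv_mem h1
  -- operators on `X / H`
  let _ : CommGroup (↥X ⧸ L.H.subgroupOf X) :=
    { (inferInstance : Group (↥X ⧸ L.H.subgroupOf X)) with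
      mul_comm := hcomm L.H L.zc_le_H }
  let W := Additive (↥X ⧸ L.H.subgroupOf X)
  let q : ↥X → W := fun y => Additive.ofMul (QuotientGroup.mk y)
  have hq_add : ∀ y z : ↥X, q (y * z) = q y + q z := fun y z => rfl
  have hq_zero : ∀ y : ↥X, (y : S) ∈ L.H → q y = 0 := fun y hy =>
    congrArg Additive.ofMul ((QuotientGroup.eq_one_iff (N := L.H.subgroupOf X) y).2 hy)
  have hq_surj : ∀ w : W, ∃ y, q y = w := fun w => QuotientGroup.mk_surjective w.toMul
  let op : ↥St → (W →+ W) := fun h => MonoidHom.toAdditive (αW h).toMonoidHom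
  have hop_mul : ∀ h k w, op (h * k) w = op h (op k w) := fun h k w => by
    show Additive.ofMul (αW (h * k) w.toMul) = Additive.ofMul (αW h (αW k w.toMul))
    rw [map_mul, MulAut.mul_apply]
  have hop_one : ∀ w, op 1 w = w := fun w => by
    show Additive.ofMul (αW 1 w.toMul) = w
    rw [map_one]; rfl
  have hop_q : ∀ (h : ↥St) (y : ↥X),
      op h (q y) = q y + q ⟨E.dl h y, mul_mem (h.2.1 y y.2) (inv_mem y.2)⟩ := by
    intro h y
    rw [add_comm, ← hq_add]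
    show Additive.ofMul (QuotientGroup.mk _) = Additive.ofMul (QuotientGroup.mk _)
    congr 2
    exact Subtype.ext (E.c_eq_dl _ _)
  set A0 : ↥St := ⟨E.ι a, haSt⟩
  set B0 : ↥St := ⟨b, hbSt⟩
  let Nn : W →+ W := op A0 - AddMonoidHom.id W
  let Mm : W →+ W := op B0 - AddMonoidHom.id W
  have hN1 : ∀ w, op A0 w = w + Nn w := fun w => by simp [Nn]
  have hM1 : ∀ w, op B0 w = w + Mm w := fun w => by simp [Mm]
  have hNq : ∀ (y : ↥X) (d : ↥X), (d : S) = ⁅a, (y : S)⁆ → Nn (q y) = q d := by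
    intro y d hd
    have h1 := hop_q A0 y
    rw [hN1, add_right_inj] at h1
    rw [h1]
    congr 1
    exact Subtype.ext ((E.dl_ι (hXT y.2) a).trans hd.symm)
  have hMq : ∀ (y : ↥X) (d : ↥X), (d : S) = E.dl b y → Mm (q y) = q d := by
    intro y d hd
    have h1 := hop_q B0 y
    rw [hM1, add_right_inj] at h1
    rw [h1]
    congr 1
    exact Subtype.ext hd.symm
  let qs : ∀ y : S, y ∈ X → W := fun y hy => q ⟨y, hy⟩
  have hNqs : ∀ y (hy : y ∈ X), Nn (qs y hy) = qs ⁅a, y⁆ (P.Y_le_X2 (P.X2_conj hg hy a)) :=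
    fun y hy => hNq _ _ rfl
  have hMqs : ∀ y (hy : y ∈ X), Mm (qs y hy) = qs (E.dl b y) (P.gY_le_X2 (hMX y hy)) :=
    fun y hy => hMq _ _ rfl
  have hqs0 : ∀ y (hy : y ∈ X), y ∈ L.H → qs y hy = 0 := fun y hy h => hq_zero _ h
  have hgZX : E.cs g (Subgroup.center S) ≤ X := Line.gZ_le_V.trans hVX
  have hZX : Subgroup.center S ≤ X := E.center_le_V.trans hVX
  have hNZ : ∀ z (hz : z ∈ Subgroup.center S), Nn (qs z (hZX hz)) = 0 := fun z hz => by
    rw [hNqs]
    exact hqs0 _ _ (by rw [comm_eq_one (Subgroup.mem_center_iff.1 hz a)]; exact one_mem _)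
  have hMG : ∀ e (he : e ∈ E.cs g (Subgroup.center S)), Mm (qs e (hgZX he)) = 0 := fun e he => by
    rw [hMqs]
    exact hqs0 _ _ (by rw [hMZ e he]; exact one_mem _)
  have hNMZ : ∀ z (hz : z ∈ Subgroup.center S),
      Nn (Mm (qs z (hZX hz))) = -qs z (hZX hz) := fun z hz => by
    rw [hMqs, hNqs, eq_neg_iff_add_eq_zero, ← hq_add]
    exact hq_zero _ (L.H0_le_H (L.quad_b hB hz))
  have hMNG : ∀ e (he : e ∈ E.cs g (Subgroup.center S)),
      Mm (Nn (qs e (hgZX he))) = -qs e (hgZX he) := fun e he => by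
    have hu := Line.comm_gZ hB he (a := a)
    rw [hNqs, hMqs, eq_neg_iff_add_eq_zero, ← hq_add]
    refine hq_zero _ (L.mem_H_of (mul_mem (L.comm_mem_gZ hB hu).1 he) ?_)
    show ⁅a, E.dl L.b ⁅a, e⁆ * e⁆ ∈ L.H0
    rw [E.comm_V_mul hB (Line.gZ_le_V (L.comm_mem_gZ hB hu).1) (Line.gZ_le_V he)]
    exact L.quad_b hB hu
  have hNN : ∀ w, ∃ z, ∃ hz : z ∈ Subgroup.center S, Nn (Nn w) = qs z (hZX hz) := by
    intro w
    obtain ⟨⟨y, hy⟩, rfl⟩ := hq_surj w
    refine ⟨_, hNY _ (P.X2_conj hg hy a), ?_⟩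
    show Nn (Nn (qs y hy)) = _
    rw [hNqs, hNqs]
  have hMM : ∀ w, ∃ e, ∃ he : e ∈ E.cs g (Subgroup.center S), Mm (Mm w) = qs e (hgZX he) := by
    intro w
    obtain ⟨⟨y, hy⟩, rfl⟩ := hq_surj w
    refine ⟨_, hMY _ (hMX y hy), ?_⟩
    show Mm (Mm (qs y hy)) = _
    rw [hMqs, hMqs]
  have hrel : OpRel Nn Mm := by
    refine ⟨fun w => ?_, fun w => ?_, fun w => ?_, fun w => ?_, fun w => ?_⟩
    · obtain ⟨z, hz, e⟩ := hNN w; rw [e, hNZ z hz]
    · obtain ⟨z, hz, e⟩ := hMM w; rw [e, hMG z hz]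
    · obtain ⟨z, hz, e⟩ := hMM w
      rw [e, hNqs]
      exact hNZ _ (Line.comm_gZ hB hz)
    · obtain ⟨z, hz, e⟩ := hMM w; rw [e, hMNG z hz]
    · obtain ⟨z, hz, e⟩ := hNN w; rw [e, hNMZ z hz]
  have hpz : ∀ w : W, (p : ℤ) • w = 0 := fun w => by
    rw [natCast_zsmul]; exact congrArg Additive.ofMul (hpowX L.H L.zc_le_H w.toMul)
  have hNpow : ∀ (i : ℕ) w, op (A0 ^ i) w = w + i • Nn w + i.choose 2 • Nn (Nn w) :=
    pow_apply_unipotent (fun i w => op (A0 ^ i) w) (fun w => by simp only [pow_zero]; exact hop_one w)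
      (fun i w => by simp only [pow_one, pow_succ' A0 i]; exact hop_mul _ _ _)
      (fun w => by simp only [pow_one]; exact hN1 w) hrel.nnn
  have hMpow : ∀ (i : ℕ) w, op (B0 ^ i) w = w + i • Mm w + i.choose 2 • Mm (Mm w) :=
    pow_apply_unipotent (fun i w => op (B0 ^ i) w) (fun w => by simp only [pow_zero]; exact hop_one w)
      (fun i w => by simp only [pow_one, pow_succ' B0 i]; exact hop_mul _ _ _)
      (fun w => by simp only [pow_one]; exact hM1 w) hrel.mmm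
  have hAp : αW A0 ^ p = 1 := by rw [← map_pow]; exact hT0W _ hapT
  have hBp : αW B0 ^ p = 1 := by rw [← map_pow]; exact hT0W _ hbpT
  have hinj : ∀ h, Function.Injective (op h) := fun h u w e => by
    have e1 := congrArg (op h⁻¹) e
    rwa [← hop_mul, ← hop_mul, inv_mul_cancel, hop_one, hop_one] at e1
  -- how `a^j b^m` conjugates `a`
  have hkey : ∀ m j : ℕ, p ∣ (p - j) * m + 1 → j ≤ p →
      ∀ w, op (A0 ^ j * B0 ^ m * A0) w = op (B0 ^ (m * m) * (A0 ^ j * B0 ^ m)) w := by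
    intro m j hd hj
    obtain ⟨h, hh⟩ : ∃ h, h = A0 ^ j * B0 ^ m := ⟨_, rfl⟩
    have hq' : ∀ w : W, ((j : ℤ) * m - 1) • w = 0 := by
      intro w
      obtain ⟨c, hc⟩ := hd
      have hc' : ((p : ℤ) - j) * m + 1 = (p : ℤ) * c := by
        rw [← Nat.cast_sub hj]; exact_mod_cast hc
      rw [show (j : ℤ) * m - 1 = ((m : ℤ) - c) * p by linear_combination -hc', mul_smul, hpz,
        smul_zero]
    rw [← hh]
    -- on `V`
    have hM0 : ∀ (i : ℕ) w, Mm w = 0 → op (B0 ^ i) w = w := fun i w hw => by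
      rw [hMpow, hw, map_zero, smul_zero, smul_zero, add_zero, add_zero]
    have hVZ : ∀ z (hz : z ∈ Subgroup.center S),
        op h (qs z (hZX hz)) = (m : ℤ) • Mm (qs z (hZX hz)) := by
      intro z hz
      have h1 : Mm (Mm (qs z (hZX hz))) = 0 := by
        rw [hMqs]; exact hMG _ (L.comm_mem_gZ hB hz).1
      have h2 := hq' (qs z (hZX hz))
      rw [hh, hop_mul, hMpow, h1, smul_zero, add_zero, hNpow]
      simp only [map_add, map_zsmul, hNZ z hz, hNMZ z hz, map_neg, map_zero, smul_zero, zero_add,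
        neg_zero, add_zero, ← natCast_zsmul]
      linear_combination (norm := module) -h2
    have hGV : ∀ e (he : e ∈ E.cs g (Subgroup.center S)),
        op (h * A0) (qs e (hgZX he)) = op (B0 ^ (m * m) * h) (qs e (hgZX he)) := by
      intro e he
      have hu := Line.comm_gZ hB he (a := a)
      have h0 : Nn (Nn (qs e (hgZX he))) = 0 := by rw [hNqs]; exact hNZ _ hu
      have h1 : op h (qs e (hgZX he)) = qs e (hgZX he) + (j : ℤ) • Nn (qs e (hgZX he)) := by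
        rw [hh, hop_mul, hM0 m _ (hMG e he), hNpow, h0, smul_zero, add_zero, natCast_zsmul]
      have h2 : op h (Nn (qs e (hgZX he))) = (m : ℤ) • -qs e (hgZX he) := by
        rw [← hMNG e he, hNqs]
        exact hVZ _ hu
      have h3 : Mm (Mm (Nn (qs e (hgZX he)))) = 0 := by
        rw [hMNG e he, map_neg, hMG e he, neg_zero]
      have h4 : op (B0 ^ (m * m)) (Nn (qs e (hgZX he))) =
          Nn (qs e (hgZX he)) + ((m * m : ℕ) : ℤ) • -qs e (hgZX he) := by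
        rw [hMpow, h3, smul_zero, add_zero, hMNG e he, natCast_zsmul]
      rw [hop_mul, hop_mul, hN1, map_add, h1, h2, map_add, map_zsmul, h4, hM0 _ _ (hMG e he)]
      have h5 := hq' ((m : ℤ) • qs e (hgZX he))
      push_cast
      linear_combination (norm := module) h5
    have hZV' : ∀ z (hz : z ∈ Subgroup.center S),
        op (h * A0) (qs z (hZX hz)) = op (B0 ^ (m * m) * h) (qs z (hZX hz)) := by
      intro z hz
      have h1 : Mm (Mm (qs z (hZX hz))) = 0 := by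
        rw [hMqs]; exact hMG _ (L.comm_mem_gZ hB hz).1
      rw [hop_mul, hop_mul, hN1, hNZ z hz, add_zero, hVZ z hz, map_zsmul, hM0 _ _ h1]
    have hVeq : ∀ y (hy : y ∈ E.V),
        op (h * A0) (qs y (hVX hy)) = op (B0 ^ (m * m) * h) (qs y (hVX hy)) := by
      intro y hy
      obtain ⟨z, hz, e, he, hze⟩ := E.V_decomp hB hg hy
      have e1 : qs y (hVX hy) = qs z (hZX hz) + qs e (hgZX he) := by
        rw [← hq_add]
        exact congrArg q (Subtype.ext hze.symm)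
      rw [e1, map_add, map_add, hZV' z hz, hGV e he]
    -- on all of `X`
    obtain ⟨k, hk⟩ : ∃ k, k = B0 ^ (m * m) := ⟨_, rfl⟩
    obtain ⟨r, hr⟩ : ∃ r, r = h * A0 * (k * h)⁻¹ := ⟨_, rfl⟩
    rw [← hk] at hVeq ⊢
    have hrN : (r : E.G) ∈ L.NQ := by
      intro y hy
      have hu : E.c ((k * h)⁻¹ : ↥St) y ∈ E.V := E.V_inv.2 _ y hy
      have h1 := hVeq _ hu
      have h2 : op (k * h) (qs _ (hVX hu)) = qs y (hVX hy) := by
        show Additive.ofMul (QuotientGroup.mk _) = Additive.ofMul (QuotientGroup.mk _)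
        congr 2
        exact Subtype.ext (E.c_c_inv (E.V_le hy) _)
      have h3 : op (h * A0) (qs _ (hVX hu)) = op r (qs y (hVX hy)) := by
        rw [← h2, ← hop_mul, hr, inv_mul_cancel_right]
      rw [h3, h2, hop_q, add_eq_left] at h1
      have h4 := (QuotientGroup.eq_one_iff (N := L.H.subgroupOf X) _).1
        (congrArg Additive.toMul h1)
      exact h4
    have hrk : Commute (αW r) (αW B0) := hker _ hrN
    have hrp : αW r ^ p = 1 := by
      have e1 : αW (h * A0 * h⁻¹) = αW r * αW k := by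
        rw [← map_mul, hr, mul_inv_rev, ← mul_assoc, inv_mul_cancel_right]
      have hc : Commute (αW r) (αW k) := by rw [hk, map_pow]; exact hrk.pow_right _
      have e2 := congrArg (fun φ => φ ^ p) e1
      simp only [map_mul, map_inv] at e2
      rw [conj_pow, hAp, mul_one, mul_inv_cancel, hc.mul_pow, hk, map_pow, ← pow_mul,
        mul_comm (m * m), pow_mul, hBp, one_pow, mul_one] at e2
      exact e2.symm
    obtain ⟨n, hn, hnT⟩ := hp_pow _ hrN
    have hrn : αW r ^ n = 1 := by rw [← map_pow]; exact hT0W _ hnT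
    have hr1 : αW r = 1 := orderOf_eq_one_iff.1 (Nat.dvd_one.1
        (((Fact.out : p.Prime).coprime_iff_not_dvd.2 hn).gcd_eq_one ▸
          Nat.dvd_gcd (orderOf_dvd_of_pow_eq_one hrp) (orderOf_dvd_of_pow_eq_one hrn)))
    intro w
    have e : h * A0 = r * (k * h) := by rw [hr, inv_mul_cancel_right]
    rw [e, hop_mul]
    show Additive.ofMul (αW r (op (k * h) w).toMul) = _
    rw [hr1]; rfl
  -- exponents
  have hex : ∀ m : ℕ, 1 ≤ m → m ≤ 3 → ∃ n, n ≤ p ∧ p ∣ n * m + 1 := by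
    intro m h1 h3
    have : NeZero p := ⟨(Fact.out : p.Prime).ne_zero⟩
    refine ⟨(-(m : ZMod p)⁻¹).val, (ZMod.val_lt _).le, ?_⟩
    have hm : (m : ZMod p) ≠ 0 := by
      rw [Ne, ZMod.natCast_eq_zero_iff]
      intro hd
      have := Nat.le_of_dvd (by omega) hd
      omega
    rw [← ZMod.natCast_eq_zero_iff]
    push_cast
    rw [ZMod.natCast_zmod_val, neg_mul, inv_mul_cancel₀ hm, neg_add_cancel]
  choose! n hn1 hn2 using hex
  let hf : ℕ → ↥St := fun m => A0 ^ (p - n m) * B0 ^ m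
  have hkey' : ∀ m, 1 ≤ m → m ≤ 3 → ∀ w, op (hf m * A0) w = op (B0 ^ (m * m) * hf m) w := by
    intro m h1 h3
    refine hkey m (p - n m) ?_ (Nat.sub_le _ _)
    rw [Nat.sub_sub_self (hn1 m h1 h3)]; exact hn2 m h1 h3
  -- the element fixed by `b`
  have hξX : ξ ∈ X := P.gY_le_X2 hξ
  set ξq := qs ξ hξX with hξq
  have hbξ : Mm ξq = 0 := by
    rw [hξq, hMqs]
    refine hqs0 _ _ ?_
    rw [hdb _ (hXT hξX), E.c_inv_c hxT]
    refine L.zc_le_H (E.Zc_inv.2 g _ ?_)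
    rw [← commutatorElement_inv]; exact inv_mem (P.comm_Zc hx _)
  obtain ⟨x0, hx0⟩ : ∃ x0, op (hf 1) x0 = ξq :=
    ⟨op (hf 1)⁻¹ ξq, by rw [← hop_mul, mul_inv_cancel, hop_one]⟩
  have hfix : ∀ (i : ℕ) w, Mm w = 0 → op (B0 ^ i) w = w := fun i w hw => by
    rw [hMpow, hw, map_zero, smul_zero, smul_zero, add_zero, add_zero]
  have hNx0 : Nn x0 = 0 := by
    have h1 := hkey' 1 le_rfl (by norm_num) x0
    rw [hop_mul (hf 1) A0, hop_mul _ (hf 1), hx0, hfix _ _ hbξ, ← hx0] at h1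
    have h2 := hinj _ h1
    rwa [hN1, add_eq_left] at h2
  have hmain : Nn (Nn ξq) = 0 := by
    have h1 := unipotent_main hrel (Fact.out : p.Prime) hp5 hpz hNx0 n
      (fun m => op (hf m) x0) fun m hm1 hm3 => ?_
    · simp only [hx0] at h1
      exact h1
    refine ⟨hn2 m hm1 hm3, ?_, ?_⟩
    · have h2 := hkey' m hm1 hm3 x0
      rw [hop_mul (hf m) A0, hop_mul _ (hf m), hN1, hNx0, add_zero] at h2
      set y := op (hf m) x0
      have h3 : ∀ i : ℕ, op (B0 ^ (m * m * i)) y = y := by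
        intro i
        induction i with
        | zero => rw [mul_zero, pow_zero, hop_one]
        | succ i ih => rw [Nat.mul_succ, pow_add, hop_mul, ← h2, ih]
      have hcop : Nat.Coprime (m * m) p :=
        (((Fact.out : p.Prime).coprime_iff_not_dvd.2 fun hd => by
          rcases (Fact.out : p.Prime).dvd_mul.1 hd with h | h <;>
          · have := Nat.le_of_dvd (by omega) h
            omega)).symm
      obtain ⟨i, hi⟩ := Nat.exists_mul_mod_eq_one_of_coprime hcop (by omega)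
      have h4 := h3 i
      rw [← Nat.div_add_mod (m * m * i) p, hi.2, pow_succ, hop_mul, pow_mul] at h4
      have h5 : ∀ w, op ((B0 ^ p) ^ (m * m * i / p)) w = w := fun w => by
        show Additive.ofMul (αW _ w.toMul) = w
        rw [map_pow, map_pow, hBp, one_pow]; rfl
      rw [h5, hM1, add_eq_left] at h4
      exact h4
    · rw [← hMpow, ← hNpow]
      show _ = op (A0 ^ n m) (op (A0 ^ (p - n m) * B0 ^ m) x0)
      rw [← hop_mul, ← mul_assoc, ← pow_add, Nat.add_sub_cancel' (hn1 m hm1 hm3), hop_mul]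
      show _ = Additive.ofMul (αW (A0 ^ p) _)
      rw [map_pow, hAp]; rfl
  -- the contradiction
  rw [hξq, hNqs, hNqs] at hmain
  have hH : ⁅a, ⁅a, ξ⁆⁆ ∈ L.H := (QuotientGroup.eq_one_iff (N := L.H.subgroupOf X) _).1
    (congrArg Additive.toMul hmain)
  rw [← hζ, comm_mul_right] at hH
  have hax : ⁅a, x'⁆ ∈ E.Zc := by
    rw [← commutatorElement_inv]; exact inv_mem (P.comm_Zc hx' a)
  rw [center_conj (E.Zc_le_center hax)] at hH
  have hH' := mul_mem hH (inv_mem (L.zc_le_H hax))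
  rw [mul_inv_cancel_right] at hH'
  exact L.z0_notMem (L.H_inf_center hB hH' hz0Z)

/-- The main case with both sides moved does not occur for `p ≥ 5`. -/
theorem five_false (hp5 : 5 ≤ p) (P' : Pair E' E) : False := by
  obtain ⟨x, hx, hxZ⟩ := P.exists_moved
  obtain ⟨w, hw, hwZ⟩ := P'.exists_moved
  obtain ⟨hξT, hξT'⟩ := P.moved E.gen hx hxZ
  obtain ⟨hηT', hηT⟩ := P'.moved E'.gen hw hwZ
  set ξ := E.c E.g0 x
  set η := E'.c E'.g0 w
  have h1 : ⁅η, ξ⁆ ∈ E'.V := P.five_mem hp5 E.gen E.gen' hx hηT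
  have h2 : ⁅ξ, η⁆ ∈ E.V := P'.five_mem hp5 E'.gen E'.gen' hw hξT'
  have h3 : ⁅ξ, η⁆ ∈ E'.V := by rw [← commutatorElement_inv]; exact inv_mem h1
  exact P.not_mem_V E.gen hx hxZ hηT h2

end Pair

end CfsgLib.LocalEven.GN
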