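import Cfsg.Agent.Lib.LocalEven.PushSetup

/-!
In a pushing-up situation the second Sylow subgroup may be taken symmetrically.
-/

set_option autoImplicit false

namespace CfsgLib.LocalEven.GN

open CD (cj cen zOf)
open Push (RankOne Setup)

variable {G : Type*} [Group G] [Finite G] {p : ℕ} [Fact p.Prime]

/-- `g` moves `S` to an opposite Sylow subgroup. -/
def GenAt (S T : Subgroup G) (g : G) : Prop :=
  ∀ s ∈ S, s ∉ T → ∀ H : Subgroup G, s ∈ H → cj g S ≤ H → H = ⊤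

theorem gen_of_ne (P : Sylow p G)
    (hM : ∃! M : Subgroup G, IsCoatom M ∧ (P : Subgroup G) ≤ M)
    {K : Subgroup G} [K.Normal] (R : RankOne p (G ⧸ K)) (hKS : K ⊔ (P : Subgroup G) ≠ ⊤)
    (hker : ∀ s ∈ (P : Subgroup G), QuotientGroup.mk' K s = 1 → s ∈ Cfsg.pCore p G) (g : G)
    (hne : (cj g (P : Subgroup G)).map (QuotientGroup.mk' K) ≠
      (P : Subgroup G).map (QuotientGroup.mk' K)) :
    GenAt (P : Subgroup G) (Cfsg.pCore p G) g := by
  obtain ⟨M, ⟨hMc, hSM⟩, huniq⟩ := hM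
  set S : Subgroup G := (P : Subgroup G) with hS
  set π := QuotientGroup.mk' K
  have hπ : Function.Surjective π := QuotientGroup.mk'_surjective K
  obtain ⟨Pb, hPb⟩ : ∃ Pb : Sylow p (G ⧸ K), (Pb : Subgroup (G ⧸ K)) = S.map π :=
    ⟨P.mapSurjective hπ, Sylow.coe_mapSurjective hπ P⟩
  obtain ⟨Qb, hQg⟩ : ∃ Qb : Sylow p (G ⧸ K), (Qb : Subgroup (G ⧸ K)) = (cj g S).map π :=
    ⟨(g • P).mapSurjective hπ, by rw [Sylow.coe_mapSurjective]; rfl⟩
  have hQb : Qb ≠ Pb := fun e => hne (by rw [← hPb, ← hQg, e])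
  intro s hs hsT H hsH hgH
  have hx1 : π s ≠ 1 := fun h => hsT (hker s hs h)
  have hxP : π s ∈ (Pb : Subgroup (G ⧸ K)) := by rw [hPb]; exact ⟨s, hs, rfl⟩
  have hxQ : π s ∉ (Qb : Subgroup (G ⧸ K)) := fun h => hx1 <| by
    have : π s ∈ (Pb : Subgroup (G ⧸ K)) ⊓ Qb := ⟨hxP, h⟩
    rwa [R.ti _ _ (Ne.symm hQb)] at this
  have hQH : (Qb : Subgroup (G ⧸ K)) ≤ H.map π := hQg ▸ Subgroup.map_mono hgH
  have hne' : π s • Qb ≠ Qb := by
    intro hfix
    have hn := Sylow.smul_eq_iff_mem_normalizer.1 hfix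
    refine hxQ ?_
    have h1 := IsPGroup.inf_normalizer_sylow
      (Pb.2.to_le (Subgroup.zpowers_le.2 hxP)) Qb
    exact (h1.le ⟨Subgroup.mem_zpowers _, hn⟩).2
  have hmap : H.map π = ⊤ := by
    refine top_le_iff.1 ?_
    rw [← R.join _ _ hne']
    refine sup_le ?_ hQH
    intro y hy
    obtain ⟨u, hu, rfl⟩ := CfsgLib.Classical.mem_sylow_smul (p := p) |>.1 hy
    have hsH' : π s ∈ H.map π := ⟨s, hsH, rfl⟩
    exact mul_mem (mul_mem hsH' (hQH hu)) (inv_mem hsH')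
  by_contra hH
  obtain ⟨M', hM', hle⟩ := (eq_top_or_exists_le_coatom H).resolve_left hH
  have hHK : H ⊔ K = ⊤ := by
    have h2 := Subgroup.comap_map_eq π H
    rwa [hmap, Subgroup.comap_top, QuotientGroup.ker_mk', eq_comm] at h2
  have hMg : M' = cj g M := by
    have h1 : cj g⁻¹ M' = M := huniq _ ⟨?_, ?_⟩
    · rw [← h1, CD.cj_cj, mul_inv_cancel, CD.cj_one]
    · exact ((OrderIso.isCoatom_iff (MulEquiv.mapSubgroup (MulAut.conj g⁻¹))) M').2 hM'
    · have := CD.cj_mono g⁻¹ (hgH.trans hle)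
      rwa [CD.cj_cj, inv_mul_cancel, CD.cj_one] at this
  have hKM : K ≤ M := by
    rcases eq_top_or_exists_le_coatom (K ⊔ S) with h | ⟨M₂, hM₂, h2⟩
    · exact absurd h hKS
    · exact le_sup_left.trans (huniq M₂ ⟨hM₂, le_sup_right.trans h2⟩ ▸ h2)
  have hKM' : K ≤ M' := by
    rw [hMg]
    intro k hk
    exact ⟨g⁻¹ * k * g⁻¹⁻¹, hKM ((inferInstance : K.Normal).conj_mem k hk _), by simp [mul_assoc]⟩
  exact hM'.1 (top_le_iff.1 (hHK ▸ sup_le hle hKM'))

theorem gen_pair_of_sylow (P : Sylow p G)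
    (hC : Subgroup.centralizer (Cfsg.pCore p G : Set G) ≤ Cfsg.pCore p G)
    (hM : ∃! M : Subgroup G, IsCoatom M ∧ (P : Subgroup G) ≤ M)
    {K : Subgroup G} [K.Normal] (F : Type) [Field F] [Fintype F] {n : ℕ}
    (hF : Fintype.card F = p ^ n)
    (he : Nonempty (G ⧸ K ≃* Matrix.ProjectiveSpecialLinearGroup (Fin 2) F)) :
    Setup p (P : Subgroup G) (Cfsg.pCore p G) ∧
      ∃ g : G, GenAt (P : Subgroup G) (Cfsg.pCore p G) g ∧
        GenAt (P : Subgroup G) (Cfsg.pCore p G) g⁻¹ := by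
  have hE := Push.setup_of_sylow P hC hM F hF he
  obtain ⟨e⟩ := he
  have : CharP F p := charP_of_card_eq_prime_pow hF
  have : Finite (G ⧸ K) := inferInstance
  have R : RankOne p (G ⧸ K) := Push.rankOne_of_mulEquiv e (Push.rankOne_PSL p)
  refine ⟨hE, ?_⟩
  set S : Subgroup G := (P : Subgroup G) with hS
  set π := QuotientGroup.mk' K
  have hπ : Function.Surjective π := QuotientGroup.mk'_surjective K
  obtain ⟨Qb, hQb⟩ := R.two (P.mapSurjective hπ)
  obtain ⟨Q, hQ⟩ := Sylow.mapSurjective_surjective hπ p Qb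
  obtain ⟨g, hg⟩ := MulAction.exists_smul_eq G P Q
  have hne : (cj g S).map π ≠ S.map π := by
    intro h
    refine hQb (Sylow.ext ?_)
    rw [← hQ, Sylow.coe_mapSurjective, Sylow.coe_mapSurjective, ← hg]
    exact h
  have hcj : ∀ x : G, (cj x S).map π = cj (π x) (S.map π) := fun x => by
    rw [cj, cj, Subgroup.map_map, Subgroup.map_map]
    congr 1
  have hne' : (cj g⁻¹ S).map π ≠ S.map π := by
    intro h
    apply hne
    rw [hcj] at h ⊢
    calc cj (π g) (S.map π) = cj (π g) (cj (π g⁻¹) (S.map π)) := by rw [h]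
      _ = S.map π := by rw [CD.cj_cj, ← map_mul, mul_inv_cancel, map_one, CD.cj_one]
  have hKS : K ⊔ S ≠ ⊤ := by
    intro h
    have h1 : S.map π = ⊤ := by
      have := congrArg (Subgroup.map π) h
      rwa [Subgroup.map_sup, QuotientGroup.map_mk'_self, bot_sup_eq,
        Subgroup.map_top_of_surjective _ hπ] at this
    apply hne
    rw [hcj, h1, cj, Subgroup.map_top_of_surjective _ (MulAut.conj (π g)).surjective]
  have hKT : K ⊓ S ≤ Cfsg.pCore p G := by
    by_contra h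
    exact hKS (hE.factA K inferInstance h)
  have hker : ∀ s ∈ S, π s = 1 → s ∈ Cfsg.pCore p G := fun s hs h =>
    hKT ⟨(QuotientGroup.eq_one_iff _).1 h, hs⟩
  exact ⟨g, gen_of_ne P hM R hKS hker g hne,
    gen_of_ne P hM R hKS hker g⁻¹ hne'⟩

end CfsgLib.LocalEven.GN
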