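import Cfsg.Agent.Lib.LocalEven.GN.Main

/-!
Pushing up when no nontrivial characteristic subgroup of `S` is normal.
-/

set_option autoImplicit false
set_option linter.unusedSectionVars false

namespace CfsgLib.LocalEven.GN

open Cfsg
open scoped commutatorElement Pointwise
open CD (cj cen zOf)

universe u

variable {p : ℕ} [Fact p.Prime] {S : Type u} [Group S] [Finite S]

/-- No nontrivial characteristic subgroup of `S` is normal. -/
structure HD (E : Emb p S) : Prop where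
  situ : Situ p E.ι
  nd : ∀ X : Subgroup S, X ≠ ⊥ → X.Characteristic → ¬ (X.map E.ι).Normal

/-- In exponent three every element commutes with its commutators. -/
theorem commute_comm_of_exp_three {H : Type*} [Group H] (h : ∀ x : H, x ^ 3 = 1) (a b : H) :
    Commute a ⁅a, b⁆ := by
  have key : ∀ x g : H, x * (g * x * g⁻¹) * (g⁻¹ * x * g) = 1 := by
    intro x g
    have h1 := h (x * g)
    have h2 := h g
    have e : x * (g * x * g⁻¹) * (g⁻¹ * x * g) = (x * g) ^ 3 := by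
      have hg : g * g = g⁻¹ := mul_eq_one_iff_eq_inv.1 (by rw [← h2, pow_succ, pow_two])
      simp only [pow_succ, pow_zero, one_mul]
      calc x * (g * x * g⁻¹) * (g⁻¹ * x * g)
          = x * g * x * (g * g)⁻¹ * x * g := by group
        _ = x * g * x * g * x * g := by rw [hg, inv_inv]
        _ = _ := by group
    rw [e, h1]
  have k1 := key a b⁻¹
  rw [inv_inv] at k1
  have k2 := key a b
  have hbc : Commute (b * a * b⁻¹) (b⁻¹ * a * b) := by
    rw [mul_assoc] at k1 k2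
    show _ = _
    exact mul_left_cancel (k2.trans k1.symm)
  have hx : b⁻¹ * (b⁻¹ * a * b) * b = b * a * b⁻¹ := by
    have hb : b * b = b⁻¹ := mul_eq_one_iff_eq_inv.1 (by rw [← h b, pow_succ, pow_two])
    calc b⁻¹ * (b⁻¹ * a * b) * b = (b * b)⁻¹ * a * (b * b) := by group
      _ = _ := by rw [hb, inv_inv]
  have hax : Commute a (b * a * b⁻¹) := by
    have h2 := hbc.map (MulAut.conj b⁻¹)
    simp only [MulAut.conj_apply, inv_inv] at h2
    rw [hx, show b⁻¹ * (b * a * b⁻¹) * b = a by group] at h2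
    exact h2
  have e : ⁅a, b⁆ = a * (b * a * b⁻¹)⁻¹ := by group
  rw [e]
  exact (Commute.refl a).mul_right hax.inv_right

namespace Emb

variable (E : Emb p S)

include E in
theorem setup_isP : IsPGroup p S :=
  E.setup.isP.of_equiv (MonoidHom.ofInjective E.inj).symm

include E in
theorem nontriv : Nontrivial S := by
  by_contra h
  rw [not_nontrivial_iff_subsingleton] at h
  refine E.zne ?_
  rintro _ ⟨z, -, rfl⟩
  rw [Subsingleton.elim z 1, map_one]; exact one_mem _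

theorem K_sup_T0 {K : Subgroup E.G} (hK : K.Normal) {e : S} (he : E.ι e ∈ K) (heT : e ∉ E.T) :
    K ⊔ E.T0 = ⊤ := by
  have := E.setup.normal
  have hHn : (K ⊔ E.T0).Normal := Subgroup.sup_normal K E.T0
  let B : Subgroup S := (K ⊔ E.T0).comap E.ι
  have hB' : B = ⊤ := E.eq_top_of_irred
    (fun t ht => Subgroup.mem_sup_right (show E.ι t ∈ E.T0 from ht))
    (Subgroup.mem_sup_left he) heT fun y φ hφ s hs => by
      show E.ι (φ s) ∈ K ⊔ E.T0
      rw [hφ]; exact hHn.conj_mem _ hs y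
  refine E.gen _ ⟨e, rfl⟩ heT _ (Subgroup.mem_sup_left he) ?_
  refine (CD.cj_mono _ ?_).trans (Push.cj_le_of_normal hHn _)
  rintro _ ⟨s, rfl⟩
  exact (hB' ▸ Subgroup.mem_top s : s ∈ B)

theorem lcs_top_map {G : Type*} [Group G] (T : Subgroup G) (k : ℕ) :
    ((⊤ : Subgroup ↥T).lowerCentralSeries k).map T.subtype = T.lowerCentralSeries k := by
  induction k with
  | zero =>
    rw [Subgroup.lowerCentralSeries_zero, Subgroup.lowerCentralSeries_zero,
      ← MonoidHom.range_eq_map, Subgroup.range_subtype]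
  | succ k ih =>
    rw [Subgroup.lowerCentralSeries_succ, Subgroup.lowerCentralSeries_succ, Subgroup.map_commutator,
      ih, ← MonoidHom.range_eq_map, Subgroup.range_subtype]

/-- If `K` centralises `T` modulo `X` and covers `G`, then `T / X` is hypercentral. -/
theorem iter_le {X : Subgroup S} (hX : E.Inv X) {e : S}
    (he : ∀ t ∈ E.T, ⁅e, t⁆ ∈ X) (heT : e ∉ E.T) :
    ∃ k, iterCommutator E.T0 (⊤ : Subgroup E.G) k ≤ X.map E.ι := by
  have hXn := Inv.map_normal E hX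
  set q := QuotientGroup.mk' (X.map E.ι)
  set K := E.sectionCent X hX
  have hKT : K ⊔ E.T0 = ⊤ := E.K_sup_T0 (E.sectionCent_normal hX)
    (fun t ht => by rw [E.c_ι ht]; exact he t ht) heT
  have := E.setup.normal
  set T1 := E.T0.map q
  have hT1n : T1.Normal := Subgroup.Normal.map inferInstance q (QuotientGroup.mk'_surjective _)
  have hcomm : ∀ k ∈ K, ∀ u ∈ T1, Commute (q k) u := by
    rintro k hk _ ⟨t0, ht0, rfl⟩
    obtain ⟨t, ht, rfl⟩ : t0 ∈ E.T.map E.ι := by rw [E.T0_eq]; exact ht0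
    rw [commute_iff_eq, ← commutatorElement_eq_one_iff_mul_comm, ← map_commutatorElement,
      QuotientGroup.mk'_apply, QuotientGroup.eq_one_iff]
    refine ⟨_, hk t ht, ?_⟩
    rw [map_mul, E.ι_c ht, map_inv, commutatorElement_def]
  have hle : ∀ k, (iterCommutator E.T0 (⊤ : Subgroup E.G) k).map q ≤ T1.lowerCentralSeries k ∧
      T1.lowerCentralSeries k ≤ T1 := by
    intro k
    induction k with
    | zero => exact ⟨le_rfl, le_rfl⟩
    | succ k ih =>
      refine ⟨?_, ?_⟩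
      · show (⁅iterCommutator E.T0 (⊤ : Subgroup E.G) k, (⊤ : Subgroup E.G)⁆).map q ≤ _
        rw [Subgroup.map_commutator, Subgroup.lowerCentralSeries_succ]
        refine Subgroup.commutator_le.2 fun u hu g hg => ?_
        obtain ⟨g0, -, rfl⟩ := hg
        have hg0 : g0 ∈ ((K ⊔ E.T0 : Subgroup E.G) : Set E.G) := by rw [hKT]; trivial
        rw [Subgroup.mul_normal] at hg0
        obtain ⟨a, ha, t, ht, rfl⟩ := hg0
        have hu1 := ih.1 hu
        have huT : u ∈ T1 := ih.2 hu1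
        have htT : q t ∈ T1 := ⟨t, ht, rfl⟩
        rw [map_mul, comm_mul_right, comm_eq_one (hcomm a ha u huT).eq.symm, one_mul,
          (hcomm a ha ⁅u, q t⁆ (Subgroup.commutator_le_self T1
            (Subgroup.commutator_mem_commutator huT htT))).eq, mul_inv_cancel_right]
        exact Subgroup.commutator_mem_commutator hu1 htT
      · rw [Subgroup.lowerCentralSeries_succ]
        exact (Subgroup.commutator_mono ih.2 le_rfl).trans (Subgroup.commutator_le_self T1)
  have hp1 : IsPGroup p T1 := (E.setup.isP.to_le E.setup.le).map q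
  obtain ⟨k, hk⟩ := Subgroup.nilpotent_iff_lowerCentralSeries.1 hp1.isNilpotent
  refine ⟨k, fun x hx => (QuotientGroup.eq_one_iff _).1 (Subgroup.mem_bot.1 ?_)⟩
  rw [← Subgroup.map_bot T1.subtype, ← hk, lcs_top_map]
  exact (hle k).1 ⟨x, hx, rfl⟩

theorem surj_of_ker_le {Q : Type*} [Group Q] [Finite Q] (φ : S →* Q) (hker : φ.ker ≤ E.T)
    (hcard : Nat.card Q * Nat.card E.T ≤ Nat.card S) : Function.Surjective φ := by
  rw [← MonoidHom.range_eq_top]
  refine Subgroup.eq_top_of_card_eq _ (le_antisymm (Subgroup.card_le_card_group _) ?_)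
  refine Nat.le_of_mul_le_mul_right ?_ (Nat.card_pos (α := φ.ker))
  have e1 : Nat.card S = Nat.card φ.range * Nat.card φ.ker := by
    rw [Subgroup.card_eq_card_quotient_mul_card_subgroup φ.ker,
      Nat.card_congr (QuotientGroup.quotientKerEquivRange φ).toEquiv]
  rw [← e1]
  exact (Nat.mul_le_mul_left _ (Nat.card_mono (Set.toFinite _)
    (SetLike.coe_subset_coe.2 hker))).trans hcard

/-- `V / Zc` is a chief factor. -/
theorem V_irred (hB : Base p S) {N : Subgroup S} (hN : E.Inv N) (h1 : E.Zc ≤ N) (h2 : N ≤ E.V) :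
    N = E.Zc ∨ N = E.V := by
  have hNn := Inv.normal E hN
  obtain ⟨b, hb⟩ := E.exists_notMem
  by_cases hz : ∀ z ∈ N, z ∈ Subgroup.center S → z ∈ E.Zc
  · refine Or.inl (le_antisymm (fun v hv => hz v hv ?_) h1)
    refine E.mem_center_of_comm hB (h2 hv) hb (hz _ ?_ (E.comm_V hB (h2 hv) b))
    rw [show ⁅v, b⁆ = v * (b * v⁻¹ * b⁻¹) by group]
    exact mul_mem hv (hNn.conj_mem _ (inv_mem hv) b)
  right
  push Not at hz
  obtain ⟨z, hzN, hzZ, hzc⟩ := hz
  set g := E.g0
  have hg : E.Gen g := E.gen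
  have hZT : Subgroup.center S ≤ E.T := E.center_le_V.trans E.V_le
  set e := E.c g z with hedef
  have heV : e ∈ E.V := E.V_inv.2 g z (E.center_le_V hzZ)
  have heN : e ∈ N := hN.2 g z hzN
  have heZ : e ∉ Subgroup.center S := fun h => hzc (E.zc_of_center hg hzZ h)
  have : E.Zc.Normal := Inv.normal E E.Zc_inv
  let φ : S →* ↥(Subgroup.center S) ⧸ E.Zc.subgroupOf (Subgroup.center S) :=
    MonoidHom.mk' (fun s => QuotientGroup.mk ⟨⁅s, e⁆, E.comm_V' hB heV s⟩) fun s t => by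
      rw [← QuotientGroup.mk_mul]
      congr 1
      refine Subtype.ext ?_
      show ⁅s * t, e⁆ = ⁅s, e⁆ * ⁅t, e⁆
      rw [comm_mul_left, center_conj (E.comm_V' hB heV t),
        ← Subgroup.mem_center_iff.1 (E.comm_V' hB heV t)]
  have hker : φ.ker ≤ E.T := fun s hs => by
    by_contra hsT
    refine heZ (E.mem_center_of_comm hB heV hsT ?_)
    rw [← commutatorElement_inv]
    exact inv_mem ((QuotientGroup.eq_one_iff (N := E.Zc.subgroupOf (Subgroup.center S)) _).1 hs :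
      (⟨⁅s, e⁆, E.comm_V' hB heV s⟩ : ↥(Subgroup.center S)) ∈ E.Zc.subgroupOf (Subgroup.center S))
  have hcard : Nat.card (↥(Subgroup.center S) ⧸ E.Zc.subgroupOf (Subgroup.center S)) *
      Nat.card E.T ≤ Nat.card S := by
    refine Nat.le_of_mul_le_mul_right (le_of_eq ?_) (Nat.card_pos (α := E.Zc))
    rw [E.card_quot hB hg, mul_right_comm,
      ← Nat.card_congr (Subgroup.subgroupOfEquivOfLe E.Zc_le_center).toEquiv,
      ← Subgroup.card_eq_card_quotient_mul_card_subgroup, mul_comm]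
  have hZN : Subgroup.center S ≤ N := fun w hw => by
    obtain ⟨s, hs⟩ := E.surj_of_ker_le φ hker hcard (QuotientGroup.mk ⟨w, hw⟩)
    have h3 : ⁅s, e⁆⁻¹ * w ∈ E.Zc := (QuotientGroup.eq
      (s := E.Zc.subgroupOf (Subgroup.center S))).1 hs
    have h4 : ⁅s, e⁆ ∈ N := mul_mem (hNn.conj_mem e heN s) (inv_mem heN)
    have := mul_mem h4 (h1 h3)
    rwa [mul_inv_cancel_left] at this
  refine le_antisymm h2 ?_
  rw [← E.V_eq hB hg]
  exact sup_le hZN ((E.cs_mono hZN g).trans (Inv.cs_eq E hN g).le)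

theorem V_not_central (hB : Base p S) :
    ¬ ⁅E.V.map E.ι, (⊤ : Subgroup E.G)⁆ ≤ E.Zc.map E.ι := by
  intro h
  obtain ⟨b, hb⟩ := E.exists_notMem
  refine hb ?_
  rw [← E.cen_V hB]
  intro v hv
  refine (Subgroup.mem_center_iff.1 (E.mem_center_of_comm hB hv hb ?_) b).symm
  refine (Subgroup.mem_map_iff_mem E.inj).1 (h ?_)
  rw [map_commutatorElement]
  exact Subgroup.commutator_mem_commutator ⟨v, hv, rfl⟩ (Subgroup.mem_top _)

theorem chief_of_irred {U W : Subgroup S} (hU : E.Inv U) (hW : E.Inv W) (hlt : W < U)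
    (hirr : ∀ N : Subgroup S, E.Inv N → W ≤ N → N ≤ U → N = W ∨ N = U) :
    IsChiefFactor (U.map E.ι) (W.map E.ι) := by
  refine ⟨(Subgroup.map_lt_map_iff_of_injective E.inj).2 hlt, Inv.map_normal E hU,
    Inv.map_normal E hW, fun N hN hWN hNU => ?_⟩
  have hNr : N ≤ E.ι.range := fun x hx => by
    obtain ⟨y, -, rfl⟩ := hNU hx
    exact ⟨y, rfl⟩
  have hN' : (N.comap E.ι).map E.ι = N := by
    rw [Subgroup.map_comap_eq, inf_eq_right.2 hNr]
  have hNle : N.comap E.ι ≤ U := fun x hx => (Subgroup.mem_map_iff_mem E.inj).1 (hNU hx)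
  have hinv : E.Inv (N.comap E.ι) := ⟨hNle.trans hU.1, fun g x hx => by
    show E.ι (E.c g x) ∈ N
    rw [E.ι_c (hU.1 (hNle hx))]
    exact hN.conj_mem _ hx g⟩
  rcases hirr (N.comap E.ι) hinv (fun x hx => hWN ⟨x, hx, rfl⟩) hNle with h | h
  · exact Or.inl (by rw [← h, hN'])
  · exact Or.inr (by rw [← h, hN'])

theorem V_chief (hB : Base p S) :
    IsChiefFactor (E.V.map E.ι) (E.Zc.map E.ι) ∧
      iterCommutator (E.Zc.map E.ι) (⊤ : Subgroup E.G) 1 = ⊥ := by
  refine ⟨E.chief_of_irred E.V_inv E.Zc_inv ?_ fun N hN h1 h2 => E.V_irred hB hN h1 h2, ?_⟩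
  · refine lt_of_le_of_ne inf_le_left fun h => E.V_not_central hB ?_
    rw [← h]
    have := Inv.map_normal E E.Zc_inv
    exact Subgroup.commutator_le_left _ _
  · show ⁅E.Zc.map E.ι, (⊤ : Subgroup E.G)⁆ = ⊥
    rw [Subgroup.commutator_eq_bot_iff_le_centralizer, Subgroup.coe_top,
      Subgroup.centralizer_univ]
    rintro _ ⟨z, hz, rfl⟩
    exact hz.2

/-- `T / V` is central when `Φ(S) ≤ Z(S)`. -/
theorem fx_T (hB : Base p S) (hc : frattini S ≤ Subgroup.center S) {t : S} (ht : t ∈ E.T) :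
    E.Fx E.V t := by
  obtain ⟨b, hb⟩ := E.exists_notMem
  have hcomm : ∀ x y : S, ⁅x, y⁆ ∈ E.V := fun x y => E.center_le_V (hc
    (PGroups.commutator_le_frattini hB.isP
      (Subgroup.commutator_mem_commutator (Subgroup.mem_top _) (Subgroup.mem_top _))))
  refine E.hammer E.gen E.V_inv (C := {t}) ?_ ?_ hb ?_ t rfl
  · rintro x rfl; exact ht
  · rintro x rfl s; exact hcomm x s
  · rintro x rfl
    rw [show b * E.c E.g0 x * b⁻¹ = ⁅b, E.c E.g0 x⁆ * E.c E.g0 x by group]
    exact mul_mem (Subgroup.mem_sup_right (hcomm _ _))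
      (Subgroup.mem_sup_left (Subgroup.subset_closure ⟨_, rfl, rfl⟩))

theorem iter_one (hB : Base p S) (hc : frattini S ≤ Subgroup.center S) :
    iterCommutator E.T0 (⊤ : Subgroup E.G) 1 ≤ E.V.map E.ι := by
  show ⁅E.T0, (⊤ : Subgroup E.G)⁆ ≤ _
  refine Subgroup.commutator_le.2 fun x hx g _ => ?_
  obtain ⟨t, ht, rfl⟩ : x ∈ E.T.map E.ι := by rw [E.T0_eq]; exact hx
  refine ⟨(E.c g t * t⁻¹)⁻¹, inv_mem (E.fx_T hB hc ht g), ?_⟩
  rw [map_inv, map_mul, E.ι_c ht, map_inv, commutatorElement_def]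
  group

end Emb

namespace Pair

variable {E E' : Emb p S} (P : Pair E E')
include P

theorem comm_mod_V {y : S} (hy : y ∈ P.Y) (s : S) : s * y * s⁻¹ * y⁻¹ ∈ E.V := by
  refine E.center_le_V ?_
  rw [← commutatorElement_def, ← commutatorElement_inv]
  exact inv_mem (mem_z2.1 (P.Y_le_z2 hy) s)

/-- `s ↦ [ξ, s]` onto `Y / V`. -/
theorem disp_hom {x : S} (hx : x ∈ E'.V) (hxZ : x ∉ Subgroup.center S)
    [(E.V.subgroupOf P.Y).Normal] : ∃ φ : S →* ↥P.Y ⧸ E.V.subgroupOf P.Y, φ.ker ≤ E.T ∧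
      ∀ s, ∃ h : ⁅E.c E.g0 x, s⁆ ∈ P.Y, φ s = QuotientGroup.mk ⟨_, h⟩ := by
  have hξ : E.c E.g0 x ∈ E.cs E.g0 P.Y := E.c_mem_cs P.Y_le_T _ (P.V'_le_Y hx)
  set ξ := E.c E.g0 x
  have hY : ∀ s, ⁅ξ, s⁆ ∈ P.Y := fun s => P.step3 E.gen hξ s
  refine ⟨MonoidHom.mk' (fun s => QuotientGroup.mk ⟨⁅ξ, s⁆, hY s⟩) fun s t => ?_, fun s hs => ?_,
    fun s => ⟨hY s, rfl⟩⟩
  · rw [← QuotientGroup.mk_mul, QuotientGroup.eq, Subgroup.mem_subgroupOf]
    show ⁅ξ, s * t⁆⁻¹ * (⁅ξ, s⁆ * ⁅ξ, t⁆) ∈ E.V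
    rw [comm_mul_right,
      show (⁅ξ, s⁆ * (s * ⁅ξ, t⁆ * s⁻¹))⁻¹ * (⁅ξ, s⁆ * ⁅ξ, t⁆) =
        (s * ⁅ξ, t⁆⁻¹ * s⁻¹ * ⁅ξ, t⁆⁻¹⁻¹) by group]
    exact P.comm_mod_V (inv_mem (hY t)) s
  · by_contra hsT
    exact P.not_mem_V E.gen hx hxZ hsT
      ((QuotientGroup.eq_one_iff (N := E.V.subgroupOf P.Y) _).1 hs :
        (⟨⁅ξ, s⁆, hY s⟩ : ↥P.Y) ∈ E.V.subgroupOf P.Y)

theorem card_Y_quot [(E.V.subgroupOf P.Y).Normal] :
    Nat.card (↥P.Y ⧸ E.V.subgroupOf P.Y) * Nat.card E'.T = Nat.card S := by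
  have hB := P.base
  have hinf : E.V ⊓ E'.V = Subgroup.center S :=
    le_antisymm P.inter (le_inf E.center_le_V E'.center_le_V)
  have h1 := Push.card_sup_inf_of_le_cen (H := E.V) (K := E'.V)
    fun x hx y hy => E.V_comm hy (P.le hx)
  rw [hinf] at h1
  have h2 : Nat.card (↥P.Y ⧸ E.V.subgroupOf P.Y) * Nat.card E.V = Nat.card P.Y := by
    rw [← Nat.card_congr (Subgroup.subgroupOfEquivOfLe P.V_le_Y).toEquiv,
      ← Subgroup.card_eq_card_quotient_mul_card_subgroup]
  have hZT := E'.center_le_V.trans E'.V_le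
  have hle : E'.cs E'.g0 (Subgroup.center S) ≤ cen (Subgroup.center S) := fun x _ y hy =>
    (Subgroup.mem_center_iff.1 hy x).symm
  have hinf' : Subgroup.center S ⊓ E'.cs E'.g0 (Subgroup.center S) = E'.Zc := by
    refine le_antisymm (E'.center_inf_cs E'.gen) fun z hz => ⟨E'.Zc_le_center hz, ?_⟩
    exact (E'.mem_cs hZT).2 ⟨z, E'.Zc_le_center hz, (E'.mem_Zc_iff.1 hz).2 _⟩
  have h3 := Push.card_sup_inf_of_le_cen hle
  rw [E'.V_eq hB E'.gen, hinf', E'.card_cs hZT] at h3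
  have h4 := E'.card_quot hB E'.gen
  have hY : Nat.card ↥P.Y * Nat.card (Subgroup.center S) = Nat.card E.V * Nat.card E'.V := h1
  set Q := Nat.card (↥P.Y ⧸ E.V.subgroupOf P.Y)
  have h5 : Q * Nat.card (Subgroup.center S) = Nat.card E'.V := by
    refine Nat.eq_of_mul_eq_mul_left (Nat.card_pos (α := E.V)) ?_
    rw [← hY, ← h2]; ring
  refine Nat.eq_of_mul_eq_mul_right (Nat.mul_pos (Nat.card_pos (α := E'.Zc))
    (Nat.card_pos (α := Subgroup.center S))) ?_
  calc Q * Nat.card E'.T * (Nat.card E'.Zc * Nat.card (Subgroup.center S))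
      = (Q * Nat.card (Subgroup.center S)) * Nat.card E'.Zc * Nat.card E'.T := by ring
    _ = Nat.card (Subgroup.center S) * Nat.card (Subgroup.center S) * Nat.card E'.T := by rw [h5, h3]
    _ = Nat.card (Subgroup.center S) * (Nat.card S * Nat.card E'.Zc) := by rw [h4]; ring
    _ = _ := by ring

theorem normal_V_Y : (E.V.subgroupOf P.Y).Normal :=
  have := Emb.Inv.normal E E.V_inv
  inferInstance

theorem card_T_le : Nat.card E'.T ≤ Nat.card E.T := by
  have := P.normal_V_Y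
  obtain ⟨x, hx, hxZ⟩ := P.exists_moved
  obtain ⟨φ, hker, -⟩ := P.disp_hom hx hxZ
  have h1 : Nat.card φ.range * Nat.card φ.ker = Nat.card S := by
    rw [Subgroup.card_eq_card_quotient_mul_card_subgroup φ.ker,
      Nat.card_congr (QuotientGroup.quotientKerEquivRange φ).toEquiv]
  refine Nat.le_of_mul_le_mul_left ?_ (Nat.card_pos (α := ↥P.Y ⧸ E.V.subgroupOf P.Y))
  rw [P.card_Y_quot, ← h1]
  exact Nat.mul_le_mul (Subgroup.card_le_card_group _)
    (Nat.card_mono (Set.toFinite _) (SetLike.coe_subset_coe.2 hker))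

/-- `X / V` is a noncentral chief factor. -/
theorem X_chief (P' : Pair E' E) :
    IsChiefFactor ((P.X2 E.g0).map E.ι) (E.V.map E.ι) ∧
      ¬ ⁅(P.X2 E.g0).map E.ι, (⊤ : Subgroup E.G)⁆ ≤ E.V.map E.ι := by
  set g := E.g0
  have hg : E.Gen g := E.gen
  have hB := P.base
  have hXi := P.X2_inv (g := g) hg E.gen'
  obtain ⟨x0, hx0, hx0Z⟩ := P.exists_moved
  obtain ⟨a, ha⟩ := E.exists_notMem
  refine ⟨E.chief_of_irred hXi E.V_inv ?_ fun N hN hVN hNX => ?_, ?_⟩
  · refine lt_of_le_of_ne (P.V_le_Y.trans P.Y_le_X2) fun h => ?_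
    exact hx0Z (P.inter ⟨h ▸ P.Y_le_X2 (P.V'_le_Y hx0), hx0⟩)
  swap
  · intro h
    refine P.not_mem_V hg hx0 hx0Z ha ((Subgroup.mem_map_iff_mem E.inj).1 (h ?_))
    rw [map_commutatorElement]
    exact Subgroup.commutator_mem_commutator
      ⟨_, P.gY_le_X2 (E.c_mem_cs P.Y_le_T g (P.V'_le_Y hx0)), rfl⟩ (Subgroup.mem_top _)
  by_cases hle : N ≤ E.V
  · exact Or.inl (le_antisymm hle hVN)
  right
  have hNn := Emb.Inv.normal E hN
  obtain ⟨x, hxN, hxV⟩ := SetLike.not_le_iff_exists.1 hle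
  have hVn := Emb.Inv.normal E E.V_inv
  -- a moved element of `N ∩ Y`
  obtain ⟨y, hyN, hyY, hyV⟩ : ∃ y ∈ N, y ∈ P.Y ∧ y ∉ E.V := by
    by_cases hs : ∀ s, ⁅x, s⁆ ∈ E.V
    · refine ⟨x, hxN, ?_, hxV⟩
      have hx' : x ∈ ((P.X2 g : Subgroup S) : Set S) := hNX hxN
      rw [(CD.large_sup_inf P.Y_large
        (E.cs_large hB (g := g) P.Y_large P.V_le_Y P.Y_le_T)).1] at hx'
      obtain ⟨y, hy, η, hη, rfl⟩ := hx'
      refine mul_mem hy (P.V_le_Y ?_)
      have hηs : ⁅η, a⁆ ∈ E.V := by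
        have h1 := hs a
        have h2 : ⁅y, a⁆ ∈ E.V := E.center_le_V (mem_z2.1 (P.Y_le_z2 hy) a)
        change ⁅y * η, a⁆ ∈ E.V at h1
        rw [comm_mul_left] at h1
        have h3 := hVn.conj_mem _ (mul_mem h1 (inv_mem h2)) y⁻¹
        rw [mul_inv_cancel_right, inv_inv] at h3
        simpa [mul_assoc] using h3
      obtain ⟨w, hw, rfl⟩ := (E.mem_cs P.Y_le_T).1 hη
      obtain ⟨v, hv, x', hx', rfl⟩ := P.mem_Y hw
      have hcv := E.V_inv.2 g v hv
      rw [E.c_mul (E.V_le hv) (P.le hx')] at hηs ⊢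
      refine mul_mem hcv ?_
      have hx'Z : x' ∈ Subgroup.center S := by
        by_contra hZ
        refine P.not_mem_V hg hx' hZ ha ?_
        rw [comm_mul_left] at hηs
        have h2 : ⁅E.c g v, a⁆ ∈ E.V := E.center_le_V (E.comm_V hB hcv a)
        have h3 := hVn.conj_mem _ (mul_mem hηs (inv_mem h2)) (E.c g v)⁻¹
        rw [mul_inv_cancel_right, inv_inv] at h3
        simpa [mul_assoc] using h3
      exact E.V_inv.2 g x' (E.center_le_V hx'Z)
    · push Not at hs
      obtain ⟨s, hs⟩ := hs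
      refine ⟨⁅x, s⁆, ?_, P.X2_comm hg (hNX hxN) s, hs⟩
      rw [show ⁅x, s⁆ = x * (s * x⁻¹ * s⁻¹) by group]
      exact mul_mem hxN (hNn.conj_mem _ (inv_mem hxN) s)
  obtain ⟨v, hv, x', hx', rfl⟩ := P.mem_Y hyY
  have hx'N : x' ∈ N := by
    have := mul_mem (inv_mem (hVN hv)) hyN
    rwa [inv_mul_cancel_left] at this
  have hx'Z : x' ∉ Subgroup.center S := fun h => hyV (mul_mem hv (E.center_le_V h))
  have := P.normal_V_Y
  obtain ⟨φ, hker, hφ⟩ := P.disp_hom hx' hx'Z
  have hξN := hN.2 g x' hx'N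
  have hsurj := E.surj_of_ker_le φ hker (by
    rw [← P.card_Y_quot]; exact Nat.mul_le_mul_left _ P'.card_T_le)
  have hYN : P.Y ≤ N := by
    intro y hy
    obtain ⟨s, hs⟩ := hsurj (QuotientGroup.mk ⟨y, hy⟩)
    obtain ⟨h', hs'⟩ := hφ s
    rw [hs'] at hs
    have h3 : ⁅E.c g x', s⁆⁻¹ * y ∈ E.V := (QuotientGroup.eq (s := E.V.subgroupOf P.Y)).1 hs
    have h4 : ⁅E.c g x', s⁆ ∈ N := by
      rw [show ⁅E.c g x', s⁆ = E.c g x' * (s * (E.c g x')⁻¹ * s⁻¹) by group]
      exact mul_mem hξN (hNn.conj_mem _ (inv_mem hξN) s)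
    have := mul_mem h4 (hVN h3)
    rwa [mul_inv_cancel_left] at this
  exact le_antisymm hNX (sup_le hYN ((E.cs_mono hYN g).trans (Emb.Inv.cs_eq E hN g).le))

/-- In exponent `p = 3` there is no pair. -/
theorem exp_three_false (P' : Pair E' E) (hexp : ∀ s : S, s ^ 3 = 1) : False := by
  have hmem : ∀ {F F' : Emb p S}, Pair F F' → ∀ {x : S}, x ∈ F'.V → ∀ {a : S}, a ∉ F.T →
      ⁅a, F.c F.g0 x⁆ ∈ F'.V := by
    intro F F' R x hx a ha
    set ξ := F.c F.g0 x
    have hζ := R.X2_conj F.gen (R.gY_le_X2 (F.c_mem_cs R.Y_le_T F.g0 (R.V'_le_Y hx))) a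
    obtain ⟨v, hv, x', hx', hζe⟩ := R.mem_Y hζ
    rw [← hζe]
    refine mul_mem (F'.center_le_V (F.mem_center_of_comm R.base hv ha ?_)) hx'
    have hca : Commute a ⁅a, ξ⁆ := commute_comm_of_exp_three hexp a ξ
    rw [← hζe] at hca
    have h1 : ⁅a, v * x'⁆ = 1 := comm_eq_one hca.eq
    have hax : ⁅a, x'⁆ ∈ F.Zc := by
      rw [← commutatorElement_inv]; exact inv_mem (R.comm_Zc hx' a)
    rw [comm_mul_right, center_conj (F.Zc_le_center hax), mul_eq_one_iff_eq_inv] at h1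
    rw [← commutatorElement_inv, h1, inv_inv]
    exact hax
  obtain ⟨x, hx, hxZ⟩ := P.exists_moved
  obtain ⟨w, hw, hwZ⟩ := P'.exists_moved
  obtain ⟨-, hξT'⟩ := P.moved E.gen hx hxZ
  obtain ⟨-, hηT⟩ := P'.moved E'.gen hw hwZ
  exact P.not_mem_V E.gen hx hxZ hηT (hmem P' hw hξT')

end Pair

namespace HD

variable {E : Emb p S} (hd : HD E)
include hd

theorem exc : Exc p S := by
  have := E.nontriv
  rcases exists_pair E.setup_isP with h | ⟨S₁, S₂, hc, -, hn⟩
  · exact h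
  · rcases hn E.G E.ι E.inj hd.situ with h | h
    · exact absurd h (hd.nd _ hc.ne₁ hc.char₁)
    · exact absurd h (hd.nd _ hc.ne₂ hc.char₂)

theorem base : Base p S := ⟨E.setup_isP, (tildeJ_top hd.exc.comm).2⟩

theorem zp : ∀ z ∈ Subgroup.center S, z ^ p = 1 := hd.exc.zel.2

/-- Central characteristic subgroups fixed by the ambient group are trivial. -/
theorem eq_bot {X : Subgroup S} (hc : X.Characteristic) (hle : X ≤ E.Zc) : X = ⊥ := by
  by_contra h
  refine hd.nd X h hc (Push.normal_of_le_center ?_)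
  rintro _ ⟨z, hz, rfl⟩
  exact (hle hz).2

theorem not_normal : ¬ ((vJoin p S ⊔ cen (vJoin p S)).map E.ι).Normal := by
  have := E.nontriv
  exact hd.nd _ (vJoin_ne_bot E.setup_isP) (sup_char vJoin_char (char_of_map_le fun φ => le_of_eq (by
    rw [map_cen, Subgroup.characteristic_iff_map_eq.1 vJoin_char φ])))

theorem exists_partner :
    (∃ E' : Emb p S, ∃ e ∈ E'.V, e ∉ E.T) ∨ ∃ E' : Emb p S, Pair E E' :=
  partner_of_not_normal hd.base E hd.not_normal

theorem case_A {E' : Emb p S} {e : S} (he : e ∈ E'.V) (heT : e ∉ E.T) :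
    (p = 3 → frattini S ≤ Subgroup.center S) ∧
      (p ≠ 2 → frattini S ≤ Subgroup.center S → ∀ s : S, s ^ p = 1) := by
  have hB := hd.base
  have hexc := hd.exc
  obtain ⟨W, hWn, hWZ, -, hPhi, hpow⟩ := E.end_core hB (X := E.V) (Yl := Subgroup.center S)
    (e := e)
    { inv := E.V_inv
      central := fun x hx t ht => by rw [comm_eq_one (E.V_comm hx ht)]; exact one_mem _
      exp := fun x hx => E.V_pow hB hx E
      le := E.center_le_V
      two := fun z hz => mem_z2.2 fun y => by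
        rw [comm_eq_one (Subgroup.mem_center_iff.1 hz y).symm]; exact one_mem _
      char := fun φ _ z hz => (Subgroup.characteristic_iff_map_le.1 center_char φ) ⟨z, hz, rfl⟩
      normal := inferInstance
      notMem := heT
      pow := E'.V_pow hB he E
      comm := fun s => E'.comm_V hB he s }
  refine ⟨fun h3 => ?_, fun h2 hc s => ?_⟩
  · have hz2 := hexc.three h3
    have hle : ⁅frattini S, (⊤ : Subgroup S)⁆ ≤ E.Zc := by
      refine le_trans (le_inf ?_ ?_) hWZ
      · exact Emb.comm_le hPhi fun z hz y => by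
          rw [comm_eq_one (Subgroup.mem_center_iff.1 hz y).symm]; exact one_mem _
      · exact Subgroup.commutator_le.2 fun x hx y _ => mem_z2.1 (hz2 hx) y
    have h0 := hd.eq_bot (comm_top_char frattini_characteristic) hle
    rw [Subgroup.commutator_eq_bot_iff_le_centralizer, Subgroup.coe_top,
      Subgroup.centralizer_univ] at h0
    exact h0
  · have hle : powerClosure p 1 (⊤ : Subgroup S) ≤ E.Zc := by
      rw [powerClosure, Subgroup.closure_le]
      rintro _ ⟨x, -, rfl⟩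
      rw [pow_one]
      exact hWZ ⟨hpow le_rfl h2 x, hc (PGroups.pow_mem_frattini hB.isP x)⟩
    rw [← Subgroup.mem_bot, ← hd.eq_bot (char_powerClosure p Subgroup.topCharacteristic) hle]
    exact Subgroup.subset_closure ⟨s, trivial, by rw [pow_one]⟩

theorem frattini_le_center_of_ne_three (h3 : p ≠ 3) : frattini S ≤ Subgroup.center S := by
  rcases eq_or_ne p 2 with h2 | h2
  · exact hd.exc.two h2
  · exact (hd.exc.big (by have := (Fact.out : p.Prime).two_le; omega)).1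

/-- The class two case. -/
theorem class_two (hc : frattini S ≤ Subgroup.center S) :
    (p = 2 → Monoid.exponent S = 4) ∧ (p ≠ 2 → Monoid.exponent S = p) := by
  have hB := hd.base
  have hexc := hd.exc
  have := E.nontriv
  refine ⟨fun h2 => ?_, fun h2 => ?_⟩
  · subst h2
    have h4 : ∀ s : S, s ^ 4 = 1 := fun s => by
      rw [show (4 : ℕ) = 2 * 2 from rfl, pow_mul]
      exact hexc.phiel.2 _ (PGroups.pow_mem_frattini hB.isP s)
    obtain ⟨k, hk, he⟩ := (Nat.dvd_prime_pow Nat.prime_two).1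
      (show Monoid.exponent S ∣ 2 ^ 2 from Monoid.exponent_dvd_of_forall_pow_eq_one h4)
    by_contra hne
    refine hexc.nab ⟨⟨fun a b => ?_⟩⟩
    have h2' : ∀ x : S, x * x = 1 := fun x => by
      rw [← pow_two, ← Monoid.exponent_dvd_iff_forall_pow_eq_one.1 ?_ x]
      rw [he]
      interval_cases k
      · exact one_dvd _
      · exact dvd_rfl
      · exact absurd he hne
    have hi : ∀ x : S, x⁻¹ = x := fun x => inv_eq_of_mul_eq_one_right (h2' x)
    rw [← hi (a * b), mul_inv_rev, hi, hi]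
  · have hp : ∀ s : S, s ^ p = 1 := by
      rcases hd.exists_partner with ⟨E', e, he, heT⟩ | ⟨E', P⟩
      · exact (hd.case_A he heT).2 h2 hc
      · obtain ⟨x, hx, hnx⟩ := P.c0
        exact absurd (E.fx_T hB hc (P.le hx)) hnx
    refine ((Fact.out : p.Prime).eq_one_or_self_of_dvd _
      (Monoid.exponent_dvd_of_forall_pow_eq_one hp)).resolve_left fun h1 => ?_
    obtain ⟨x, hx⟩ := exists_ne (1 : S)
    exact hx (by have := Monoid.pow_exponent_eq_one x; rwa [h1, pow_one] at this)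

/-- The class three case comes from a pair. -/
theorem class_three (hc : ¬ frattini S ≤ Subgroup.center S) :
    p = 3 ∧ ∃ E' : Emb p S, Pair E E' ∧ Pair E' E := by
  have hB := hd.base
  have h3 : p = 3 := by_contra fun h => hc (hd.frattini_le_center_of_ne_three h)
  refine ⟨h3, ?_⟩
  rcases hd.exists_partner with ⟨E', e, he, heT⟩ | ⟨E', P⟩
  · exact absurd ((hd.case_A he heT).1 h3) hc
  · refine ⟨E', P, P.swap ?_⟩
    by_contra h
    push Not at h
    exact P.sub_false (by omega) h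

end HD

end CfsgLib.LocalEven.GN
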