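import Cfsg.Agent.Lib.LocalEven.GN.Facts

/-!
The characteristic subgroups used for pushing up, transported along isomorphisms.
-/

set_option autoImplicit false
set_option linter.unusedSectionVars false

namespace CfsgLib.LocalEven.GN

open Cfsg
open scoped commutatorElement Pointwise
open CD (cj cen zOf)

universe u

variable {A B : Type u} [Group A] [Group B] (e : A ≃* B)

theorem map_cen (R : Subgroup A) :
    (cen R).map e.toMonoidHom = cen (R.map e.toMonoidHom) := by
  rw [cen, cen, CfsgLib.Base.map_centralizer_mulEquiv, Subgroup.coe_map]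
  rfl

theorem map_symm_map (R : Subgroup A) :
    (R.map e.toMonoidHom).map e.symm.toMonoidHom = R := by
  rw [Subgroup.map_map]
  convert Subgroup.map_id R using 2
  ext x; simp

theorem map_map_symm (R : Subgroup B) :
    (R.map e.symm.toMonoidHom).map e.toMonoidHom = R := by
  rw [Subgroup.map_map]
  convert Subgroup.map_id R using 2
  ext x; simp

theorem maxAb_map {R : Subgroup A} (h : R ∈ maxAbelianSubgroups A) :
    R.map e.toMonoidHom ∈ maxAbelianSubgroups B := by
  obtain ⟨hc, hmax⟩ := h
  refine ⟨Subgroup.le_centralizer_iff_isMulCommutative.1 ?_, fun Q hQ => ?_⟩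
  · show R.map e.toMonoidHom ≤ cen (R.map e.toMonoidHom)
    rw [← map_cen]
    exact Subgroup.map_mono (Subgroup.le_centralizer_iff_isMulCommutative.2 hc)
  · rw [Subgroup.card_map_of_injective e.injective,
      ← CfsgLib.Base.card_map_mulEquiv e.symm Q]
    refine hmax _ (Subgroup.le_centralizer_iff_isMulCommutative.1 ?_)
    show Q.map e.symm.toMonoidHom ≤ cen (Q.map e.symm.toMonoidHom)
    rw [← map_cen]
    exact Subgroup.map_mono (Subgroup.le_centralizer_iff_isMulCommutative.2 hQ)

theorem map_thompsonA :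
    (thompsonSubgroupA A).map e.toMonoidHom = thompsonSubgroupA B := by
  refine le_antisymm (Subgroup.map_le_iff_le_comap.2 (sSup_le fun R hR => ?_)) (sSup_le fun R hR => ?_)
  · rw [← Subgroup.map_le_iff_le_comap]; exact le_sSup (maxAb_map e hR)
  · rw [← map_map_symm e R]
    exact Subgroup.map_mono (le_sSup (maxAb_map e.symm hR))

theorem map_centre : (Subgroup.center A).map e.toMonoidHom = Subgroup.center B := by
  rw [← cen_top, map_cen, Subgroup.map_top_of_surjective _ e.surjective, cen_top]

variable [Finite A] [Finite B]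

theorem maxCentralProduct_congr (e : A ≃* B) : maxCentralProduct A = maxCentralProduct B :=
  le_antisymm (maxCentralProduct_le_of_hom e.toMonoidHom e.injective)
    (maxCentralProduct_le_of_hom e.symm.toMonoidHom e.symm.injective)

theorem cl_map {R : Subgroup A} (h : IsCentrallyLarge R) :
    IsCentrallyLarge (R.map e.toMonoidHom) := by
  change _ = maxCentralProduct B
  rw [CD.card_center_eq, Push.card_mul_zOf_map e.injective, ← CD.card_center_eq,
    ← maxCentralProduct_congr e]
  exact h

theorem mcl_map {R : Subgroup A} (h : IsMinimalCentrallyLarge R) :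
    IsMinimalCentrallyLarge (R.map e.toMonoidHom) := by
  refine ⟨cl_map e h.1, fun Q hQ hcl => ?_⟩
  have h1 : Q.map e.symm.toMonoidHom ≤ R := by
    rw [← map_symm_map e R]; exact Subgroup.map_mono hQ
  rw [← h.2 _ h1 (cl_map e.symm hcl), map_map_symm]

theorem map_minimalJoin :
    (minimalCentrallyLargeJoin A).map e.toMonoidHom = minimalCentrallyLargeJoin B := by
  refine le_antisymm (Subgroup.map_le_iff_le_comap.2 (sSup_le fun R hR => ?_)) (sSup_le fun R hR => ?_)
  · rw [← Subgroup.map_le_iff_le_comap]; exact le_sSup (mcl_map e hR)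
  · rw [← map_map_symm e R]
    exact Subgroup.map_mono (le_sSup (mcl_map e.symm hR))

theorem card_omegaOneCenter (p : ℕ) (R : Subgroup A) :
    Nat.card ↥(omegaOneCenter p (R.map e.toMonoidHom)) = Nat.card ↥(omegaOneCenter p R) := by
  have h : (R ⊓ cen R).map e.toMonoidHom = R.map e.toMonoidHom ⊓ cen (R.map e.toMonoidHom) := by
    rw [Subgroup.map_inf _ _ _ e.injective, map_cen]
  rw [omegaOneCenter, omegaOneCenter]
  show Nat.card ↥(omegaOne p (R.map e.toMonoidHom ⊓ cen (R.map e.toMonoidHom))) = _
  rw [← h, ← map_omegaOne p _ _ e.injective, Subgroup.card_map_of_injective e.injective]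

theorem maxOmega_congr (p : ℕ) (e : A ≃* B) :
    maxOmegaCenterOfMinimalCL p A = maxOmegaCenterOfMinimalCL p B := by
  rw [maxOmegaCenterOfMinimalCL, maxOmegaCenterOfMinimalCL]
  congr 1
  ext k
  constructor
  · rintro ⟨R, hR, rfl⟩; exact ⟨_, mcl_map e hR, card_omegaOneCenter e p R⟩
  · rintro ⟨R, hR, rfl⟩; exact ⟨_, mcl_map e.symm hR, card_omegaOneCenter e.symm p R⟩

theorem map_frattiniJoin_le (p : ℕ) :
    (frattiniOfMinimalCLJoin p A).map e.toMonoidHom ≤ frattiniOfMinimalCLJoin p B := by
  rw [frattiniOfMinimalCLJoin, Subgroup.map_iSup]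
  refine iSup_le fun Q => ?_
  rw [show (frattini ↥(Q : Subgroup A)).map (Q : Subgroup A).subtype = Push.phi (Q : Subgroup A) from rfl,
    Push.phi_map _ e.injective]
  exact le_iSup_of_le (⟨_, mcl_map e Q.2.1,
    (card_omegaOneCenter e p Q).trans (Q.2.2.trans (maxOmega_congr p e))⟩ :
    {R : Subgroup B // IsMinimalCentrallyLarge R ∧
      Nat.card ↥(omegaOneCenter p R) = maxOmegaCenterOfMinimalCL p B}) le_rfl

theorem map_frattiniJoin (p : ℕ) :
    (frattiniOfMinimalCLJoin p A).map e.toMonoidHom = frattiniOfMinimalCLJoin p B := by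
  refine le_antisymm (map_frattiniJoin_le e p) ?_
  conv_lhs => rw [← map_map_symm e (frattiniOfMinimalCLJoin p B)]
  exact Subgroup.map_mono (map_frattiniJoin_le e.symm p)

end CfsgLib.LocalEven.GN
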