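import Cfsg.Agent.Lib.LocalEven.GN.Steps

/-!
A two-dimensional quotient of `V` on which an element of `S ∖ T` and an opposite one generate
`SL₂(p)`.
-/

set_option autoImplicit false
set_option linter.unusedSectionVars false

namespace CfsgLib.LocalEven.GN

open Cfsg
open scoped commutatorElement Pointwise
open CD (cj cen zOf)

universe u

variable {p : ℕ} [Fact p.Prime] {S : Type u} [Group S] [Finite S]

theorem mem_of_pow_two_coprime {G : Type*} [Group G] {H : Subgroup G} {x : G} {m n : ℕ}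
    (h : Nat.Coprime m n) (hm : x ^ m ∈ H) (hn : x ^ n ∈ H) : x ∈ H := by
  have e : (x ^ m) ^ (Nat.gcdA m n) * (x ^ n) ^ (Nat.gcdB m n) = x := by
    rw [← zpow_natCast x m, ← zpow_natCast x n, ← zpow_mul, ← zpow_mul, ← zpow_add,
      ← Nat.gcd_eq_gcd_ab, h.gcd_eq_one, Nat.cast_one, zpow_one]
  rw [← e]
  exact mul_mem (zpow_mem hm _) (zpow_mem hn _)

namespace Emb

variable (E : Emb p S)

/-- The displacement of `t` under `h`. -/
noncomputable def dl (h : E.G) (t : S) : S := E.c h t * t⁻¹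

theorem dl_mem_T {t : S} (ht : t ∈ E.T) (h : E.G) : E.dl h t ∈ E.T :=
  mul_mem (E.c_mem ht h) (inv_mem ht)

theorem c_eq_dl (h : E.G) (t : S) : E.c h t = E.dl h t * t := by rw [dl, inv_mul_cancel_right]

theorem dl_ι {t : S} (ht : t ∈ E.T) (s : S) : E.dl (E.ι s) t = ⁅s, t⁆ := by
  rw [dl, E.c_ι ht, commutatorElement_def]

theorem dl_mul {v w : S} (hv : v ∈ E.V) (hw : w ∈ E.V) (h : E.G) :
    E.dl h (v * w) = E.dl h v * E.dl h w := by
  have h1 : E.dl h (v * w) = E.c h v * E.dl h w * v⁻¹ := by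
    rw [dl, dl, E.c_mul (E.V_le hv) (E.V_le hw)]; group
  have hd : E.dl h w ∈ E.V := mul_mem (E.V_inv.2 h w hw) (inv_mem hw)
  rw [h1, mul_assoc, E.V_comm hd (inv_mem (E.V_le hv)), ← mul_assoc]
  rfl

theorem dl_mem_V {v : S} (hv : v ∈ E.V) (h : E.G) : E.dl h v ∈ E.V :=
  mul_mem (E.V_inv.2 h v hv) (inv_mem hv)

theorem comm_V_mul (hB : Base p S) {v w : S} (hv : v ∈ E.V) (hw : w ∈ E.V) (s : S) :
    ⁅s, v * w⁆ = ⁅s, v⁆ * ⁅s, w⁆ := by
  have h1 := E.comm_V hB hw s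
  rw [← commutatorElement_inv] at h1
  rw [comm_mul_right, center_conj ((inv_mem_iff).1 h1)]

theorem comm_V' (hB : Base p S) {v : S} (hv : v ∈ E.V) (s : S) :
    ⁅s, v⁆ ∈ Subgroup.center S := by
  rw [← commutatorElement_inv]; exact inv_mem (E.comm_V hB hv s)

theorem V_decomp (hB : Base p S) {g : E.G} (hg : E.Gen g) {v : S} (hv : v ∈ E.V) :
    ∃ z ∈ Subgroup.center S, ∃ e ∈ E.cs g (Subgroup.center S), z * e = v := by
  have hle : E.cs g (Subgroup.center S) ≤ cen (Subgroup.center S) := fun x _ y hy =>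
    (Subgroup.mem_center_iff.1 hy x).symm
  have hv' : v ∈ ((Subgroup.center S ⊔ E.cs g (Subgroup.center S) : Subgroup S) : Set S) := by
    rw [E.V_eq hB hg]; exact hv
  rw [CD.sup_eq_mul_of_le_cen hle] at hv'
  exact hv'

theorem card_quot (hB : Base p S) {g : E.G} (hg : E.Gen g) :
    Nat.card S * Nat.card E.Zc = Nat.card E.T * Nat.card (Subgroup.center S) := by
  have hZT := E.center_le_V.trans E.V_le
  have hle : E.cs g (Subgroup.center S) ≤ cen (Subgroup.center S) := fun x _ y hy =>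
    (Subgroup.mem_center_iff.1 hy x).symm
  have hinf : Subgroup.center S ⊓ E.cs g (Subgroup.center S) = E.Zc := by
    refine le_antisymm (E.center_inf_cs hg) fun z hz => ⟨E.Zc_le_center hz, ?_⟩
    exact (E.mem_cs hZT).2 ⟨z, E.Zc_le_center hz, (E.mem_Zc_iff.1 hz).2 g⟩
  have h1 := Push.card_sup_inf_of_le_cen hle
  rw [E.V_eq hB hg, hinf, E.card_cs hZT] at h1
  have h2 := E.index hB
  have h3 : Nat.card S * Nat.card (Subgroup.center S) = maxCentralizerProduct S := by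
    rw [← CD.maxCentralProduct_eq, ← (hB.top : _ = maxCentralProduct S), CD.card_center_eq,
      zOf_top, Subgroup.card_top]
  refine Nat.eq_of_mul_eq_mul_right (Nat.card_pos (α := Subgroup.center S)) ?_
  calc Nat.card S * Nat.card E.Zc * Nat.card (Subgroup.center S)
      = (Nat.card S * Nat.card (Subgroup.center S)) * Nat.card E.Zc := by ring
    _ = Nat.card E.T * (Nat.card E.V * Nat.card E.Zc) := by rw [h3, ← h2]; ring
    _ = _ := by rw [h1]; ring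

end Emb

/-- Data defining the quotient. -/
structure Line (E : Emb p S) (g : E.G) (a z0 : S) where
  gen : E.Gen g
  notMem : a ∉ E.T
  s0 : S
  s0_notMem : s0 ∉ E.T
  H0 : Subgroup S
  le : H0 ≤ Subgroup.center S
  zc_le : E.Zc ≤ H0
  z0_center : z0 ∈ Subgroup.center S
  z0_notMem : z0 ∉ H0
  quad : ∀ z ∈ Subgroup.center S, ⁅a, E.c g ⁅s0, E.c g⁻¹ z⁆⁆ * z ∈ H0
  cyc : ∀ z ∈ Subgroup.center S, ∃ k : ℕ, z * (z0 ^ k)⁻¹ ∈ H0

open scoped IsMulCommutative in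
theorem exists_line {E : Emb p S} (hB : Base p S) {g : E.G} (hg : E.Gen g) {a : S}
    (ha : a ∉ E.T) {z0 : S} (hz0 : z0 ∈ Subgroup.center S) (hz0c : z0 ∉ E.Zc) :
    Nonempty (Line E g a z0) := by
  classical
  have : E.Zc.Normal := Emb.Inv.normal E E.Zc_inv
  have hZV : Subgroup.center S ≤ E.V := E.center_le_V
  have hZT : Subgroup.center S ≤ E.T := hZV.trans E.V_le
  set N := E.Zc.subgroupOf (Subgroup.center S) with hN
  -- a character nontrivial on `z0`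
  have hne : (QuotientGroup.mk ⟨z0, hz0⟩ : (↥(Subgroup.center S) ⧸ N)) ≠ 1 := fun h =>
    hz0c ((QuotientGroup.eq_one_iff (N := N) _).1 h)
  obtain ⟨χ, hχ⟩ := CommGroup.exists_apply_ne_one_of_hasEnoughRootsOfUnity (↥(Subgroup.center S) ⧸ N) ℂ hne
  have hw : ∀ (s : S) {z : S}, z ∈ Subgroup.center S → E.c g ⁅s, E.c g⁻¹ z⁆ ∈ E.V := fun s z hz =>
    E.V_inv.2 g _ (hZV (E.comm_V' hB (E.V_inv.2 _ z (hZV hz)) s))
  have hψ : ∀ (s : S) {z : S}, z ∈ Subgroup.center S → ⁅a, E.c g ⁅s, E.c g⁻¹ z⁆⁆ ∈ Subgroup.center S := fun s z hz =>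
    E.comm_V' hB (hw s hz) a
  have hmulz : ∀ (s : S) {z w : S}, z ∈ Subgroup.center S → w ∈ Subgroup.center S →
      ⁅a, E.c g ⁅s, E.c g⁻¹ (z * w)⁆⁆ =
        ⁅a, E.c g ⁅s, E.c g⁻¹ z⁆⁆ * ⁅a, E.c g ⁅s, E.c g⁻¹ w⁆⁆ := by
    intro s z w hz hw'
    have hz' := E.V_inv.2 g⁻¹ z (hZV hz)
    have hw'' := E.V_inv.2 g⁻¹ w (hZV hw')
    rw [E.c_mul (hZT hz) (hZT hw'), E.comm_V_mul hB hz' hw'' s,
      E.c_mul (hZT (E.comm_V' hB hz' s)) (hZT (E.comm_V' hB hw'' s)),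
      E.comm_V_mul hB (hw s hz) (hw s hw')]
  have hmuls : ∀ (s t : S) {z : S}, z ∈ Subgroup.center S →
      ⁅a, E.c g ⁅s * t, E.c g⁻¹ z⁆⁆ =
        ⁅a, E.c g ⁅s, E.c g⁻¹ z⁆⁆ * ⁅a, E.c g ⁅t, E.c g⁻¹ z⁆⁆ := by
    intro s t z hz
    have hz' := E.V_inv.2 g⁻¹ z (hZV hz)
    have h1 := E.comm_V' hB hz' t
    rw [comm_mul_left, center_conj h1, E.c_mul (hZT h1) (hZT (E.comm_V' hB hz' s)),
      E.comm_V_mul hB (hw t hz) (hw s hz)]
    exact (Subgroup.mem_center_iff.1 (hψ s hz) _)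
  let pre : S → (↥(Subgroup.center S) →* (↥(Subgroup.center S) ⧸ N)) := fun s =>
    (QuotientGroup.mk' N).comp
      { toFun := fun z => ⟨_, hψ s z.2⟩
        map_one' := Subtype.ext (by simp [E.c_one])
        map_mul' := fun z w => Subtype.ext (hmulz s z.2 w.2) }
  have hkerN : ∀ s, N ≤ (pre s).ker := by
    intro s z hz
    rw [MonoidHom.mem_ker]
    refine (QuotientGroup.eq_one_iff _).2 ?_
    show ⁅a, E.c g ⁅s, E.c g⁻¹ (z : S)⁆⁆ ∈ E.Zc
    rw [show E.c g⁻¹ (z : S) = z from (E.mem_Zc_iff.1 hz).2 g⁻¹, comm_eq_one (Subgroup.mem_center_iff.1 z.2 s), E.c_one,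
      commutatorElement_one_right]
    exact one_mem _
  let ψ : S → ((↥(Subgroup.center S) ⧸ N) →* (↥(Subgroup.center S) ⧸ N)) := fun s => QuotientGroup.lift N (pre s) (hkerN s)
  let Φ : S →* ((↥(Subgroup.center S) ⧸ N) →* ℂˣ) :=
    { toFun := fun s => χ.comp (ψ s)
      map_one' := by
        refine MonoidHom.ext fun x => ?_
        obtain ⟨z, rfl⟩ := QuotientGroup.mk_surjective x
        show χ (pre 1 z) = 1
        have : pre 1 z = 1 := (QuotientGroup.eq_one_iff _).2 (by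
          show ⁅a, E.c g ⁅(1 : S), E.c g⁻¹ (z : S)⁆⁆ ∈ E.Zc
          rw [commutatorElement_one_left, E.c_one, commutatorElement_one_right]; exact one_mem _)
        rw [this, map_one]
      map_mul' := fun s t => by
        refine MonoidHom.ext fun x => ?_
        obtain ⟨z, rfl⟩ := QuotientGroup.mk_surjective x
        show χ (pre (s * t) z) = χ (pre s z) * χ (pre t z)
        rw [← map_mul]
        exact congrArg χ (congrArg (QuotientGroup.mk' N) (Subtype.ext (hmuls s t z.2))) }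
  have hker : ∀ s, Φ s = 1 → s ∈ E.T := by
    intro s hs
    by_contra hsT
    have hinj : Function.Injective (ψ s) := by
      rw [← MonoidHom.ker_eq_bot_iff, eq_bot_iff]
      intro x hx
      obtain ⟨z, rfl⟩ := QuotientGroup.mk_surjective x
      rw [Subgroup.mem_bot]
      refine (QuotientGroup.eq_one_iff _).2 ?_
      have hx' : pre s z = 1 := hx
      have h1 : ⁅a, E.c g ⁅s, E.c g⁻¹ (z : S)⁆⁆ ∈ E.Zc := (QuotientGroup.eq_one_iff (N := N) _).1 hx'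
      have hz' := E.V_inv.2 g⁻¹ _ (hZV z.2)
      rw [← commutatorElement_inv] at h1
      have h2 := E.mem_center_of_comm hB (hw s z.2) ha (inv_mem_iff.1 h1)
      have h3 := E.zc_of_center hg (E.comm_V' hB hz' s) h2
      rw [← commutatorElement_inv] at h3
      have h4 := E.mem_center_of_comm hB hz' hsT (inv_mem_iff.1 h3)
      have h5 := E.zc_of_center hg h4 (by rw [E.c_c_inv (hZT z.2)]; exact z.2)
      have h6 := E.Zc_inv.2 g _ h5
      rwa [E.c_c_inv (hZT z.2)] at h6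
    obtain ⟨y, hy⟩ := (Finite.injective_iff_surjective.1 hinj) (QuotientGroup.mk ⟨z0, hz0⟩)
    apply hχ
    rw [← hy]
    exact DFunLike.congr_fun hs y
  have hkerT : Φ.ker ≤ E.T := fun s hs => hker s hs
  have : Finite ((↥(Subgroup.center S) ⧸ N) →* ℂˣ) := by
    obtain ⟨e⟩ := CommGroup.monoidHom_mulEquiv_of_hasEnoughRootsOfUnity (↥(Subgroup.center S) ⧸ N) ℂ
    exact Finite.of_equiv _ e.symm.toEquiv
  have hcard : Nat.card Φ.range = Nat.card ((↥(Subgroup.center S) ⧸ N) →* ℂˣ) := by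
    refine le_antisymm (Subgroup.card_le_card_group _) ?_
    rw [CommGroup.card_monoidHom_of_hasEnoughRootsOfUnity (↥(Subgroup.center S) ⧸ N) ℂ]
    refine Nat.le_of_mul_le_mul_left ?_ (Nat.card_pos (α := E.Zc))
    refine Nat.le_of_mul_le_mul_left ?_ (Nat.card_pos (α := Φ.ker))
    have e1 : Nat.card S = Nat.card Φ.ker * Nat.card Φ.range := by
      rw [Subgroup.card_eq_card_quotient_mul_card_subgroup Φ.ker,
        Nat.card_congr (QuotientGroup.quotientKerEquivRange Φ).toEquiv, mul_comm]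
    have e2 : Nat.card (↥(Subgroup.center S) ⧸ N) * Nat.card E.Zc = Nat.card (Subgroup.center S) := by
      rw [Subgroup.card_eq_card_quotient_mul_card_subgroup N, hN,
        Nat.card_congr (Subgroup.subgroupOfEquivOfLe E.Zc_le_center).toEquiv]
    calc Nat.card Φ.ker * (Nat.card E.Zc * Nat.card (↥(Subgroup.center S) ⧸ N))
        = Nat.card Φ.ker * Nat.card (Subgroup.center S) := by rw [mul_comm (Nat.card E.Zc), e2]
      _ ≤ Nat.card E.T * Nat.card (Subgroup.center S) := Nat.mul_le_mul_right _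
          (Nat.card_mono (Set.toFinite _) (SetLike.coe_subset_coe.2 hkerT))
      _ = Nat.card S * Nat.card E.Zc := (E.card_quot hB hg).symm
      _ = _ := by rw [e1]; ring
  have hsurj : Φ.range = ⊤ := Subgroup.eq_top_of_card_eq _ hcard
  obtain ⟨s0, hs0⟩ : ∃ s0, Φ s0 = χ⁻¹ := MonoidHom.mem_range.1 (hsurj ▸ Subgroup.mem_top _)
  have hΦ : ∀ x : ↥(Subgroup.center S), χ (pre s0 x) = (χ (QuotientGroup.mk x))⁻¹ := by
    intro x
    have h1 := DFunLike.congr_fun hs0 (QuotientGroup.mk x)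
    rw [MonoidHom.inv_apply] at h1
    rw [← h1]
    simp only [Φ, ψ, MonoidHom.coe_mk, OneHom.coe_mk, MonoidHom.coe_comp, Function.comp_apply,
      QuotientGroup.lift_mk]
  have hs0T : s0 ∉ E.T := by
    intro hmem
    apply hχ
    have h2 : pre s0 ⟨z0, hz0⟩ = 1 := (QuotientGroup.eq_one_iff _).2 (by
      show ⁅a, E.c g ⁅s0, E.c g⁻¹ z0⁆⁆ ∈ E.Zc
      rw [comm_eq_one (E.V_comm (E.V_inv.2 g⁻¹ z0 (hZV hz0)) hmem).symm, E.c_one,
        commutatorElement_one_right]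
      exact one_mem _)
    have h3 := hΦ ⟨z0, hz0⟩
    rw [h2, map_one, eq_comm, inv_eq_one] at h3
    exact h3
  let H0 : Subgroup S := ((χ.comp (QuotientGroup.mk' N)).ker).map (Subgroup.center S).subtype
  have hmem : ∀ {z : S} (hz : z ∈ Subgroup.center S), χ (QuotientGroup.mk ⟨z, hz⟩) = 1 → z ∈ H0 :=
    fun {z} hz h => ⟨⟨z, hz⟩, h, rfl⟩
  have hpp : ∀ x : (↥(Subgroup.center S) ⧸ N), χ x ^ p = 1 := by
    intro x
    obtain ⟨z, rfl⟩ := QuotientGroup.mk_surjective x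
    rw [← map_pow, ← QuotientGroup.mk_pow]
    rw [(QuotientGroup.eq_one_iff (N := N) _).2 (E.zpow_mem_Zc hB z.2 : z ^ p ∈ N), map_one]
  refine ⟨{
    gen := hg, notMem := ha, s0 := s0, s0_notMem := hs0T, H0 := H0
    le := Subgroup.map_subtype_le _
    zc_le := fun z hz => hmem (E.Zc_le_center hz) (by
      rw [(QuotientGroup.eq_one_iff _).2 (show (⟨z, E.Zc_le_center hz⟩ : ↥(Subgroup.center S)) ∈ N from hz), map_one])
    z0_center := hz0
    z0_notMem := ?_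
    quad := fun z hz => hmem (mul_mem (hψ s0 hz) hz) (by
      have h1 := hΦ ⟨z, hz⟩
      have e : (⟨⁅a, E.c g ⁅s0, E.c g⁻¹ z⁆⁆ * z, mul_mem (hψ s0 hz) hz⟩ : ↥(Subgroup.center S)) =
          ⟨_, hψ s0 hz⟩ * ⟨z, hz⟩ := rfl
      rw [e, QuotientGroup.mk_mul, map_mul]
      exact mul_eq_one_iff_eq_inv.2 h1)
    cyc := fun z hz => ?_ }⟩
  · rintro ⟨⟨z, hz⟩, h, rfl⟩
    exact hχ h
  · set ζ : ℂ := ((χ (QuotientGroup.mk ⟨z0, hz0⟩) : ℂˣ) : ℂ) with hζdef
    have hprim : IsPrimitiveRoot ζ p := by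
      have h1 : ζ ^ p = 1 := by
        rw [hζdef, ← Units.val_pow_eq_pow_val, hpp, Units.val_one]
      have h2 : ζ ≠ 1 := fun h => hχ (Units.ext h)
      have h3 := IsPrimitiveRoot.orderOf ζ
      rwa [orderOf_eq_prime h1 h2] at h3
    have : NeZero p := ⟨(Fact.out : p.Prime).ne_zero⟩
    obtain ⟨k, -, hk⟩ := hprim.eq_pow_of_pow_eq_one
      (ξ := ((χ (QuotientGroup.mk ⟨z, hz⟩) : ℂˣ) : ℂ))
      (by rw [← Units.val_pow_eq_pow_val, hpp, Units.val_one])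
    refine ⟨k, hmem (mul_mem hz (inv_mem (pow_mem hz0 k))) ?_⟩
    have e : (⟨z * (z0 ^ k)⁻¹, mul_mem hz (inv_mem (pow_mem hz0 k))⟩ : ↥(Subgroup.center S)) =
        ⟨z, hz⟩ * ((⟨z0, hz0⟩ : ↥(Subgroup.center S)) ^ k)⁻¹ := rfl
    rw [e, QuotientGroup.mk_mul, QuotientGroup.mk_inv, QuotientGroup.mk_pow, map_mul, map_inv,
      map_pow, mul_inv_eq_one]
    apply Units.ext
    rw [Units.val_pow_eq_pow_val]
    exact hk.symm

namespace Line

variable {E : Emb p S} {g : E.G} {a z0 : S} (L : Line E g a z0) (hB : Base p S)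

/-- The opposite element. -/
def b : E.G := g * E.ι L.s0 * g⁻¹

/-- The kernel of the quotient. -/
def H : Subgroup S :=
  L.H0 ⊔ E.cs g (Subgroup.center S) ⊓
    Subgroup.closure {e | e ∈ E.cs g (Subgroup.center S) ∧ ⁅a, e⁆ ∈ L.H0}

theorem gZ_le_V : E.cs g (Subgroup.center S) ≤ E.V :=
  (E.cs_mono E.center_le_V g).trans (Emb.Inv.cs_eq E E.V_inv g).le

include L in
theorem gen' : E.Gen g := L.gen

include hB in
theorem mem_H1 {e : S} (he : e ∈ E.cs g (Subgroup.center S) ⊓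
    Subgroup.closure {e | e ∈ E.cs g (Subgroup.center S) ∧ ⁅a, e⁆ ∈ L.H0}) : ⁅a, e⁆ ∈ L.H0 := by
  obtain ⟨-, he⟩ := he
  suffices e ∈ E.V ∧ ⁅a, e⁆ ∈ L.H0 from this.2
  induction he using Subgroup.closure_induction with
  | mem x hx => exact ⟨gZ_le_V hx.1, hx.2⟩
  | one => exact ⟨one_mem _, by rw [commutatorElement_one_right]; exact one_mem _⟩
  | mul x y _ _ hx hy =>
    exact ⟨mul_mem hx.1 hy.1, by rw [E.comm_V_mul hB hx.1 hy.1]; exact mul_mem hx.2 hy.2⟩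
  | inv x _ hx =>
    refine ⟨inv_mem hx.1, ?_⟩
    have h1 := E.comm_V_mul hB hx.1 (inv_mem hx.1) a
    rw [mul_inv_cancel, commutatorElement_one_right] at h1
    rw [← inv_eq_of_mul_eq_one_right h1.symm]
    exact inv_mem hx.2

theorem H_le_V : L.H ≤ E.V :=
  sup_le (L.le.trans E.center_le_V) (inf_le_left.trans gZ_le_V)

theorem H0_le_H : L.H0 ≤ L.H := le_sup_left

theorem zc_le_H : E.Zc ≤ L.H := L.zc_le.trans L.H0_le_H

theorem mem_H_of {e : S} (he : e ∈ E.cs g (Subgroup.center S)) (h : ⁅a, e⁆ ∈ L.H0) : e ∈ L.H :=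
  Subgroup.mem_sup_right ⟨he, Subgroup.subset_closure ⟨he, h⟩⟩

include hB in
theorem H_decomp {x : S} (hx : x ∈ L.H) :
    ∃ z ∈ L.H0, ∃ e ∈ E.cs g (Subgroup.center S), ⁅a, e⁆ ∈ L.H0 ∧ z * e = x := by
  have hle : E.cs g (Subgroup.center S) ⊓
      Subgroup.closure {e | e ∈ E.cs g (Subgroup.center S) ∧ ⁅a, e⁆ ∈ L.H0} ≤ cen L.H0 :=
    fun x _ y hy => (Subgroup.mem_center_iff.1 (L.le hy) x).symm
  rw [H, ← SetLike.mem_coe, CD.sup_eq_mul_of_le_cen hle] at hx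
  obtain ⟨z, hz, e, he, rfl⟩ := hx
  exact ⟨z, hz, e, he.1, L.mem_H1 hB he, rfl⟩

include hB in
theorem H_inf_center {x : S} (hx : x ∈ L.H) (hxZ : x ∈ Subgroup.center S) : x ∈ L.H0 := by
  obtain ⟨z, hz, e, he, -, rfl⟩ := L.H_decomp hB hx
  refine mul_mem hz (L.zc_le (E.center_inf_cs L.gen ⟨?_, he⟩))
  have h := mul_mem (inv_mem (L.le hz)) hxZ
  rwa [inv_mul_cancel_left] at h

theorem comm_mem_gZ {z : S} (hB : Base p S) (hz : z ∈ Subgroup.center S) :
    E.dl L.b z ∈ E.cs g (Subgroup.center S) ∧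
      E.dl L.b z = E.c g ⁅L.s0, E.c g⁻¹ z⁆ := by
  have hzV := E.center_le_V hz
  have hz' := E.V_inv.2 g⁻¹ z hzV
  have h1 : E.dl L.b z = E.c g ⁅L.s0, E.c g⁻¹ z⁆ := by
    have hzT := E.V_le hzV
    rw [← E.dl_ι (E.V_le hz'), Emb.dl, Emb.dl, E.c_mul (E.c_mem (E.c_mem hzT _) _)
      (inv_mem (E.c_mem hzT _)), E.c_inv (E.c_mem hzT _), E.c_c_inv hzT, E.c_c hzT, E.c_c hzT]
    rw [Line.b, ← mul_assoc]
  exact ⟨h1 ▸ E.c_mem_cs (E.center_le_V.trans E.V_le) g (E.comm_V' hB hz' L.s0), h1⟩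

include hB in
theorem quad_b {z : S} (hz : z ∈ Subgroup.center S) : ⁅a, E.dl L.b z⁆ * z ∈ L.H0 := by
  rw [(L.comm_mem_gZ hB hz).2]; exact L.quad z hz

theorem b_fix {e : S} (he : e ∈ E.cs g (Subgroup.center S)) : E.c L.b e = e := by
  obtain ⟨z, hz, rfl⟩ := (E.mem_cs (E.center_le_V.trans E.V_le)).1 he
  have hzT := E.V_le (E.center_le_V hz)
  rw [E.c_c hzT, Line.b, inv_mul_cancel_right, ← E.c_c hzT, E.c_ι hzT, center_conj hz]

theorem a_fix {z : S} (hz : z ∈ Subgroup.center S) : E.c (E.ι a) z = z := by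
  rw [E.c_ι (E.V_le (E.center_le_V hz)), center_conj hz]

theorem c_a {e : S} (he : e ∈ E.V) : E.c (E.ι a) e = ⁅a, e⁆ * e := by
  rw [E.c_ι (E.V_le he), commutatorElement_def]; group

include hB in
theorem a_inv {x : S} (hx : x ∈ L.H) : E.c (E.ι a) x ∈ L.H := by
  obtain ⟨z, hz, e, he, hae, rfl⟩ := L.H_decomp hB hx
  have hzV := E.center_le_V (L.le hz)
  rw [E.c_mul (E.V_le hzV) (E.V_le (gZ_le_V he)), a_fix (L.le hz), c_a (gZ_le_V he)]
  exact mul_mem (L.H0_le_H hz) (mul_mem (L.H0_le_H hae) (L.mem_H_of he hae))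

include hB in
theorem b_inv {x : S} (hx : x ∈ L.H) : E.c L.b x ∈ L.H := by
  obtain ⟨z, hz, e, he, hae, rfl⟩ := L.H_decomp hB hx
  have hzV := E.center_le_V (L.le hz)
  rw [E.c_mul (E.V_le hzV) (E.V_le (gZ_le_V he)), L.b_fix he, E.c_eq_dl L.b z]
  refine mul_mem (mul_mem (L.mem_H_of (L.comm_mem_gZ hB (L.le hz)).1 ?_) (L.H0_le_H hz))
    (L.mem_H_of he hae)
  have h := mul_mem (L.quad_b hB (L.le hz)) (inv_mem hz)
  rwa [mul_inv_cancel_right] at h

/-- `h` stabilises the kernel. -/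
def Stab (h : E.G) : Prop := ∀ x ∈ L.H, E.c h x ∈ L.H

theorem stab_mul {h k : E.G} (hh : L.Stab h) (hk : L.Stab k) : L.Stab (h * k) := fun x hx => by
  rw [← E.c_c (E.V_le (L.H_le_V hx))]; exact hh _ (hk x hx)

theorem stab_pow {h : E.G} (hh : L.Stab h) : ∀ n : ℕ, L.Stab (h ^ n)
  | 0 => fun x hx => by rw [pow_zero, E.c_one_left (E.V_le (L.H_le_V hx))]; exact hx
  | n + 1 => by rw [pow_succ]; exact L.stab_mul (stab_pow hh n) hh

theorem stab_inv {h : E.G} (hh : L.Stab h) : L.Stab h⁻¹ := by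
  have e : h⁻¹ = h ^ (orderOf h - 1) := inv_eq_of_mul_eq_one_left (by
    rw [← pow_succ, Nat.sub_add_cancel (orderOf_pos h), pow_orderOf_eq_one])
  rw [e]; exact L.stab_pow hh _

/-- The Weyl element. -/
def n : E.G := E.ι a * L.b * E.ι a

include hB in
theorem stab_a : L.Stab (E.ι a) := fun _ hx => L.a_inv hB hx

include hB in
theorem stab_b : L.Stab L.b := fun _ hx => L.b_inv hB hx

include hB in
theorem stab_n : L.Stab L.n := L.stab_mul (L.stab_mul (L.stab_a hB) (L.stab_b hB)) (L.stab_a hB)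

include hB in
theorem comm_gZ {e : S} (he : e ∈ E.cs g (Subgroup.center S)) : ⁅a, e⁆ ∈ Subgroup.center S :=
  E.comm_V' hB (gZ_le_V he) a

include hB in
theorem n_center {z : S} (hz : z ∈ Subgroup.center S) :
    ∃ h ∈ L.H, E.c L.n z = h * E.dl L.b z := by
  have hzV := E.center_le_V hz
  obtain ⟨hd, -⟩ := L.comm_mem_gZ hB hz
  set d := E.dl L.b z with hddef
  have hdV := gZ_le_V hd
  refine ⟨⁅a, d⁆ * z, L.H0_le_H (L.quad_b hB hz), ?_⟩
  have hzT := E.V_le hzV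
  rw [Line.n, ← E.c_c hzT, ← E.c_c (E.c_mem hzT _), a_fix hz, E.c_eq_dl L.b z, ← hddef,
    E.c_mul (E.V_le hdV) hzT, a_fix hz, c_a hdV]
  rw [mul_assoc, ← Subgroup.mem_center_iff.1 hz d |>.symm, ← mul_assoc]

include hB in
theorem n_gZ {e : S} (he : e ∈ E.cs g (Subgroup.center S)) :
    ∃ h ∈ L.H, E.c L.n e = h * ⁅a, e⁆ := by
  set u := ⁅a, e⁆ with hu
  have huZ : u ∈ Subgroup.center S := comm_gZ hB he
  obtain ⟨hd, -⟩ := L.comm_mem_gZ hB huZ
  set d := E.dl L.b u with hddef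
  have hdV := gZ_le_V hd
  have huV := E.center_le_V huZ
  have heV := gZ_le_V he
  refine ⟨(⁅a, d⁆ * u) * (d * e), mul_mem (L.H0_le_H (L.quad_b hB huZ))
    (L.mem_H_of (mul_mem hd he) ?_), ?_⟩
  · rw [E.comm_V_mul hB hdV heV]; exact L.quad_b hB huZ
  · have heT := E.V_le heV
    rw [Line.n, ← E.c_c heT, ← E.c_c (E.c_mem heT _), c_a heV, ← hu,
      E.c_mul (E.V_le huV) heT, L.b_fix he, E.c_eq_dl L.b u, ← hddef,
      E.c_mul (mul_mem (E.V_le hdV) (E.V_le huV)) heT, E.c_mul (E.V_le hdV) (E.V_le huV),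
      a_fix huZ, c_a hdV, c_a heV, ← hu]
    have c1 : ∀ x : S, x * u = u * x := fun x => Subgroup.mem_center_iff.1 huZ x
    simp only [mul_assoc]
    rw [← c1 e, ← mul_assoc u d, ← c1 d]
    simp only [mul_assoc]

include hB in
theorem n_sq {v : S} (hv : v ∈ E.V) : E.c (L.n * L.n) v * v ∈ L.H := by
  obtain ⟨z, hz, e, he, rfl⟩ := E.V_decomp hB L.gen hv
  have hzV := E.center_le_V hz
  have heV := gZ_le_V he
  obtain ⟨h1, hh1, e1⟩ := L.n_center hB hz
  obtain ⟨h2, hh2, e2⟩ := L.n_gZ hB he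
  obtain ⟨hd, -⟩ := L.comm_mem_gZ hB hz
  set d := E.dl L.b z
  have huZ : ⁅a, e⁆ ∈ Subgroup.center S := comm_gZ hB he
  obtain ⟨h3, hh3, e3⟩ := L.n_gZ hB hd
  obtain ⟨h4, hh4, e4⟩ := L.n_center hB huZ
  obtain ⟨hd', -⟩ := L.comm_mem_gZ hB huZ
  set d' := E.dl L.b ⁅a, e⁆
  have hH := fun {x} (hx : x ∈ L.H) => E.V_le (L.H_le_V hx)
  have k1 : E.c (L.n * L.n) z = E.c L.n h1 * (h3 * ⁅a, d⁆) := by
    rw [← E.c_c (E.V_le hzV), e1, E.c_mul (hH hh1) (E.V_le (gZ_le_V hd)), e3]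
  have k2 : E.c (L.n * L.n) e = E.c L.n h2 * (h4 * d') := by
    rw [← E.c_c (E.V_le heV), e2, E.c_mul (hH hh2) (E.V_le (E.center_le_V huZ)), e4]
  have m1 : E.c L.n h1 * h3 ∈ L.H := mul_mem (L.stab_n hB _ hh1) hh3
  have m2 : E.c L.n h2 * h4 ∈ L.H := mul_mem (L.stab_n hB _ hh2) hh4
  have m3 : ⁅a, d⁆ * z ∈ L.H := L.H0_le_H (L.quad_b hB hz)
  have m4 : d' * e ∈ L.H := L.mem_H_of (mul_mem hd' he) (by
    rw [E.comm_V_mul hB (gZ_le_V hd') heV]; exact L.quad_b hB huZ)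
  have hfin : E.c (L.n * L.n) (z * e) * (z * e) =
      (E.c L.n h1 * h3) * (⁅a, d⁆ * z) * ((E.c L.n h2 * h4) * (d' * e)) := by
    rw [E.c_mul (E.V_le hzV) (E.V_le heV), k1, k2]
    have c1 : ∀ x : S, x * z = z * x := fun x => Subgroup.mem_center_iff.1 hz x
    simp only [mul_assoc]
    rw [← mul_assoc d' z, c1 d', mul_assoc z, ← mul_assoc h4 z, c1 h4, mul_assoc z,
      ← mul_assoc (E.c L.n h2) z, c1 (E.c L.n h2), mul_assoc z]
  rw [hfin]
  exact mul_mem (mul_mem m1 m3) (mul_mem m2 m4)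

/-- Elements acting trivially on the quotient. -/
def NQ : Subgroup E.G where
  carrier := {h | ∀ v ∈ E.V, E.dl h v ∈ L.H}
  one_mem' := fun v hv => by
    show E.c 1 v * v⁻¹ ∈ L.H
    rw [E.c_one_left (E.V_le hv), mul_inv_cancel]; exact one_mem _
  mul_mem' := fun {h k} hh hk v hv => by
    have hkv := E.dl_mem_V hv k
    have e : E.dl (h * k) v = E.dl h (E.dl k v) * E.dl k v * E.dl h v := by
      have hvT := E.V_le hv
      unfold Emb.dl
      rw [E.c_mul (E.c_mem hvT k) (inv_mem hvT), E.c_inv hvT, E.c_c hvT]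
      group
    rw [e]
    exact mul_mem (mul_mem (hh _ hkv) (hk v hv)) (hh v hv)
  inv_mem' := fun {h} hh v hv => by
    have hw := E.V_inv.2 h⁻¹ v hv
    have e : E.dl h⁻¹ v = (E.dl h (E.c h⁻¹ v))⁻¹ := by
      rw [Emb.dl, Emb.dl, E.c_c_inv (E.V_le hv)]; group
    rw [e]
    exact inv_mem (hh _ hw)

theorem T0_le_NQ : E.T0 ≤ L.NQ := by
  rw [← E.T0_eq]
  rintro _ ⟨t, ht, rfl⟩ v hv
  rw [E.dl_ι (E.V_le hv), comm_eq_one (E.V_comm hv ht).symm]
  exact one_mem _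

theorem NQ_conj {h k : E.G} (hh : L.Stab h) (hk : k ∈ L.NQ) : h * k * h⁻¹ ∈ L.NQ := by
  intro v hv
  have hv' := E.V_inv.2 h⁻¹ v hv
  have hvT := E.V_le hv
  have e : E.dl (h * k * h⁻¹) v = E.c h (E.dl k (E.c h⁻¹ v)) := by
    rw [Emb.dl, Emb.dl, E.c_mul (E.c_mem (E.c_mem hvT _) _) (inv_mem (E.c_mem hvT _)),
      E.c_inv (E.c_mem hvT _), E.c_c_inv hvT, E.c_c hvT, E.c_c hvT, mul_assoc h k h⁻¹]
  rw [e]
  exact hh _ (hk _ hv')

include L hB in
theorem comm_surj {t : S} (ht : t ∉ E.T) {z : S} (hz : z ∈ Subgroup.center S) :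
    ∃ e ∈ E.V, ⁅t, e⁆ * z⁻¹ ∈ E.Zc := by
  have : E.Zc.Normal := Emb.Inv.normal E E.Zc_inv
  set N := E.Zc.subgroupOf (Subgroup.center S)
  have hZV : Subgroup.center S ≤ E.V := E.center_le_V
  have hZT : Subgroup.center S ≤ E.T := hZV.trans E.V_le
  have hwV : ∀ {z : S}, z ∈ Subgroup.center S → E.c g z ∈ E.V := fun h => E.V_inv.2 g _ (hZV h)
  let pre : ↥(Subgroup.center S) →* ↥(Subgroup.center S) ⧸ N := (QuotientGroup.mk' N).comp
    { toFun := fun z => ⟨⁅t, E.c g z⁆, E.comm_V' hB (hwV z.2) t⟩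
      map_one' := Subtype.ext (by simp [E.c_one])
      map_mul' := fun z w => Subtype.ext (by
        show ⁅t, E.c g ((z : S) * w)⁆ = ⁅t, E.c g z⁆ * ⁅t, E.c g w⁆
        rw [E.c_mul (hZT z.2) (hZT w.2), E.comm_V_mul hB (hwV z.2) (hwV w.2)]) }
  let ψ : ↥(Subgroup.center S) ⧸ N →* ↥(Subgroup.center S) ⧸ N := QuotientGroup.lift N pre (fun z hz => by
    rw [MonoidHom.mem_ker]
    refine (QuotientGroup.eq_one_iff _).2 ?_
    show ⁅t, E.c g (z : S)⁆ ∈ E.Zc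
    rw [show E.c g (z : S) = z from (E.mem_Zc_iff.1 hz).2 g,
      comm_eq_one (Subgroup.mem_center_iff.1 z.2 t)]
    exact one_mem _)
  have hinj : Function.Injective ψ := by
    rw [← MonoidHom.ker_eq_bot_iff, eq_bot_iff]
    intro x hx
    obtain ⟨z, rfl⟩ := QuotientGroup.mk_surjective x
    rw [Subgroup.mem_bot]
    refine (QuotientGroup.eq_one_iff _).2 ?_
    have hx' : pre z = 1 := hx
    have h1 : ⁅t, E.c g (z : S)⁆ ∈ E.Zc := (QuotientGroup.eq_one_iff (N := N) _).1 hx'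
    rw [← commutatorElement_inv] at h1
    exact E.zc_of_center L.gen z.2 (E.mem_center_of_comm hB (hwV z.2) ht (inv_mem_iff.1 h1))
  obtain ⟨y, hy⟩ := Finite.injective_iff_surjective.1 hinj (QuotientGroup.mk ⟨z, hz⟩)
  obtain ⟨w, rfl⟩ := QuotientGroup.mk_surjective y
  refine ⟨_, hwV w.2, ?_⟩
  have h := (QuotientGroup.eq (s := N)).1 hy.symm
  have h' : z⁻¹ * ⁅t, E.c g (w : S)⁆ ∈ E.Zc := h
  rwa [← Subgroup.mem_center_iff.1 (inv_mem hz) _] at h'

include hB in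
theorem pElement_mem {h : E.G} (hh : h ∈ L.NQ) (hp : ∃ k : ℕ, h ^ p ^ k = 1) : h ∈ E.T0 := by
  set A := Subgroup.zpowers (E.ι a) with hA
  set M := A ⊔ L.NQ with hM
  have hAnorm : A ≤ Subgroup.normalizer (L.NQ : Set E.G) := by
    rw [hA, Subgroup.zpowers_le, Subgroup.mem_normalizer_iff_map_conj_eq]
    refine Subgroup.eq_of_le_of_card_ge ?_ (CD.card_cj (E.ι a) L.NQ).ge
    rintro _ ⟨k, hk, rfl⟩
    exact L.NQ_conj (L.stab_a hB) hk
  have hMn : M ≤ Subgroup.normalizer (L.NQ : Set E.G) := sup_le hAnorm Subgroup.le_normalizer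
  obtain ⟨P0, hP0⟩ := E.syl
  have hAp : IsPGroup p A := E.setup.isP.to_le (by
    rw [hA, Subgroup.zpowers_le]; exact ⟨a, rfl⟩)
  have hAM : IsPGroup p (A.subgroupOf M) :=
    hAp.of_equiv (Subgroup.subgroupOfEquivOfLe le_sup_left).symm
  obtain ⟨P, hP⟩ := hAM.exists_le_sylow
  obtain ⟨Q, hQ⟩ := ((P.2.map M.subtype) : IsPGroup p _).exists_le_sylow
  obtain ⟨x, hx⟩ := MulAction.exists_smul_eq E.G P0 Q
  have hQx : ∀ y ∈ (Q : Subgroup E.G), ∃ s : S, y = x * E.ι s * x⁻¹ := by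
    intro y hy
    rw [← hx] at hy
    obtain ⟨r, hr, rfl⟩ := CfsgLib.Classical.mem_sylow_smul (p := p) |>.1 hy
    rw [hP0] at hr
    obtain ⟨s, rfl⟩ := hr
    exact ⟨s, rfl⟩
  obtain ⟨sa, hsa⟩ := hQx (E.ι a) (hQ ⟨⟨E.ι a, Subgroup.mem_sup_left (Subgroup.mem_zpowers _)⟩,
    hP (Subgroup.mem_zpowers _), rfl⟩)
  have hZ : ∀ z ∈ Subgroup.center S, E.c x z ∈ Subgroup.center S := by
    intro z hz
    have hzV := E.center_le_V hz
    have hzT := E.V_le hzV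
    refine E.fix hB (E.V_inv.2 x z hzV) L.notMem ?_
    apply E.inj
    rw [map_mul, map_mul, E.ι_c hzT, hsa]
    have hc : E.ι sa * E.ι z = E.ι z * E.ι sa := by
      rw [← map_mul, ← map_mul, Subgroup.mem_center_iff.1 hz sa]
    calc x * E.ι sa * x⁻¹ * (x * E.ι z * x⁻¹) = x * (E.ι sa * E.ι z) * x⁻¹ := by group
      _ = _ := by rw [hc]; group
  have hPT : ∀ y : M, y ∈ (P : Subgroup M) → (y : E.G) ∈ L.NQ → (y : E.G) ∈ E.T0 := by
    intro y hyP hyN
    obtain ⟨t, ht⟩ := hQx y (hQ ⟨y, hyP, rfl⟩)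
    by_contra hyT
    have htT : t ∉ E.T := fun htT => hyT (ht ▸ E.setup.normal.conj_mem _ htT x)
    apply L.z0_notMem
    -- every element of `Z` is in `H`
    obtain ⟨z', hz', hz'e⟩ : ∃ z' ∈ Subgroup.center S, E.c x z' = z0 := by
      let f : ↥(Subgroup.center S) → ↥(Subgroup.center S) := fun z => ⟨E.c x z, hZ z z.2⟩
      have hf : Function.Injective f := fun z w h => Subtype.ext (by
        have h1 := congrArg (fun u : ↥(Subgroup.center S) => E.c x⁻¹ (u : S)) h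
        simp only [f] at h1
        rwa [E.c_inv_c (E.V_le (E.center_le_V z.2)),
          E.c_inv_c (E.V_le (E.center_le_V w.2))] at h1)
      obtain ⟨z', hz'⟩ := Finite.injective_iff_surjective.1 hf ⟨z0, L.z0_center⟩
      exact ⟨z', z'.2, congrArg Subtype.val hz'⟩
    obtain ⟨e, he, hec⟩ := L.comm_surj hB htT hz'
    have heT := E.V_le he
    have h1 := hyN _ (E.V_inv.2 x e he)
    have h2 : E.dl (y : E.G) (E.c x e) = E.c x ⁅t, e⁆ := by
      rw [← E.dl_ι heT, Emb.dl, Emb.dl, E.c_mul (E.c_mem heT _) (inv_mem heT), E.c_inv heT,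
        E.c_c heT, E.c_c heT, ht, inv_mul_cancel_right]
    rw [h2] at h1
    refine L.H_inf_center hB ?_ L.z0_center
    have hz'T := E.V_le (E.center_le_V hz')
    have htc : ⁅t, e⁆ ∈ E.T := E.comm_mem_T t e
    have h3 := mul_mem h1 (inv_mem (L.zc_le_H (E.Zc_inv.2 x _ hec)))
    rwa [E.c_mul htc (inv_mem hz'T), E.c_inv hz'T, mul_inv_rev, inv_inv, hz'e,
      ← Subgroup.mem_center_iff.1 L.z0_center (E.c x ⁅t, e⁆)⁻¹, mul_inv_cancel_left] at h3
  obtain ⟨k, hk⟩ := hp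
  have hhp : IsPGroup p (Subgroup.zpowers (⟨h, Subgroup.mem_sup_right hh⟩ : M)) := by
    rintro ⟨_, i, rfl⟩
    refine ⟨k, Subtype.ext (Subtype.ext ?_)⟩
    push_cast
    rw [← zpow_natCast, ← zpow_mul, mul_comm, zpow_mul, zpow_natCast, hk, one_zpow]
  obtain ⟨P', hP'⟩ := hhp.exists_le_sylow
  obtain ⟨l, hl⟩ := MulAction.exists_smul_eq M P' P
  have hmem : l * ⟨h, Subgroup.mem_sup_right hh⟩ * l⁻¹ ∈ (P : Subgroup M) := by
    rw [← hl]
    exact CfsgLib.Classical.mem_sylow_smul (p := p) |>.2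
      ⟨_, hP' (Subgroup.mem_zpowers _), rfl⟩
  have hN : ((l : E.G) * h * (l : E.G)⁻¹) ∈ L.NQ :=
    (Subgroup.mem_normalizer_iff.1 (hMn l.2) h).1 hh
  have hT := hPT _ hmem hN
  have h' := E.setup.normal.conj_mem _ hT (l : E.G)⁻¹
  simpa [mul_assoc] using h'

theorem stab_NQ {h : E.G} (hh : h ∈ L.NQ) : L.Stab h := fun x hx => by
  rw [E.c_eq_dl h x]; exact mul_mem (hh x (L.H_le_V hx)) hx

/-- Powers of an element inverting `V / H`. -/
theorem parity {m : E.G} (hm : L.Stab m) (hinv : ∀ v ∈ E.V, E.c m v * v ∈ L.H) :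
    ∀ k : ℕ, ∀ v ∈ E.V,
    (Even k → E.dl (m ^ k) v ∈ L.H) ∧ (Odd k → E.c (m ^ k) v * v ∈ L.H) := by
  intro k
  induction k with
  | zero =>
    intro v hv
    refine ⟨fun _ => ?_, fun h => absurd h (by decide)⟩
    rw [pow_zero, Emb.dl, E.c_one_left (E.V_le hv), mul_inv_cancel]; exact one_mem _
  | succ k ih =>
    intro v hv
    have hvT := E.V_le hv
    have hmv := E.V_inv.2 m v hv
    have h0 := L.stab_pow hm k _ (hinv v hv)
    rw [E.c_mul (E.V_le hmv) hvT, E.c_c hvT, ← pow_succ] at h0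
    obtain ⟨ihe, iho⟩ := ih v hv
    refine ⟨fun he => ?_, fun ho => ?_⟩
    · have h1 := iho (Nat.not_even_iff_odd.1 (fun h => by
        rw [Nat.even_add_one] at he; exact he h))
      have := mul_mem h0 (inv_mem h1)
      rw [mul_inv_rev, mul_assoc, ← mul_assoc (E.c (m ^ k) v) v⁻¹,
        E.V_comm (E.V_inv.2 _ v hv) (inv_mem hvT), mul_assoc v⁻¹, mul_inv_cancel, mul_one] at this
      exact this
    · have h1 := ihe (by rw [Nat.odd_add_one, Nat.not_odd_iff_even] at ho; exact ho)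
      rw [Emb.dl] at h1
      have := mul_mem h0 (inv_mem h1)
      rw [mul_inv_rev, inv_inv, mul_assoc, ← mul_assoc (E.c (m ^ k) v) v,
        E.V_comm (E.V_inv.2 _ v hv) hvT, mul_assoc v, mul_inv_cancel, mul_one] at this
      exact this

end Line

end CfsgLib.LocalEven.GN
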