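import Cfsg.Agent.Lib.LocalEven.GN.Sub
import Cfsg.Agent.Lib.LocalEven.GN.Five
import Cfsg.Agent.Lib.LocalEven.GN.Iso

/-!
Characteristic subgroups for pushing up.
-/

set_option autoImplicit false
set_option linter.unusedSectionVars false

namespace CfsgLib.LocalEven.GN

open Cfsg
open scoped commutatorElement Pointwise
open CD (cj cen zOf)

universe u

variable {p : ℕ} [Fact p.Prime] {S : Type u} [Group S] [Finite S]

/-- The pushing-up hypotheses on an embedding of `S`. -/
def Situ (p : ℕ) {S G : Type u} [Group S] [Group G] (τ : S →* G) : Prop :=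
  (∃ P : Sylow p G, (P : Subgroup G) = τ.range) ∧
    Subgroup.centralizer (pCore p G : Set G) ≤ pCore p G ∧
    (∃! M : Subgroup G, IsCoatom M ∧ τ.range ≤ M) ∧
    ∃ (K : Subgroup G) (_ : K.Normal) (F : Type) (_ : Field F) (_ : Fintype F) (n : ℕ),
      Fintype.card F = p ^ n ∧ Nonempty (G ⧸ K ≃* Matrix.ProjectiveSpecialLinearGroup (Fin 2) F)

/-- `J̃(S) = C_S(Z(J(S)))`. -/
abbrev tildeJ (S : Type u) [Group S] : Subgroup S :=
  cen (thompsonSubgroupA S ⊓ cen (thompsonSubgroupA S))

/-- One of the two subgroups is normal in every pushing-up situation. -/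
def PushPair (p : ℕ) (S₁ S₂ : Subgroup S) : Prop :=
  ∀ (G : Type u) [Group G] [Finite G] (τ : S →* G), Function.Injective τ → Situ p τ →
    (S₁.map τ).Normal ∨ (S₂.map τ).Normal

/-- Requirements on the subgroups. -/
structure PairChar (S₁ S₂ : Subgroup S) : Prop where
  ne₁ : S₁ ≠ ⊥
  ne₂ : S₂ ≠ ⊥
  char₁ : S₁.Characteristic
  char₂ : S₂.Characteristic
  le₁ : S₁ ≤ Subgroup.center S
  le₂ : S₂ ≤ tildeJ S
  char₂' : (S₂.subgroupOf (tildeJ S)).Characteristic

theorem situ_of_pushingUp {G : Type u} [Group G] (P : Subgroup G) (e : S ≃* ↥P)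
    (h : IsPushingUpSituation p P) :
    Function.Injective ((P.subtype).comp e.toMonoidHom) ∧
      Situ p ((P.subtype).comp e.toMonoidHom) := by
  obtain ⟨-, hP, hC, hM, hK⟩ := h
  have hr : ((P.subtype).comp e.toMonoidHom).range = P := by
    rw [MonoidHom.range_comp, MonoidHom.range_eq_top.2 e.surjective, ← MonoidHom.range_eq_map,
      Subgroup.range_subtype]
  refine ⟨P.subtype_injective.comp e.injective, ?_, hC, ?_, hK⟩
  · rw [hr]; exact hP
  · rw [hr]; exact hM

theorem Situ.setup {G : Type u} [Group G] [Finite G] {τ : S →* G} (h : Situ p τ) :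
    Push.Setup p τ.range (pCore p G) ∧
      ∃ g : G, GenAt τ.range (pCore p G) g ∧ GenAt τ.range (pCore p G) g⁻¹ := by
  obtain ⟨⟨P, hP⟩, hC, hM, K, hK, F, hF, hF', n, hn, he⟩ := h
  rw [← hP] at hM
  have := gen_pair_of_sylow P hC hM F hn he
  rwa [hP] at this

section Transport

variable {G : Type u} [Group G] [Finite G] {τ : S →* G} (hτ : Function.Injective τ)
include hτ

/-- `S` as the subgroup `τ(S)`. -/
noncomputable def toRange : S ≃* ↥τ.range := MonoidHom.ofInjective hτ

theorem map_toRange (X : Subgroup S) :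
    (X.map (toRange hτ).toMonoidHom).map τ.range.subtype = X.map τ := by
  rw [Subgroup.map_map]; rfl

theorem zOf_range' : zOf τ.range = (Subgroup.center S).map τ := by
  rw [← zOf_top, ← Push.zOf_map hτ, ← MonoidHom.range_eq_map]

theorem jay_range : (thompsonSubgroupA S).map τ = Push.jay τ.range := by
  rw [← Push.thompsonAOf_eq, thompsonSubgroupAOf, ← map_thompsonA (toRange hτ), map_toRange hτ]

theorem jT_of_not_normal [Fact p.Prime] {T : Subgroup G} (hset : Push.Setup p τ.range T)
    (hn : ¬ ((thompsonSubgroupA S).map τ).Normal) : ¬ (thompsonSubgroupA S).map τ ≤ T := by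
  intro hle
  refine hn ?_
  rw [jay_range hτ] at hle ⊢
  exact Push.sSup_normal_of_le_T hset (fun g R hR hg => Push.mas_cj g hR hg)
    fun R hR => (Push.le_jay hR).trans hle

theorem centerThompson_map :
    centerThompsonAOf τ.range = (thompsonSubgroupA S ⊓ cen (thompsonSubgroupA S)).map τ := by
  rw [← map_toRange hτ, Subgroup.map_inf _ _ (toRange hτ).toMonoidHom (toRange hτ).injective,
    map_thompsonA, map_cen, map_thompsonA]
  ext x
  constructor
  · rintro ⟨⟨y, hy, rfl⟩, hc⟩
    exact ⟨y, ⟨hy, fun z hz => Subtype.ext (hc _ ⟨z, hz, rfl⟩)⟩, rfl⟩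
  · rintro ⟨y, ⟨hy, hc⟩, rfl⟩
    refine ⟨⟨y, hy, rfl⟩, ?_⟩
    rintro _ ⟨z, hz, rfl⟩
    exact congrArg Subtype.val (hc z hz)

theorem map_cen_range (X : Subgroup S) : (cen X).map τ = τ.range ⊓ cen (X.map τ) := by
  ext x
  constructor
  · rintro ⟨y, hy, rfl⟩
    refine ⟨⟨y, rfl⟩, ?_⟩
    rintro _ ⟨z, hz, rfl⟩
    rw [← map_mul, ← map_mul, (hy : y ∈ cen X) z hz]
  · rintro ⟨⟨y, rfl⟩, hy⟩
    exact ⟨y, fun z hz => hτ (by rw [map_mul, map_mul]; exact hy _ ⟨z, hz, rfl⟩), rfl⟩

theorem map_minimalJoin_range :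
    (minimalCentrallyLargeJoin S).map τ = sSup {R : Subgroup G | Push.MCLs τ.range R} := by
  rw [← Push.minimalJoin_map, ← map_minimalJoin (toRange hτ), map_toRange]

theorem mcls_range {Q : Subgroup S} (hQ : IsMinimalCentrallyLarge Q) :
    Push.MCLs τ.range (Q.map τ) := by
  rw [← map_toRange hτ]; exact (Push.mcls_map _).1 (mcl_map _ hQ)

theorem cls_range (h : IsCentrallyLarge (⊤ : Subgroup S)) : Push.CLs τ.range τ.range := by
  have h' := (Push.cls_map _).1 (cl_map (toRange hτ) h)
  rwa [map_toRange, ← MonoidHom.range_eq_map] at h'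

theorem map_frattiniJoin_range :
    (frattiniOfMinimalCLJoin p S).map τ =
      ⨆ R ∈ {R : Subgroup G | Push.MCLs τ.range R ∧
        ∀ R', Push.MCLs τ.range R' → Push.omegaCard p R' ≤ Push.omegaCard p R}, Push.phi R := by
  rw [← Push.frattiniJoin_map, ← map_frattiniJoin (toRange hτ) p, map_toRange]

end Transport

theorem char_of_map_le {X : Subgroup S} (h : ∀ φ : S ≃* S, X.map φ.toMonoidHom ≤ X) :
    X.Characteristic := Subgroup.characteristic_iff_map_le.2 h

theorem char_inf {X Y : Subgroup S} (hX : X.Characteristic) (hY : Y.Characteristic) :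
    (X ⊓ Y).Characteristic := char_of_map_le fun φ => by
  rw [Subgroup.map_inf _ _ _ φ.injective, Subgroup.characteristic_iff_map_eq.1 hX φ,
    Subgroup.characteristic_iff_map_eq.1 hY φ]

theorem char_powerClosure {X : Subgroup S} (p : ℕ) (hX : X.Characteristic) :
    (powerClosure p 1 X).Characteristic := char_of_map_le fun φ => by
  rw [powerClosure, MonoidHom.map_closure, Subgroup.closure_le]
  rintro _ ⟨_, ⟨x, hx, rfl⟩, rfl⟩
  refine Subgroup.subset_closure ⟨φ x, ?_, by simp⟩
  exact (Subgroup.characteristic_iff_map_le.1 hX φ) ⟨x, hx, rfl⟩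

theorem center_char : (Subgroup.center S).Characteristic :=
  Subgroup.characteristic_iff_map_eq.2 fun φ => map_centre φ

theorem thompsonA_char : (thompsonSubgroupA S).Characteristic :=
  Subgroup.characteristic_iff_map_eq.2 fun φ => map_thompsonA φ

theorem thompsonA_ne_bot [Nontrivial S] : thompsonSubgroupA S ≠ ⊥ := fun h => by
  obtain ⟨A, hA⟩ := CD.maxAb_nonempty (G := S)
  have hA0 : A = ⊥ := le_bot_iff.1 (h ▸ (le_sSup hA : A ≤ thompsonSubgroupA S))
  refine top_ne_bot (α := Subgroup S) (top_le_iff.1 ?_ |>.symm)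
  conv_rhs => rw [← hA0, ← CD.cen_maxAb hA, hA0]
  intro x _ y hy
  rw [Subgroup.mem_bot.1 hy, one_mul, mul_one]

theorem zJ_char : (thompsonSubgroupA S ⊓ cen (thompsonSubgroupA S)).Characteristic :=
  char_of_map_le fun φ => by
    rw [Subgroup.map_inf _ _ _ φ.injective, map_thompsonA, map_cen, map_thompsonA]

theorem phiPhi_char : ((frattini ↥(frattini S)).map (frattini S).subtype).Characteristic :=
  char_of_map_le fun φ => by
    show (Push.phi (frattini S)).map φ.toMonoidHom ≤ Push.phi (frattini S)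
    rw [Push.phi_map _ φ.injective,
      Subgroup.characteristic_iff_map_eq.1 (frattini_characteristic) φ]

theorem comm_top_char {X : Subgroup S} (hX : X.Characteristic) :
    (⁅X, (⊤ : Subgroup S)⁆).Characteristic := char_of_map_le fun φ => by
  rw [Subgroup.map_commutator, Subgroup.characteristic_iff_map_eq.1 hX φ,
    Subgroup.map_top_of_surjective _ φ.surjective]

theorem sup_char {X Y : Subgroup S} (hX : X.Characteristic) (hY : Y.Characteristic) :
    (X ⊔ Y).Characteristic := char_of_map_le fun φ => by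
  rw [Subgroup.map_sup, Subgroup.characteristic_iff_map_eq.1 hX φ,
    Subgroup.characteristic_iff_map_eq.1 hY φ]

theorem sZero_char : (sZero p S).Characteristic := by
  rw [sZero]
  have h : (frattini S).Characteristic := frattini_characteristic
  split_ifs
  · exact sup_char (comm_top_char h) phiPhi_char
  · exact sup_char (comm_top_char (comm_top_char h)) phiPhi_char
  · exact sup_char (comm_top_char h) (char_powerClosure p Subgroup.topCharacteristic)

theorem mcp_eq_of_cl_le {R X : Subgroup S} (hR : IsCentrallyLarge R) (hle : R ≤ X) :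
    maxCentralProduct ↥X = maxCentralProduct S := by
  refine le_antisymm (maxCentralProduct_le_of_hom X.subtype X.subtype_injective) ?_
  rw [← (hR : _ = maxCentralProduct S), CD.card_center_eq]
  refine le_trans (le_of_eq ?_) (CD.central_le (R.subgroupOf X))
  rw [CD.card_center_eq, ← Push.card_mul_zOf_map X.subtype_injective (R.subgroupOf X),
    Subgroup.subgroupOf_map_subtype, inf_eq_left.2 hle]

theorem mcp_subgroup_top : maxCentralProduct ↥(⊤ : Subgroup S) = maxCentralProduct S :=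
  maxCentralProduct_congr Subgroup.topEquiv

theorem abelian_vacuous (hab : IsMulCommutative S) {G : Type u} [Group G] [Finite G]
    {τ : S →* G} (h : Situ p τ) : False := by
  obtain ⟨hs, -⟩ := h.setup
  refine hs.ne fun x hx => hs.cenT fun t ht => ?_
  obtain ⟨a, rfl⟩ := hx
  obtain ⟨b, rfl⟩ := hs.le ht
  rw [← map_mul, ← map_mul, hab.is_comm.comm]

theorem normal_of_center_le {G : Type u} [Group G] [Finite G] {τ : S →* G} {X : Subgroup S}
    (h : X ≤ Subgroup.center S) (hc : (Subgroup.center S).map τ ≤ Subgroup.center G) :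
    (X.map τ).Normal :=
  Push.normal_of_le_center ((Subgroup.map_mono h).trans hc)

/-! ### The main case -/

namespace Emb

variable (E : Emb p S)

/-- The same situation seen through an automorphism. -/
noncomputable def twist (φ : S ≃* S) : Emb p S :=
  have hr : (E.ι.comp φ.toMonoidHom).range = E.ι.range := by
    rw [MonoidHom.range_comp, MonoidHom.range_eq_top.2 φ.surjective, ← MonoidHom.range_eq_map]
  { G := E.G
    ι := E.ι.comp φ.toMonoidHom
    inj := E.inj.comp φ.injective
    T0 := E.T0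
    setup := by rw [hr]; exact E.setup
    syl := by rw [hr]; exact E.syl
    g0 := E.g0
    gen := by rw [hr]; exact E.gen
    gen' := by rw [hr]; exact E.gen'
    zne := by rw [← Subgroup.map_map, map_centre]; exact E.zne
    jT := by rw [← Subgroup.map_map, map_thompsonA]; exact E.jT }

theorem twist_V (φ : S ≃* S) : (E.twist φ).V = E.V.map φ.symm.toMonoidHom := by
  have hT : (E.twist φ).T = E.T.map φ.symm.toMonoidHom := by
    rw [Subgroup.map_equiv_eq_comap_symm', MulEquiv.symm_symm]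
    rfl
  show cen (E.twist φ).T = _
  rw [hT]
  exact (map_cen φ.symm E.T).symm

end Emb

/-- The subgroup generated by all `V`. -/
def vJoin (p : ℕ) (S : Type u) [Group S] : Subgroup S :=
  sSup {X | ∃ E : Emb p S, E.V = X}

theorem vJoin_char : (vJoin p S).Characteristic := char_of_map_le fun φ => by
  rw [vJoin, Subgroup.map_le_iff_le_comap]
  refine sSup_le ?_
  rintro _ ⟨E, rfl⟩
  rw [← Subgroup.map_le_iff_le_comap]
  refine le_sSup ⟨E.twist φ.symm, ?_⟩
  rw [E.twist_V, MulEquiv.symm_symm]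

/-- If nothing moves, the join of all `V` and its centraliser is invariant. -/
theorem all_normal (hB : Base p S) (E : Emb p S)
    (hall : ∀ E' : Emb p S, E'.V ≤ E.T ∧ ∀ x ∈ E'.V, E.Fx E.V x) :
    ((vJoin p S ⊔ cen (vJoin p S)).map E.ι).Normal := by
  set X := vJoin p S with hX
  have hVX : E.V ≤ X := le_sSup ⟨E, rfl⟩
  have hmem : ∀ x ∈ X, x ∈ E.T ∧ E.Fx E.V x := by
    intro x hx
    rw [hX, vJoin, sSup_eq_iSup'] at hx
    induction hx using Subgroup.iSup_induction' with
    | hp i z hz =>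
      obtain ⟨_, E', rfl⟩ := i
      exact ⟨(hall E').1 hz, (hall E').2 z hz⟩
    | h1 => exact ⟨one_mem _, E.fx_of_mem E.V_inv (one_mem _)⟩
    | hmul a b _ _ iha ihb =>
      exact ⟨mul_mem iha.1 ihb.1, E.fx_mul E.V_inv iha.1 ihb.1 iha.2 ihb.2⟩
  have hXi : E.Inv X := by
    refine ⟨fun x hx => (hmem x hx).1, fun h x hx => ?_⟩
    have e : E.c h x = E.c h x * x⁻¹ * x := by rw [inv_mul_cancel_right]
    rw [e]; exact mul_mem (hVX ((hmem x hx).2 h)) hx
  have hCi := E.inv_cen' hB hXi hVX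
  have hXl : IsCentralizerLarge X := large_sSup ⟨_, E, rfl⟩ (by
    rintro _ ⟨E', rfl⟩; exact E'.V_large hB)
  refine Emb.Inv.map_normal E ⟨sup_le hXi.1 hCi.1, fun h x hx => ?_⟩
  have hx' : x ∈ ((X ⊔ cen X : Subgroup S) : Set S) := hx
  rw [(CD.large_sup_inf hXl (CD.large_cen hXl).1).1] at hx'
  obtain ⟨a, ha, b, hb, rfl⟩ := hx'
  rw [E.c_mul (hXi.1 ha) (hCi.1 hb)]
  exact mul_mem (Subgroup.mem_sup_left (hXi.2 h a ha)) (Subgroup.mem_sup_right (hCi.2 h b hb))

theorem core (hB : Base p S) (hzp : ∀ z ∈ Subgroup.center S, z ^ p = 1) (E : Emb p S) :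
    ((vJoin p S ⊔ cen (vJoin p S)).map E.ι).Normal ∨ sZero p S ⊓ Subgroup.center S ≤ E.Zc := by
  by_cases hall : ∀ E' : Emb p S, E'.V ≤ E.T ∧ ∀ x ∈ E'.V, E.Fx E.V x
  · exact Or.inl (all_normal hB E hall)
  right
  push Not at hall
  obtain ⟨E', hE'⟩ := hall
  by_cases hle : E'.V ≤ E.T
  · obtain ⟨x, hx, hnx⟩ := hE' hle
    have P : Pair E E' := ⟨hB, hle, x, hx, hnx⟩
    rcases eq_or_ne p 2 with h2 | h2
    · exact (P.two_false h2 hzp).elim
    by_cases hc : ∀ v ∈ E.V, E'.Fx E'.V v
    · exact (P.sub_false h2 hc).elim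
    push Not at hc
    have P' := P.swap hc
    rcases eq_or_ne p 3 with h3 | h3
    · exact P.three_le h3 P'
    · have h5 : 5 ≤ p := by
        have := (Fact.out : p.Prime).two_le
        rcases Nat.lt_or_ge p 5 with h | h
        · exfalso
          have h4 : p = 4 := by omega
          exact absurd (Fact.out : p.Prime) (by rw [h4]; decide)
        · exact h
      exact (P.five_false h5 P').elim
  · obtain ⟨e, he, heT⟩ := SetLike.not_le_iff_exists.1 hle
    exact E.caseA hB E' he heT

/-- If the join of all `V` with its centraliser is not normal, something moves. -/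
theorem partner_of_not_normal (hB : Base p S) (E : Emb p S)
    (hW : ¬ ((vJoin p S ⊔ cen (vJoin p S)).map E.ι).Normal) :
    (∃ E' : Emb p S, ∃ e ∈ E'.V, e ∉ E.T) ∨ ∃ E' : Emb p S, Pair E E' := by
  by_contra h
  push Not at h
  obtain ⟨h1, h2⟩ := h
  refine hW (all_normal hB E fun E' => ⟨h1 E', fun x hx => ?_⟩)
  by_contra hn
  exact h2 E' ⟨hB, h1 E', x, hx, hn⟩

theorem vJoin_ne_bot [Nontrivial S] (hS : IsPGroup p S) :
    vJoin p S ⊔ cen (vJoin p S) ≠ ⊥ := fun hb => by
  refine PGroups.inf_center_ne_bot hS (N := (⊤ : Subgroup S)) top_ne_bot ?_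
  rw [top_inf_eq]
  exact le_bot_iff.1 (hb ▸ fun z hz =>
    Subgroup.mem_sup_right fun y _ => Subgroup.mem_center_iff.1 hz y)

theorem cl_vJoin (hB : Base p S) : IsCentrallyLarge (vJoin p S ⊔ cen (vJoin p S)) := by
  rcases (isEmpty_or_nonempty (Emb p S)) with h | ⟨⟨E⟩⟩
  · have h0 : vJoin p S = ⊥ := le_bot_iff.1 (sSup_le (by rintro _ ⟨E, rfl⟩; exact h.elim E))
    have h1 : cen (⊥ : Subgroup S) = ⊤ := eq_top_iff.2 fun x _ y hy => by
      rw [Subgroup.mem_bot.1 hy, mul_one, one_mul]
    rw [h0, h1, sup_top_eq]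
    exact hB.top
  · have hXl : IsCentralizerLarge (vJoin p S) := large_sSup ⟨_, E, rfl⟩ (by
      rintro _ ⟨E', rfl⟩; exact E'.V_large hB)
    refine CD.cl_iff.2 ⟨(CD.large_sup_inf hXl (CD.large_cen hXl).1).2.1, ?_⟩
    exact (CD.cen_anti le_sup_left).trans le_sup_right

theorem core_pair (hB : Base p S) (hJ : thompsonSubgroupA S = ⊤)
    (hzp : ∀ z ∈ Subgroup.center S, z ^ p = 1) :
    PushPair p (sZero p S ⊓ Subgroup.center S) (vJoin p S ⊔ cen (vJoin p S)) := by
  intro G _ _ τ hτ hs
  by_cases hc : (Subgroup.center S).map τ ≤ Subgroup.center G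
  · exact Or.inl (normal_of_center_le inf_le_right hc)
  obtain ⟨hset, g, hg, hg'⟩ := hs.setup
  let E : Emb p S :=
    { G := G, ι := τ, inj := hτ, T0 := pCore p G, setup := hset, syl := hs.1, g0 := g
      gen := hg, gen' := hg', zne := hc
      jT := by rw [hJ, ← MonoidHom.range_eq_map]; exact hset.ne }
  rcases core hB hzp E with h | h
  · exact Or.inr h
  · refine Or.inl (Push.normal_of_le_center ?_)
    rintro _ ⟨z, hz, rfl⟩
    exact (h hz).2

/-! ### The reduction -/

theorem pairChar_full (hT : tildeJ S = ⊤) {S₁ S₂ : Subgroup S} (h1 : S₁ ≠ ⊥) (h2 : S₂ ≠ ⊥)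
    (hc1 : S₁.Characteristic) (hc2 : S₂.Characteristic) (hle : S₁ ≤ Subgroup.center S) :
    PairChar S₁ S₂ := by
  refine ⟨h1, h2, hc1, hc2, hle, by rw [hT]; exact le_top, ?_⟩
  rw [hT]
  refine char_of_map_le fun φ => ?_
  rintro _ ⟨x, hx, rfl⟩
  rw [Subgroup.mem_subgroupOf]
  let ψ : S ≃* S := Subgroup.topEquiv.symm.trans (φ.trans Subgroup.topEquiv)
  refine (Subgroup.characteristic_iff_map_le.1 hc2 ψ) ⟨x, hx, ?_⟩
  show ((φ ⟨x, trivial⟩ : ↥(⊤ : Subgroup S)) : S) = _
  rfl

theorem center_ne_bot' [Nontrivial S] (hS : IsPGroup p S) : Subgroup.center S ≠ ⊥ := fun h => by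
  have := PGroups.inf_center_ne_bot hS (N := (⊤ : Subgroup S)) top_ne_bot
  exact this (by rw [h, inf_bot_eq])

/-- The first case: `[Z(J), S] ≠ 1`. -/
theorem case_comm [Nontrivial S] (hS : IsPGroup p S)
    (h : ⁅thompsonSubgroupA S ⊓ cen (thompsonSubgroupA S), (⊤ : Subgroup S)⁆ ≠ ⊥) :
    PairChar (⁅thompsonSubgroupA S ⊓ cen (thompsonSubgroupA S), (⊤ : Subgroup S)⁆ ⊓
        Subgroup.center S) (tildeJ S) ∧
      PushPair p (⁅thompsonSubgroupA S ⊓ cen (thompsonSubgroupA S), (⊤ : Subgroup S)⁆ ⊓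
        Subgroup.center S) (tildeJ S) := by
  have hc := comm_top_char (zJ_char (S := S))
  have hZJ : Subgroup.center S ≤ tildeJ S := fun z hz y _ => Subgroup.mem_center_iff.1 hz y
  refine ⟨⟨PGroups.inf_center_ne_bot hS h, fun hb => center_ne_bot' hS (le_bot_iff.1 (hb ▸ hZJ)),
    char_inf hc center_char, ?_, inf_le_right, le_rfl, ?_⟩, ?_⟩
  · exact char_of_map_le fun φ => le_of_eq (by
      rw [tildeJ, map_cen, Subgroup.map_inf _ _ _ φ.injective, map_thompsonA, map_cen,
        map_thompsonA])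
  · rw [Subgroup.subgroupOf_self]; exact Subgroup.topCharacteristic
  intro G _ _ τ hτ hs
  rcases Push.baumann_commutator hs.setup.1 with hn | hn
  · left
    rw [centerThompson_map hτ, zOf_range' hτ, MonoidHom.range_eq_map, ← Subgroup.map_commutator,
      ← Subgroup.map_inf _ _ _ hτ] at hn
    exact hn
  · right
    rw [centerThompson_map hτ, ← map_cen_range hτ] at hn
    exact hn

theorem tildeJ_top (h : ⁅thompsonSubgroupA S ⊓ cen (thompsonSubgroupA S), (⊤ : Subgroup S)⁆ = ⊥) :
    tildeJ S = ⊤ ∧ IsCentrallyLarge (⊤ : Subgroup S) := by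
  rw [Subgroup.commutator_eq_bot_iff_le_centralizer] at h
  have hT : tildeJ S = ⊤ := eq_top_iff.2 (Subgroup.le_centralizer_iff.1 h)
  refine ⟨hT, ?_⟩
  obtain ⟨Q, hQ⟩ := CD.exists_centrallyLarge (G := S)
  have hM := CD.cl_sup_sSup_maxAb hQ (s := maxAbelianSubgroups S) fun A hA => hA
  have h1 := CD.jTilde_le hM le_sup_right
  rw [← hT]
  have h2 : Q ⊔ sSup (maxAbelianSubgroups S) = tildeJ S :=
    le_antisymm (by rw [hT]; exact le_top) h1
  exact h2 ▸ hM

theorem setup_zne {G : Type u} [Group G] [Finite G] {τ : S →* G} (hτ : Function.Injective τ)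
    (hc : ¬ (Subgroup.center S).map τ ≤ Subgroup.center G) :
    ¬ zOf τ.range ≤ Subgroup.center G := by
  rw [zOf_range' hτ]; exact hc

/-- The case of a non-elementary centre. -/
theorem case_power (hT : tildeJ S = ⊤) :
    PushPair p (powerClosure p 1 (Subgroup.center S)) ⊤ := by
  intro G _ _ τ hτ hs
  rcases Push.baumann_power hs.setup.1 with hn | hn
  · left
    have e : (powerClosure p 1 (Subgroup.center S)).map τ =
        powerClosure p 1 (zOf τ.range) := by
      rw [zOf_range' hτ, powerClosure, powerClosure, MonoidHom.map_closure]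
      congr 1
      ext y
      constructor
      · rintro ⟨_, ⟨z, hz, rfl⟩, rfl⟩; exact ⟨τ z, ⟨z, hz, rfl⟩, map_pow τ _ _⟩
      · rintro ⟨_, ⟨z, hz, rfl⟩, rfl⟩; exact ⟨_, ⟨z, hz, rfl⟩, map_pow τ _ _⟩
    rw [e]; exact hn
  · right
    rw [centerThompson_map hτ, ← map_cen_range hτ] at hn
    rw [← hT]; exact hn

/-- The case of a non-abelian minimal centrally large subgroup. -/
theorem case_mcl (hCL : IsCentrallyLarge (⊤ : Subgroup S)) {Q : Subgroup S}
    (hQ : IsMinimalCentrallyLarge Q) :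
    PushPair p (Subgroup.center S ⊓ ⁅Q, Q⁆) (minimalCentrallyLargeJoin S) := by
  intro G _ _ τ hτ hs
  rcases Push.commutator_case hs.setup.1 (cls_range hτ hCL) (mcls_range hτ hQ) with hn | hn
  · left
    rw [zOf_range' hτ, ← Subgroup.map_commutator, ← Subgroup.map_inf _ _ _ hτ] at hn
    exact hn
  · right
    rw [map_minimalJoin_range hτ]; exact hn

/-- The case without elementary abelian subgroups of largest order. -/
theorem case_frattini (hCL : IsCentrallyLarge (⊤ : Subgroup S)) :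
    PushPair p (Subgroup.center S) (frattiniOfMinimalCLJoin p S) := by
  intro G _ _ τ hτ hs
  by_cases hc : (Subgroup.center S).map τ ≤ Subgroup.center G
  · exact Or.inl (normal_of_center_le le_rfl hc)
  · right
    rw [map_frattiniJoin_range hτ]
    exact Push.frattiniJoin_normal hs.setup.1 (cls_range hτ hCL) (setup_zne hτ hc)

theorem frattiniJoin_ne_bot (hS : IsPGroup p S)
    (h : ∀ A ∈ maxAbelianSubgroups S, ¬ IsElementaryAbelian p A) :
    frattiniOfMinimalCLJoin p S ≠ ⊥ := by
  intro hbot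
  have hbdd : BddAbove {k : ℕ | ∃ Q : Subgroup S, IsMinimalCentrallyLarge Q ∧
      Nat.card ↥(omegaOneCenter p Q) = k} :=
    ⟨Nat.card S, by rintro k ⟨R, -, rfl⟩; exact Subgroup.card_le_card_group _⟩
  obtain ⟨Q0, hQ0⟩ := CD.exists_mcl (G := S)
  obtain ⟨Q, hQ, hmax⟩ := Nat.sSup_mem (s := {k : ℕ | ∃ Q : Subgroup S,
      IsMinimalCentrallyLarge Q ∧ Nat.card ↥(omegaOneCenter p Q) = k}) ⟨_, Q0, hQ0, rfl⟩ hbdd
  have hphi : (frattini ↥Q).map Q.subtype ≤ (⊥ : Subgroup S) := by
    rw [← hbot, frattiniOfMinimalCLJoin]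
    exact le_iSup_of_le ⟨Q, hQ, hmax⟩ le_rfl
  have hfr : frattini ↥Q = ⊥ := by
    rwa [le_bot_iff, Subgroup.map_eq_bot_iff, Subgroup.ker_subtype, le_bot_iff] at hphi
  have hQp : IsPGroup p Q := hS.to_subgroup Q
  have hab : IsMulCommutative Q := by
    refine ⟨⟨fun a b => commutatorElement_eq_one_iff_mul_comm.1 ?_⟩⟩
    rw [← Subgroup.mem_bot, ← hfr]
    exact PGroups.commutator_le_frattini hQp
      (Subgroup.commutator_mem_commutator (Subgroup.mem_top _) (Subgroup.mem_top _))
  refine h Q ((CD.mcl_of_abelian hQ hab Q).1 hQ) ⟨hab, fun a ha => ?_⟩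
  have : (⟨a, ha⟩ : Q) ^ p ∈ frattini ↥Q := PGroups.pow_mem_frattini hQp _
  rw [hfr, Subgroup.mem_bot] at this
  exact congrArg Subtype.val this

/-- The exceptional class. -/
structure Exc (p : ℕ) (S : Type u) [Group S] : Prop where
  comm : ⁅thompsonSubgroupA S ⊓ cen (thompsonSubgroupA S), (⊤ : Subgroup S)⁆ = ⊥
  zero : sZero p S = ⊥
  nab : ¬ IsMulCommutative S
  jay : thompsonSubgroupA S = ⊤
  zel : IsElementaryAbelian p (Subgroup.center S)
  phiel : IsElementaryAbelian p (frattini S)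
  two : p = 2 → frattini S ≤ Subgroup.center S
  three : p = 3 → frattini S ≤ Subgroup.upperCentralSeries S 2
  big : 3 < p → frattini S ≤ Subgroup.center S ∧ Monoid.exponent S = p
  meas : ∀ A ∈ maxAbelianSubgroups S, ∀ B ∈ maxAbelianSubgroups S, ∀ Q : Subgroup S,
    Nat.card ↥A ^ 2 = Nat.card S * Nat.card ↥(Subgroup.center S) ∧
      Nat.card ↥Q * Nat.card ↥(Subgroup.center ↥Q) ≤ Nat.card S * Nat.card ↥(Subgroup.center S) ∧
      ((A ⊔ B : Subgroup S) : Set S) = (A : Set S) * (B : Set S) ∧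
      A ⊔ B = Subgroup.centralizer ((A ⊓ B : Subgroup S) : Set S)

theorem exc_of_sZero [Nontrivial S] (hB : Base p S)
    (hmaxAb : ∀ A ∈ maxAbelianSubgroups S, IsCentralizerLarge A)
    (hJ : thompsonSubgroupA S = ⊤) (hzp : ∀ z ∈ Subgroup.center S, z ^ p = 1)
    (hcomm : ⁅thompsonSubgroupA S ⊓ cen (thompsonSubgroupA S), (⊤ : Subgroup S)⁆ = ⊥)
    (hab : ¬ IsMulCommutative S) (h0 : sZero p S = ⊥) : Exc p S := by
  have h0' := h0
  rw [sZero] at h0'
  have hfc : ∀ s : Subgroup S, ⁅s, (⊤ : Subgroup S)⁆ = ⊥ → s ≤ Subgroup.center S := fun s hs => by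
    rw [Subgroup.commutator_eq_bot_iff_le_centralizer, Subgroup.coe_top,
      Subgroup.centralizer_univ] at hs
    exact hs
  have htwo : p = 2 → frattini S ≤ Subgroup.center S := fun h => by
    rw [if_pos h, sup_eq_bot_iff] at h0'; exact hfc _ h0'.1
  have hbig : 3 < p → frattini S ≤ Subgroup.center S ∧ ∀ x : S, x ^ p = 1 := fun h => by
    rw [if_neg (by omega), if_neg (by omega), sup_eq_bot_iff] at h0'
    refine ⟨hfc _ h0'.1, fun x => ?_⟩
    rw [← Subgroup.mem_bot, ← h0'.2]
    exact Subgroup.subset_closure ⟨x, trivial, by rw [pow_one]⟩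
  have hPhi : IsElementaryAbelian p (frattini S) := by
    by_cases h3 : 3 < p
    · refine ⟨Subgroup.le_centralizer_iff_isMulCommutative.1 fun x hx y _ =>
        Subgroup.mem_center_iff.1 ((hbig h3).1 hx) y, fun x _ => (hbig h3).2 x⟩
    · have hff : frattini ↥(frattini S) = ⊥ := by
        rw [← Subgroup.map_eq_bot_iff_of_injective _ (frattini S).subtype_injective]
        split_ifs at h0' with h2 h3'
        · exact (sup_eq_bot_iff.1 h0').2
        · exact (sup_eq_bot_iff.1 h0').2
        · exfalso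
          have := (Fact.out : p.Prime).two_le
          omega
      have hp' : IsPGroup p ↥(frattini S) := hB.isP.to_subgroup _
      refine ⟨⟨⟨fun a b => commutatorElement_eq_one_iff_mul_comm.1 ?_⟩⟩, fun a ha => ?_⟩
      · rw [← Subgroup.mem_bot, ← hff]
        exact PGroups.commutator_le_frattini hp'
          (Subgroup.commutator_mem_commutator (Subgroup.mem_top _) (Subgroup.mem_top _))
      · have : (⟨a, ha⟩ : ↥(frattini S)) ^ p ∈ frattini ↥(frattini S) :=
          PGroups.pow_mem_frattini hp' _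
        rw [hff, Subgroup.mem_bot] at this
        exact congrArg Subtype.val this
  refine
    { comm := hcomm, zero := h0, nab := hab, jay := hJ
      zel := ⟨Subgroup.le_centralizer_iff_isMulCommutative.1 fun x hx y _ =>
        Subgroup.mem_center_iff.1 hx y, hzp⟩
      phiel := hPhi, two := htwo, three := fun h => ?_, big := fun h => ⟨(hbig h).1, ?_⟩
      meas := fun A hA B hB' Q => ?_ }
  · rw [if_neg (by omega), if_pos h, sup_eq_bot_iff] at h0'
    intro x hx
    exact mem_z2.2 fun y => hfc _ h0'.1 (Subgroup.commutator_mem_commutator hx (Subgroup.mem_top y))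
  · refine ((Fact.out : p.Prime).eq_one_or_self_of_dvd _
      (Monoid.exponent_dvd_of_forall_pow_eq_one (hbig h).2)).resolve_left fun h1 => ?_
    obtain ⟨x, hx⟩ := exists_ne (1 : S)
    exact hx (by have := Monoid.pow_exponent_eq_one x; rwa [h1, pow_one] at this)
  · have hmax : maxCentralProduct S = Nat.card S * Nat.card ↥(Subgroup.center S) := by
      rw [← (hB.top : _ = maxCentralProduct S), CD.card_center_eq, zOf_top, Subgroup.card_top]
    obtain ⟨h1, -, -, h2, -⟩ := CD.large_sup_inf (hmaxAb A hA) (hmaxAb B hB')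
    refine ⟨?_, hmax ▸ CD.central_le Q, h1, SetLike.coe_injective ?_⟩
    · have h3 : Nat.card A * Nat.card (cen A) = maxCentralizerProduct S := hmaxAb A hA
      rw [CD.cen_maxAb hA, ← CD.maxCentralProduct_eq, hmax] at h3
      rw [pow_two, h3]
    · rw [h1]
      show _ = ((cen (A ⊓ B) : Subgroup S) : Set S)
      rw [h2, CD.cen_maxAb hA, CD.cen_maxAb hB']

/-- Outside the exceptional class a pair exists, with a centrally large second member. -/
theorem exists_pair [Nontrivial S] (hS : IsPGroup p S) :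
    Exc p S ∨ ∃ S₁ S₂ : Subgroup S, PairChar S₁ S₂ ∧
      maxCentralProduct ↥S₂ = maxCentralProduct ↥(tildeJ S) ∧ PushPair p S₁ S₂ := by
  classical
  by_cases hc : ⁅thompsonSubgroupA S ⊓ cen (thompsonSubgroupA S), (⊤ : Subgroup S)⁆ = ⊥
  swap
  · obtain ⟨h1, h2⟩ := case_comm hS hc
    exact Or.inr ⟨_, _, h1, rfl, h2⟩
  obtain ⟨hT, hCL⟩ := tildeJ_top hc
  have htop : (⊤ : Subgroup S) ≠ ⊥ := top_ne_bot
  have hmcp : ∀ {R X : Subgroup S}, IsCentrallyLarge R → R ≤ X →
      maxCentralProduct ↥X = maxCentralProduct ↥(tildeJ S) := fun hR hle => by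
    rw [hT, mcp_subgroup_top, mcp_eq_of_cl_le hR hle]
  have hZne := center_ne_bot' hS
  by_cases hab : IsMulCommutative S
  · refine Or.inr ⟨Subgroup.center S, ⊤,
      pairChar_full hT hZne htop center_char Subgroup.topCharacteristic le_rfl,
      hmcp hCL le_rfl, fun G _ _ τ _ hs => (abelian_vacuous hab hs).elim⟩
  by_cases hzp : ∀ z ∈ Subgroup.center S, z ^ p = 1
  swap
  · push Not at hzp
    obtain ⟨z, hz, hz1⟩ := hzp
    refine Or.inr ⟨_, ⊤, pairChar_full hT ?_ htop (char_powerClosure p center_char)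
      Subgroup.topCharacteristic ?_, hmcp hCL le_rfl, case_power hT⟩
    · intro h
      refine hz1 ?_
      rw [← Subgroup.mem_bot, ← h]
      exact Subgroup.subset_closure ⟨z, hz, by rw [pow_one]⟩
    · rw [powerClosure, Subgroup.closure_le]
      rintro _ ⟨y, hy, rfl⟩
      exact pow_mem hy _
  have hjchar : (minimalCentrallyLargeJoin S).Characteristic :=
    Subgroup.characteristic_iff_map_eq.2 fun φ => map_minimalJoin φ
  by_cases hmcl : ∀ Q : Subgroup S, IsMinimalCentrallyLarge Q → IsMulCommutative Q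
  swap
  · push Not at hmcl
    obtain ⟨Q, hQ, hQc⟩ := hmcl
    have hQn : ⁅Q, Q⁆.Characteristic := Subgroup.characteristic_iff_map_eq.2 fun φ => by
      rw [Subgroup.map_commutator]; exact (CD.mcl_pair (mcl_map φ hQ) hQ).2.1
    have hne : ⁅Q, Q⁆ ≠ ⊥ := fun h => hQc (Subgroup.le_centralizer_iff_isMulCommutative.1
      (Subgroup.commutator_eq_bot_iff_le_centralizer.1 h))
    have hQle : Q ≤ minimalCentrallyLargeJoin S := le_sSup hQ
    refine Or.inr ⟨Subgroup.center S ⊓ ⁅Q, Q⁆, minimalCentrallyLargeJoin S,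
      pairChar_full hT ?_ (fun h => hne ?_) (char_inf center_char hQn) hjchar inf_le_left,
      hmcp hQ.1 hQle, case_mcl hCL hQ⟩
    · rw [inf_comm]; exact PGroups.inf_center_ne_bot hS hne
    · rw [h, le_bot_iff] at hQle
      rw [hQle, Subgroup.commutator_bot_left]
  obtain ⟨Q0, hQ0⟩ := CD.exists_mcl (G := S)
  have hiff := CD.mcl_of_abelian hQ0 (hmcl Q0 hQ0)
  have hmaxAb : ∀ A ∈ maxAbelianSubgroups S, IsCentralizerLarge A := fun A hA =>
    CD.cl_large ((hiff A).2 hA).1
  have hJ : thompsonSubgroupA S = ⊤ := by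
    have hM : IsCentrallyLarge (thompsonSubgroupA S) :=
      CD.cl_sSup CD.maxAb_nonempty fun A hA => ((hiff A).2 hA).1
    have := CD.jTilde_le hM le_rfl
    exact top_le_iff.1 (hT ▸ this)
  have hB : Base p S := ⟨hS, hCL⟩
  by_cases h0 : sZero p S = ⊥
  · exact Or.inl (exc_of_sZero hB hmaxAb hJ hzp hc hab h0)
  have hcl := cl_vJoin hB
  have hcharV := vJoin_char (p := p) (S := S)
  have hcharC : (cen (vJoin p S)).Characteristic := char_of_map_le fun φ => le_of_eq (by
    rw [map_cen, Subgroup.characteristic_iff_map_eq.1 hcharV φ])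
  refine Or.inr ⟨_, _, pairChar_full hT ?_ (fun h => hZne ?_) (char_inf sZero_char center_char)
    (sup_char hcharV hcharC) inf_le_right, hmcp hcl le_rfl, core_pair hB hJ hzp⟩
  · have : (sZero p S).Characteristic := sZero_char
    exact PGroups.inf_center_ne_bot hS h0
  · refine le_bot_iff.1 (h ▸ fun z hz => Subgroup.mem_sup_right ?_)
    exact fun y _ => Subgroup.mem_center_iff.1 hz y

/-- The variant without the condition on centrally large subgroups. -/
theorem exists_pair_frattini [Nontrivial S] (hS : IsPGroup p S) :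
    (Exc p S ∧ ∃ A ∈ maxAbelianSubgroups S, IsElementaryAbelian p A) ∨
      ∃ S₁ S₂ : Subgroup S, PairChar S₁ S₂ ∧ PushPair p S₁ S₂ := by
  rcases exists_pair hS with h | ⟨S₁, S₂, h1, -, h2⟩
  · by_cases hA : ∃ A ∈ maxAbelianSubgroups S, IsElementaryAbelian p A
    · exact Or.inl ⟨h, hA⟩
    push Not at hA
    obtain ⟨hT, hCL⟩ := tildeJ_top h.comm
    exact Or.inr ⟨_, _, pairChar_full hT (center_ne_bot' hS) (frattiniJoin_ne_bot hS hA) center_char
      (Subgroup.characteristic_iff_map_eq.2 fun φ => map_frattiniJoin φ p) le_rfl,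
      case_frattini hCL⟩
  · exact Or.inr ⟨S₁, S₂, h1, h2⟩

end CfsgLib.LocalEven.GN
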