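import Cfsg.Agent.Lib.LocalEven.SL2Natural

/-!
Recognition of the natural module of `SL₂(F)` from two opposite root groups: the swap condition
and Hua's identity give the field structure.
-/

set_option autoImplicit false

namespace CfsgLib.LocalEven.GN

open Matrix CfsgLib.Classical

variable {F : Type*} [Field F] [Finite F]

/-- Two additive maps into a ring, inverse to each other at reciprocal arguments, the first
normalised at one, give a ring homomorphism. -/
theorem mul_of_hua {R : Type*} [Ring R] (f σ : F →+ R) (h1 : f 1 = 1)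
    (hl : ∀ a : F, a ≠ 0 → σ a⁻¹ * f a = 1) (hr : ∀ a : F, a ≠ 0 → f a * σ a⁻¹ = 1) :
    (∀ a b, f (a * b) = f a * f b) ∧ σ = f := by
  have key : ∀ a b : F, f (a * b * a) = f a * σ b * f a := by
    intro a b
    rcases eq_or_ne a 0 with rfl | ha
    · simp
    rcases eq_or_ne b 0 with rfl | hb
    · simp
    rcases eq_or_ne (b⁻¹ - a) 0 with hc | hc
    · rw [sub_eq_zero] at hc
      rw [show b = a⁻¹ by rw [← hc, inv_inv], mul_inv_cancel₀ ha, one_mul, hr a ha, one_mul]
    set c := b⁻¹ - a with hcdef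
    have hx : (a - a * b * a) * (a⁻¹ + c⁻¹) = 1 := by
      have hc1 : 1 - a * b ≠ 0 := fun h => hc (by
        rw [hcdef]; field_simp; linear_combination h)
      rw [hcdef]; field_simp; ring
    have hy : a - a * b * a ≠ 0 := fun h => by rw [h, zero_mul] at hx; exact zero_ne_one hx
    have hinv : (a - a * b * a)⁻¹ = a⁻¹ + c⁻¹ := inv_eq_of_mul_eq_one_right hx
    have hbb : f b⁻¹ * σ b = 1 := by have := hr b⁻¹ (inv_ne_zero hb); rwa [inv_inv] at this
    have hfc : f c = f b⁻¹ - f a := map_sub f _ _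
    -- both `f (a - aba)` and `f a - f a σ b f a` are inverse to `σ (a⁻¹ + c⁻¹)`
    have h2 : f a - f a * σ b * f a = f c * σ b * f a := by
      rw [hfc, sub_mul, sub_mul, hbb, one_mul]
    have h3 : σ (a⁻¹ + c⁻¹) * (f a - f a * σ b * f a) = 1 := by
      rw [map_add, add_mul]
      conv_lhs => arg 2; rw [h2, ← mul_assoc, ← mul_assoc, hl c hc, one_mul]
      rw [mul_sub, ← mul_assoc, ← mul_assoc, hl a ha, one_mul, sub_add_cancel]
    have h4 : f (a - a * b * a) * σ (a⁻¹ + c⁻¹) = 1 := by rw [← hinv]; exact hr _ hy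
    have h5 := left_inv_eq_right_inv h4 h3
    rw [map_sub] at h5
    exact sub_right_injective h5
  have hσ : σ = f := AddMonoidHom.ext fun b => by
    have := key 1 b
    rw [one_mul, mul_one, h1, one_mul, mul_one] at this
    exact this.symm
  subst hσ
  refine ⟨?_, rfl⟩
  have hpow : ∀ (g : F) (n : ℕ), σ (g ^ n) = σ g ^ n := by
    intro g n
    induction n using Nat.twoStepInduction with
    | zero => simpa using h1
    | one => simp
    | more n ih _ =>
      rw [show g ^ (n + 2) = g * g ^ n * g by ring, key, ih, ← pow_succ', ← pow_succ]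
  intro a b
  rcases eq_or_ne a 0 with rfl | ha
  · simp
  rcases eq_or_ne b 0 with rfl | hb
  · simp
  obtain ⟨g, hg⟩ := IsCyclic.exists_monoid_generator (α := Fˣ)
  obtain ⟨i, hi⟩ := Submonoid.mem_powers_iff _ _ |>.1 (hg (Units.mk0 a ha))
  obtain ⟨j, hj⟩ := Submonoid.mem_powers_iff _ _ |>.1 (hg (Units.mk0 b hb))
  have ei : a = (g : F) ^ i := by rw [← Units.val_pow_eq_pow_val, hi, Units.val_mk0]
  have ej : b = (g : F) ^ j := by rw [← Units.val_pow_eq_pow_val, hj, Units.val_mk0]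
  rw [ei, ej, ← pow_add, hpow, hpow, hpow, pow_add]

section

variable {X M : Type*} [Group X] [AddCommGroup M] [Finite M] [DistribMulAction X M]

/-- Two root groups acting on two complementary subgroups like on the natural module, with monomial
elements exchanging the subgroups, have natural coordinates. -/
theorem exists_natural_coord (W0 W1 : AddSubgroup M) (hd : W0 ⊓ W1 = ⊥) (hs : W0 ⊔ W1 = ⊤)
    (hne : W1 ≠ ⊥) (hc : Nat.card W0 ≤ Nat.card F) (hc1 : Nat.card W0 ≤ Nat.card W1) (u l : F → X)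
    (hu0 : ∀ a, ∀ m ∈ W0, u a • m = m) (hu1 : ∀ a, ∀ m ∈ W1, u a • m - m ∈ W0)
    (huadd : ∀ a b, ∀ m : M, u (a + b) • m = u a • u b • m)
    (hinj : ∀ a, a ≠ 0 → ∀ m ∈ W1, u a • m = m → m = 0)
    (hl1 : ∀ a, ∀ m ∈ W1, l a • m = m) (hl0 : ∀ a, ∀ m ∈ W0, l a • m - m ∈ W1)
    (hladd : ∀ a b, ∀ m : M, l (a + b) • m = l a • l b • m)
    (hswap : ∀ a, a ≠ 0 → ∀ m ∈ W0, u a • l (-a⁻¹) • u a • m ∈ W1) :
    ∃ Φ : M ≃+ (Fin 2 → F), (∀ a m, Φ (u a • m) = (uSL a).1.mulVec (Φ m)) ∧
      (∀ a m, Φ (l a • m) = (lSL a).1.mulVec (Φ m)) := by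
  classical
  have hdis : ∀ m : M, m ∈ W0 → m ∈ W1 → m = 0 := fun m h0 h1 => by
    rw [← AddSubgroup.mem_bot, ← hd]; exact ⟨h0, h1⟩
  -- the displacements
  let φ : F →+ (W1 →+ W0) := AddMonoidHom.mk'
    (fun a => AddMonoidHom.mk' (fun m => ⟨u a • (m : M) - m, hu1 a m m.2⟩)
      fun m n => Subtype.ext (by
        show u a • ((m : M) + n) - ((m : M) + n) = (u a • (m : M) - m) + (u a • (n : M) - n)
        rw [smul_add]; abel))
    fun a b => AddMonoidHom.ext fun m => Subtype.ext (by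
      show u (a + b) • (m : M) - m = (u a • (m : M) - m) + (u b • (m : M) - m)
      rw [huadd]
      have := hu0 a _ (hu1 b m m.2)
      rw [smul_sub, sub_eq_iff_eq_add] at this
      rw [this]; abel)
  let ψ : F →+ (W0 →+ W1) := AddMonoidHom.mk'
    (fun a => AddMonoidHom.mk' (fun m => ⟨l a • (m : M) - m, hl0 a m m.2⟩)
      fun m n => Subtype.ext (by
        show l a • ((m : M) + n) - ((m : M) + n) = (l a • (m : M) - m) + (l a • (n : M) - n)
        rw [smul_add]; abel))
    fun a b => AddMonoidHom.ext fun m => Subtype.ext (by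
      show l (a + b) • (m : M) - m = (l a • (m : M) - m) + (l b • (m : M) - m)
      rw [hladd]
      have := hl1 a _ (hl0 b m m.2)
      rw [smul_sub, sub_eq_iff_eq_add] at this
      rw [this]; abel)
  have hφ : ∀ a, ∀ m : W1, u a • (m : M) = (φ a m : M) + m := fun a m => (sub_add_cancel _ _).symm
  have hψ : ∀ a, ∀ m : W0, l a • (m : M) = (ψ a m : M) + m := fun a m => (sub_add_cancel _ _).symm
  have hφinj : ∀ a, a ≠ 0 → Function.Injective (φ a) := fun a ha => by
    refine (injective_iff_map_eq_zero _).2 fun m hm => Subtype.ext (hinj a ha m m.2 ?_)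
    rw [hφ, hm, ZeroMemClass.coe_zero, zero_add]
  obtain ⟨m1, hm1⟩ : ∃ m : W1, m ≠ 0 := by
    obtain ⟨m, hm⟩ := W1.bot_or_exists_ne_zero.resolve_left hne
    exact ⟨⟨m, hm.1⟩, fun h => hm.2 (congrArg Subtype.val h)⟩
  have hφ1 : Function.Bijective (φ 1) :=
    (hφinj 1 one_ne_zero).bijective_of_nat_card_le hc1
  let e1 : W1 ≃+ W0 := AddEquiv.ofBijective (φ 1) hφ1
  -- the swap condition
  have hrel : ∀ a, a ≠ 0 → ∀ m : W0, φ a (ψ (-a⁻¹) m) = -m := fun a ha m => by
    have h := hswap a ha m m.2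
    rw [hu0 a m m.2, hψ, smul_add, hu0 a m m.2, hφ] at h
    have h' : ((φ a (ψ (-a⁻¹) m) : W0) : M) + m ∈ W1 := by
      have := W1.sub_mem h (ψ (-a⁻¹) m).2
      convert this using 1; abel
    refine eq_neg_of_add_eq_zero_left (Subtype.ext ?_)
    exact hdis _ (W0.add_mem (φ a (ψ (-a⁻¹) m)).2 m.2) h'
  let f : F →+ AddMonoid.End W0 := AddMonoidHom.mk'
    (fun a => (φ a).comp e1.symm.toAddMonoidHom) fun a b => by rw [map_add, AddMonoidHom.add_comp]; rfl
  let σ : F →+ AddMonoid.End W0 := AddMonoidHom.mk'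
    (fun a => (φ 1).comp (ψ a)) fun a b => by rw [map_add, AddMonoidHom.comp_add]; rfl
  have hr : ∀ a, a ≠ 0 → f a * σ a⁻¹ = 1 := fun a ha => AddMonoidHom.ext fun m => by
    show φ a (e1.symm (e1 (ψ a⁻¹ m))) = m
    have := hrel a ha m
    rw [map_neg ψ, AddMonoidHom.neg_apply, map_neg, neg_inj] at this
    rw [e1.symm_apply_apply]; exact this
  have hl : ∀ a, a ≠ 0 → σ a⁻¹ * f a = 1 := fun a ha => AddMonoidHom.ext fun m => by
    have hb : Function.Injective (f a) := fun x y h => e1.symm.injective (hφinj a ha h)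
    exact hb (DFunLike.congr_fun (hr a ha) (f a m))
  obtain ⟨hmul, hσ⟩ := mul_of_hua f σ
    (AddMonoidHom.ext fun m => e1.apply_symm_apply m) hl hr
  -- coordinates
  set w0 : W0 := e1 m1
  let ev : F →+ W0 := AddMonoidHom.mk' (fun a => f a w0) fun a b => by rw [map_add]; rfl
  have hev : Function.Bijective ev := by
    refine ((injective_iff_map_eq_zero ev).2 fun a ha => ?_).bijective_of_nat_card_le hc
    by_contra h
    exact hm1 (hφinj a h (by
      rw [map_zero, ← e1.symm_apply_apply m1]; exact ha))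
  have hevmul : ∀ a b, f a (ev b) = ev (a * b) := fun a b => by
    show f a (f b w0) = f (a * b) w0; rw [hmul]; rfl
  let Ψ : (Fin 2 → F) →+ M := AddMonoidHom.mk'
    (fun v => (ev (v 0) : M) + (e1.symm (ev (v 1)) : M)) fun v w => by
      simp only [Pi.add_apply, map_add, AddSubgroup.coe_add]; abel
  have hΨ : Function.Bijective Ψ := by
    refine ⟨(injective_iff_map_eq_zero Ψ).2 fun v hv => ?_, fun m => ?_⟩
    · have h0 : ((ev (v 0) : W0) : M) = 0 := hdis _ (ev (v 0)).2 (by
        rw [eq_neg_of_add_eq_zero_left hv]; exact W1.neg_mem (e1.symm _).2)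
      have h1 : ((e1.symm (ev (v 1)) : W1) : M) = 0 := by
        rw [show Ψ v = _ from rfl] at hv
        have := hv; simp only [AddMonoidHom.mk'_apply, Ψ, h0, zero_add] at this; exact this
      funext i
      fin_cases i
      · exact hev.1 (by rw [Pi.zero_apply, map_zero]; exact Subtype.ext h0)
      · exact hev.1 (by
          rw [Pi.zero_apply, map_zero, ← e1.symm.map_eq_zero_iff]; exact Subtype.ext h1)
    · obtain ⟨x, hx, y, hy, rfl⟩ := AddSubgroup.mem_sup.1 (hs ▸ AddSubgroup.mem_top m)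
      obtain ⟨a, ha⟩ := hev.2 ⟨x, hx⟩
      obtain ⟨b, hb⟩ := hev.2 (e1 ⟨y, hy⟩)
      exact ⟨![a, b], by simp [Ψ, ha, hb]⟩
  let Φ := (AddEquiv.ofBijective Ψ hΨ).symm
  have hval : ∀ m, m = ((ev (Φ m 0) : W0) : M) + ((e1.symm (ev (Φ m 1)) : W1) : M) := fun m =>
    ((AddEquiv.ofBijective Ψ hΨ).apply_symm_apply m).symm
  refine ⟨Φ, fun a m => ?_, fun a m => ?_⟩
  · refine (AddEquiv.ofBijective Ψ hΨ).injective ?_
    rw [AddEquiv.apply_symm_apply]
    conv_lhs => rw [hval m, smul_add, hu0 a _ (ev (Φ m 0)).2, hφ]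
    show _ = ((ev _ : W0) : M) + ((e1.symm (ev _) : W1) : M)
    have hcoe : φ a (e1.symm (ev (Φ m 1))) = ev (a * Φ m 1) := hevmul a _
    rw [hcoe]
    simp [uSL_coe, Matrix.mulVec, dotProduct, Fin.sum_univ_two, add_assoc]
  · refine (AddEquiv.ofBijective Ψ hΨ).injective ?_
    rw [AddEquiv.apply_symm_apply]
    conv_lhs => rw [hval m, smul_add, hl1 a _ (e1.symm (ev (Φ m 1))).2, hψ]
    show _ = ((ev _ : W0) : M) + ((e1.symm (ev _) : W1) : M)
    have hcoe : ψ a (ev (Φ m 0)) = e1.symm (ev (a * Φ m 0)) := by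
      rw [e1.eq_symm_apply, ← hevmul, ← hσ]; rfl
    rw [hcoe]
    simp [lSL_coe, Matrix.mulVec, dotProduct, Fin.sum_univ_two]
    abel

end

end CfsgLib.LocalEven.GN
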