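import Cfsg.Agent.Lib.LocalEven.GN.HD
import Cfsg.Agent.Lib.LocalEven.GN.Recog
import Cfsg.Agent.Lib.Coprime.Action2

/-!
Sections of `O_p(G)` on which `G` acts like on the natural module.
-/

set_option autoImplicit false
set_option linter.unusedSectionVars false

namespace CfsgLib.LocalEven.GN

open Cfsg Matrix CfsgLib.Classical
open scoped commutatorElement
open CD (cj cen zOf)

universe u

variable {p : ℕ} [Fact p.Prime] {S : Type u} [Group S] [Finite S]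

/-- A parametrisation of `S / T` by a field, compatible with a map onto `PSL₂`. -/
structure Par (E : Emb p S) (F : Type) [Field F] where
  K : Subgroup E.G
  normal : K.Normal
  T_le : E.T0 ≤ K
  inter : ∀ s : S, E.ι s ∈ K → s ∈ E.T
  ne_top : K ⊔ E.ι.range ≠ ⊤
  uniq : ∃! M : Subgroup E.G, IsCoatom M ∧ E.ι.range ≤ M
  θ : S → F
  θ_mul : ∀ s t, θ (s * t) = θ s + θ t
  θ_surj : Function.Surjective θ
  θ_eq : ∀ s, θ s = 0 ↔ s ∈ E.T
  card_eq : ∃ n, Nat.card F = p ^ n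
  /-- monomial elements -/
  swap : ∀ s t : S, θ s ≠ 0 → θ t = (θ s)⁻¹ → ∀ R : Subgroup E.G, E.ι.range ≤ R →
    Subgroup.normalizer (E.ι.range : Set E.G) ≤ R → K ≤ R →
      E.g0⁻¹ * (E.ι s * (E.g0 * E.ι t * E.g0⁻¹) * E.ι s) ∈ R

/-- A section of `T` with the fixed points of `S` known. -/
structure Sect (E : Emb p S) (A B Z0 : Subgroup S) : Prop where
  invA : E.Inv A
  invB : E.Inv B
  le₁ : B ≤ Z0
  le₂ : Z0 ≤ A
  irred : ∀ N : Subgroup S, E.Inv N → B ≤ N → N ≤ A → N = B ∨ N = A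
  comm₁ : ∀ a ∈ A, ∀ s : S, ⁅a, s⁆ ∈ Z0
  comm₂ : ∀ z ∈ Z0, ∀ s : S, ⁅z, s⁆ ∈ B
  fixed : ∀ a ∈ A, ∀ s : S, s ∉ E.T → ⁅a, s⁆ ∈ B → a ∈ Z0
  card : Nat.card Z0 * Nat.card E.T ≤ Nat.card S * Nat.card B
  ne : ¬ A ≤ Z0

namespace Sect

variable {E : Emb p S} {A B Z0 : Subgroup S} (D : Sect E A B Z0)
include D

theorem le : B ≤ A := D.le₁.trans D.le₂

theorem not_Z0_le : ¬ Z0 ≤ B := fun h => by
  obtain ⟨s, hs⟩ := E.exists_notMem
  exact D.ne fun a ha => D.fixed a ha s hs (h (D.comm₁ a ha s))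

theorem conj_Z0 {z : S} (hz : z ∈ Z0) (s : S) : s * z * s⁻¹ ∈ Z0 := by
  have h := mul_mem (inv_mem (D.le₁ (D.comm₂ z hz s))) hz
  rw [commutatorElement_inv] at h
  convert h using 1
  group

/-- `R` is the stabiliser of `Z0`. -/
theorem mem_stab {h : E.G} (hh : ∀ z ∈ Z0, E.c h z ∈ Z0) :
    h ∈ Subgroup.normalizer ((Z0.map E.ι : Subgroup E.G) : Set E.G) := by
  rw [Subgroup.mem_normalizer_iff_map_conj_eq]
  refine Subgroup.eq_of_le_of_card_ge ?_ (CD.card_cj h _).ge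
  rintro _ ⟨_, ⟨z, hz, rfl⟩, rfl⟩
  exact ⟨_, hh z hz, E.ι_c (D.invA.1 (D.le₂ hz)) h⟩

theorem c_mem_of_stab {h : E.G}
    (hh : h ∈ Subgroup.normalizer ((Z0.map E.ι : Subgroup E.G) : Set E.G)) {z : S} (hz : z ∈ Z0) :
    E.c h z ∈ Z0 := by
  refine (Subgroup.mem_map_iff_mem E.inj).1 ?_
  rw [E.ι_c (D.invA.1 (D.le₂ hz))]
  exact (Subgroup.mem_normalizer_iff.1 hh _).1 ⟨z, hz, rfl⟩

theorem range_le_stab :
    E.ι.range ≤ Subgroup.normalizer ((Z0.map E.ι : Subgroup E.G) : Set E.G) := by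
  rintro _ ⟨s, rfl⟩
  exact D.mem_stab fun z hz => by rw [E.c_ι (D.invA.1 (D.le₂ hz))]; exact D.conj_Z0 hz s

/-- An element carrying some element outside `T` back into `S` stabilises the fixed points. -/
theorem stab_of_conj {h : E.G} {s s' : S} (hs : s ∉ E.T) (e : E.ι s * h = h * E.ι s') :
    h ∈ Subgroup.normalizer ((Z0.map E.ι : Subgroup E.G) : Set E.G) := by
  refine D.mem_stab fun z hz => D.fixed _ (D.invA.2 h z (D.le₂ hz)) s hs ?_
  have hzT := D.invA.1 (D.le₂ hz)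
  have h1 : ⁅z, s'⁆ ∈ E.T := D.invB.1 (D.comm₂ z hz s')
  have h2 := D.invB.2 h _ (D.comm₂ z hz s')
  convert h2 using 1
  apply E.inj
  rw [map_commutatorElement, E.ι_c hzT, E.ι_c h1, map_commutatorElement,
    show E.ι s = h * E.ι s' * h⁻¹ by rw [← e]; group]
  simp only [commutatorElement_def]; group

theorem normalizer_le_stab :
    Subgroup.normalizer (E.ι.range : Set E.G) ≤
      Subgroup.normalizer ((Z0.map E.ι : Subgroup E.G) : Set E.G) := by
  intro h hh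
  obtain ⟨b, hb⟩ := E.exists_notMem
  have hh' := Subgroup.inv_mem _ hh
  obtain ⟨s', hs'⟩ : h⁻¹ * E.ι b * h⁻¹⁻¹ ∈ E.ι.range :=
    (Subgroup.mem_normalizer_iff.1 hh' _).1 ⟨b, rfl⟩
  exact D.stab_of_conj hb (show E.ι b * h = h * E.ι s' by rw [hs']; group)

/-- `T` centralises the section. -/
theorem comm_T {a : S} (ha : a ∈ A) {t : S} (ht : t ∈ E.T) : ⁅a, t⁆ ∈ B := by
  have hBn := Emb.Inv.map_normal E D.invB
  set q := QuotientGroup.mk' (B.map E.ι)
  have hT := E.setup.normal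
  have hTq : (E.T0.map q).Normal := hT.map q (QuotientGroup.mk'_surjective _)
  have hC : ((Subgroup.centralizer ((E.T0.map q : Subgroup _) : Set _)).comap q).Normal :=
    (Push.cen_normal hTq).comap q
  let N : Subgroup S := A ⊓
    ((Subgroup.centralizer ((E.T0.map q : Subgroup _) : Set _)).comap q).comap E.ι
  have hmem : ∀ x ∈ A, (x ∈ N ↔ ∀ u ∈ E.T, ⁅x, u⁆ ∈ B) := by
    intro x hx
    refine ⟨fun h u hu => ?_, fun h => ⟨hx, ?_⟩⟩
    · refine (Subgroup.mem_map_iff_mem E.inj).1 ((QuotientGroup.eq_one_iff _).1 ?_)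
      rw [← QuotientGroup.mk'_apply, map_commutatorElement, map_commutatorElement,
        commutatorElement_eq_one_iff_mul_comm]
      exact (h.2 _ ⟨E.ι u, hu, rfl⟩).symm
    · rintro _ ⟨t0, ht0, rfl⟩
      obtain ⟨u, hu, rfl⟩ : t0 ∈ E.T.map E.ι := by rw [E.T0_eq]; exact ht0
      refine (commutatorElement_eq_one_iff_mul_comm.1 ?_).symm
      rw [← map_commutatorElement, ← map_commutatorElement, QuotientGroup.mk'_apply,
        QuotientGroup.eq_one_iff]
      exact ⟨_, h u hu, rfl⟩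
  have hN : E.Inv N := by
    refine ⟨inf_le_left.trans D.invA.1, fun g x hx => ⟨D.invA.2 g x hx.1, ?_⟩⟩
    show E.ι (E.c g x) ∈ (Subgroup.centralizer ((E.T0.map q : Subgroup _) : Set _)).comap q
    rw [E.ι_c (D.invA.1 hx.1)]
    exact hC.conj_mem _ hx.2 g
  rcases D.irred N hN (fun x hx => (hmem x (D.le hx)).2 fun u _ => D.comm₂ x (D.le₁ hx) u)
    inf_le_left with h | h
  · refine absurd (fun z hz => ?_) D.not_Z0_le
    rw [← h]
    exact (hmem z (D.le₂ hz)).2 fun u _ => D.comm₂ z hz u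
  · exact (hmem a ha).1 (h ▸ ha) t ht

/-- The two fixed-point groups meet in the bottom. -/
theorem mem_B_of_fixed {a : S} (ha : a ∈ A) (h : ∀ g : E.G, E.c g a * a⁻¹ ∈ B) : a ∈ B := by
  have hBn := Emb.Inv.map_normal E D.invB
  set q := QuotientGroup.mk' (B.map E.ι)
  let N : Subgroup S := A ⊓ ((Subgroup.center (E.G ⧸ B.map E.ι)).comap q).comap E.ι
  have hmem : ∀ x ∈ A, (x ∈ N ↔ ∀ g : E.G, E.c g x * x⁻¹ ∈ B) := by
    intro x hx
    have hxT := D.invA.1 hx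
    have e : ∀ g, E.c g x * x⁻¹ ∈ B ↔ q g * q (E.ι x) = q (E.ι x) * q g := fun g => by
      rw [← Subgroup.mem_map_iff_mem E.inj, map_mul, map_inv, E.ι_c hxT,
        ← commutatorElement_def, ← QuotientGroup.eq_one_iff, ← QuotientGroup.mk'_apply,
        map_commutatorElement, commutatorElement_eq_one_iff_mul_comm]
    refine ⟨fun h g => (e g).2 (Subgroup.mem_center_iff.1 h.2 _), fun h => ⟨hx, ?_⟩⟩
    refine Subgroup.mem_center_iff.2 fun y => ?_
    obtain ⟨g, rfl⟩ := QuotientGroup.mk'_surjective _ y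
    exact (e g).1 (h g)
  have hN : E.Inv N := by
    refine ⟨inf_le_left.trans D.invA.1, fun g x hx => ⟨D.invA.2 g x hx.1, ?_⟩⟩
    show E.ι (E.c g x) ∈ (Subgroup.center (E.G ⧸ B.map E.ι)).comap q
    rw [E.ι_c (D.invA.1 hx.1)]
    exact (inferInstance : ((Subgroup.center (E.G ⧸ B.map E.ι)).comap q).Normal).conj_mem _ hx.2 g
  rcases D.irred N hN (fun x hx => (hmem x (D.le hx)).2 (E.fx_of_mem D.invB hx)) inf_le_left
    with h' | h'
  · exact h' ▸ (hmem a ha).2 h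
  · refine absurd (fun x hx => ?_) D.ne
    obtain ⟨s, hs⟩ := E.exists_notMem
    refine D.fixed x hx s hs ?_
    have h1 := (hmem x hx).1 (h'.symm ▸ hx) (E.ι s)
    rw [E.c_ι (D.invA.1 hx)] at h1
    rw [← commutatorElement_inv]
    exact inv_mem h1

end Sect

namespace Par

variable {E : Emb p S} {F : Type} [Field F] [Finite F] (Q : Par E F)
include Q

theorem θ_one : Q.θ 1 = 0 := (Q.θ_eq 1).2 (one_mem _)

theorem θ_inv (s : S) : Q.θ s⁻¹ = -Q.θ s := by
  refine eq_neg_of_add_eq_zero_left ?_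
  rw [← Q.θ_mul, inv_mul_cancel]; exact Q.θ_one

theorem θ_congr {s t : S} (h : Q.θ s = Q.θ t) : s⁻¹ * t ∈ E.T := by
  rw [← Q.θ_eq, Q.θ_mul, Q.θ_inv, h, neg_add_cancel]

theorem card_S : Nat.card S = Nat.card F * Nat.card E.T := by
  let φ : S →* Multiplicative F :=
    MonoidHom.mk' (fun s => Multiplicative.ofAdd (Q.θ s)) fun s t => by rw [Q.θ_mul]; rfl
  have hker : φ.ker = E.T := by ext s; exact Q.θ_eq s
  rw [Subgroup.card_eq_card_quotient_mul_card_subgroup φ.ker,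
    Nat.card_congr (QuotientGroup.quotientKerEquivOfSurjective φ (fun x => Q.θ_surj x)).toEquiv,
    hker]
  rfl

end Par

namespace Sect

variable {E : Emb p S} {A B Z0 : Subgroup S} (D : Sect E A B Z0)
variable {F : Type} [Field F] [Finite F] (Q : Par E F)
include D Q

theorem card_Z0_le : Nat.card Z0 ≤ Nat.card F * Nat.card B := by
  refine Nat.le_of_mul_le_mul_right ?_ (Nat.card_pos (α := E.T))
  refine D.card.trans (le_of_eq ?_)
  rw [Q.card_S]; ring

/-- `K` stabilises the fixed points: the case of more than `p` of them. -/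
theorem K_le_stab_of_card_ne (h : Nat.card F ≠ p) :
    Q.K ≤ Subgroup.normalizer ((Z0.map E.ι : Subgroup E.G) : Set E.G) := by
  classical
  have := Q.normal
  have := E.setup.normal
  set q0 := QuotientGroup.mk' E.T0
  set R := Subgroup.normalizer ((Z0.map E.ι : Subgroup E.G) : Set E.G)
  have hT0R : E.T0 ≤ R := E.setup.le.trans D.range_le_stab
  set A0 := E.ι.range.map q0
  have hAc : IsMulCommutative A0 := ⟨⟨by
    rintro ⟨_, a, ha, rfl⟩ ⟨_, b, hb, rfl⟩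
    refine Subtype.ext ?_
    show q0 a * q0 b = q0 b * q0 a
    rw [← commutatorElement_eq_one_iff_mul_comm, ← map_commutatorElement, QuotientGroup.mk'_apply,
      QuotientGroup.eq_one_iff]
    exact E.setup.comm (Subgroup.commutator_mem_commutator ha hb)⟩⟩
  have hsec : ∀ a, Q.θ (Function.surjInv Q.θ_surj a) = a := Function.surjInv_eq Q.θ_surj
  have hnc : ¬ IsCyclic A0 := by
    intro hc
    obtain ⟨⟨_, x, hx, rfl⟩, hgen⟩ := hc.exists_generator
    refine h (le_antisymm ?_ ?_)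
    · have h1 : Nat.card F ≤ Nat.card A0 := by
        refine Nat.card_le_card_of_injective
          (fun a => (⟨q0 (E.ι (Function.surjInv Q.θ_surj a)), ⟨_, ⟨_, rfl⟩, rfl⟩⟩ : A0)) ?_
        intro a b hab
        have h2 : q0 (E.ι (Function.surjInv Q.θ_surj a)) =
            q0 (E.ι (Function.surjInv Q.θ_surj b)) := congrArg Subtype.val hab
        rw [QuotientGroup.mk'_apply, QuotientGroup.mk'_apply, QuotientGroup.eq, ← map_inv,
          ← map_mul] at h2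
        have h3 := (Q.θ_eq _).2 h2
        rw [Q.θ_mul, Q.θ_inv, hsec, hsec, neg_add_eq_zero] at h3
        exact h3
      refine h1.trans ?_
      have h4 : (⊤ : Subgroup A0) = Subgroup.zpowers _ := (eq_top_iff.2 fun y _ => hgen y).symm
      rw [← Subgroup.card_top (G := A0), h4, Nat.card_zpowers]
      refine orderOf_le_of_pow_eq_one (Fact.out : p.Prime).pos (Subtype.ext ?_)
      show q0 x ^ p = 1
      rw [← map_pow, QuotientGroup.mk'_apply, QuotientGroup.eq_one_iff]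
      exact E.setup.pow x hx
    · obtain ⟨n, hn⟩ := Q.card_eq
      have hF : 1 < Nat.card F := Finite.one_lt_card
      rw [hn] at hF ⊢
      rcases n with _ | n
      · simp at hF
      · exact Nat.le_self_pow (Nat.succ_ne_zero n) p
  have hAK : A0 ≤ Subgroup.normalizer ((Q.K.map q0 : Subgroup _) : Set _) := by
    rw [Subgroup.normalizer_eq_top_iff.2
      (Q.normal.map q0 (QuotientGroup.mk'_surjective _))]
    exact le_top
  -- `K / T` is prime to `p`
  have hKp : ¬ p ∣ Nat.card ↥(Q.K.map q0) := by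
    intro hd
    obtain ⟨⟨_, k, hk, rfl⟩, hx⟩ := exists_prime_orderOf_dvd_card' p hd
    have hx1 : q0 k ≠ 1 := fun h1 => (Fact.out : p.Prime).ne_one (by
      rw [← hx, ← Subgroup.orderOf_coe]
      exact orderOf_eq_one_iff.2 h1)
    have hkp : k ^ p ∈ E.T0 := by
      have h2 := pow_orderOf_eq_one (⟨q0 k, _, hk, rfl⟩ : ↥(Q.K.map q0))
      rw [hx] at h2
      rw [← QuotientGroup.eq_one_iff, ← QuotientGroup.mk'_apply, map_pow]
      exact congrArg Subtype.val h2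
    obtain ⟨P, hP⟩ := E.syl
    obtain ⟨m, hm⟩ := (E.setup.isP.to_le E.setup.le) ⟨_, hkp⟩
    have hm' : k ^ p ^ (m + 1) = 1 := by
      rw [pow_succ', pow_mul]; exact congrArg Subtype.val hm
    have hz : IsPGroup p (Subgroup.zpowers k) := by
      rintro ⟨_, j, rfl⟩
      refine ⟨m + 1, Subtype.ext ?_⟩
      show (k ^ j) ^ p ^ (m + 1) = 1
      rw [← zpow_natCast, ← _root_.zpow_mul, mul_comm, _root_.zpow_mul, zpow_natCast, hm', _root_.one_zpow]
    obtain ⟨P', hP'⟩ := hz.exists_le_sylow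
    obtain ⟨g, rfl⟩ := MulAction.exists_smul_eq E.G P P'
    obtain ⟨y, hy, rfl⟩ :=
      CfsgLib.Classical.mem_sylow_smul (p := p) |>.1 (hP' (Subgroup.mem_zpowers k))
    rw [hP] at hy
    obtain ⟨s, rfl⟩ := hy
    have hsK : E.ι s ∈ Q.K := by
      have h3 := Q.normal.conj_mem _ hk g⁻¹
      simpa [mul_assoc] using h3
    refine hx1 ((QuotientGroup.eq_one_iff _).2 ?_)
    exact E.setup.normal.conj_mem _ (Q.inter s hsK) g
  have hA0p : IsPGroup p A0 := E.setup.isP.map q0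
  obtain ⟨i, hi⟩ := IsPGroup.iff_card.1 hA0p
  have hcop : (Nat.card A0).Coprime (Nat.card ↥(Q.K.map q0)) := by
    rw [hi]
    exact ((Fact.out : p.Prime).coprime_iff_not_dvd.2 hKp).pow_left i
  have hkey : Q.K.map q0 ≤ R.map q0 := by
    refine Coprime.le_of_centralizer_le_of_not_isCyclic hnc hAK hcop ?_
    rintro _ ⟨x, hx, rfl⟩ hx1 _ ⟨⟨k, hk, rfl⟩, hkc⟩
    obtain ⟨s, rfl⟩ := hx
    refine ⟨k, ?_, rfl⟩
    have hs : s ∉ E.T := fun h1 => hx1 ((QuotientGroup.eq_one_iff _).2 h1)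
    have h4 : q0 ((E.ι s)⁻¹ * (k⁻¹ * E.ι s * k)) = 1 := by
      have h5 := Subgroup.mem_centralizer_singleton_iff.1 hkc
      simp only [map_mul, map_inv]
      rw [mul_assoc (q0 k)⁻¹, ← h5]; group
    rw [QuotientGroup.mk'_apply, QuotientGroup.eq_one_iff] at h4
    obtain ⟨t, -, ht⟩ : (E.ι s)⁻¹ * (k⁻¹ * E.ι s * k) ∈ E.T.map E.ι := by rw [E.T0_eq]; exact h4
    exact D.stab_of_conj hs (show E.ι s * k = k * E.ι (s * t) by rw [map_mul, ht]; group)
  intro k hk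
  obtain ⟨r, hr, he⟩ := hkey ⟨k, hk, rfl⟩
  have := mul_mem hr (hT0R ((QuotientGroup.eq (s := E.T0)).1 he))
  rwa [mul_inv_cancel_left] at this

omit Q in
/-- An element fixed by `S` and by its opposite conjugate lies in the bottom. -/
theorem mem_B_of_two {a : S} (ha : a ∈ Z0) (ha' : a ∈ E.cs E.g0 Z0) : a ∈ B := by
  have hBn := Emb.Inv.map_normal E D.invB
  set q := QuotientGroup.mk' (B.map E.ι)
  have hZT : Z0 ≤ E.T := D.le₂.trans D.invA.1
  set C := (Subgroup.centralizer ({q (E.ι a)} : Set (E.G ⧸ B.map E.ι))).comap q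
  have hmem : ∀ h : E.G, h ∈ C ↔ E.c h a * a⁻¹ ∈ B := fun h => by
    rw [Subgroup.mem_comap, Subgroup.mem_centralizer_singleton_iff,
      ← Subgroup.mem_map_iff_mem E.inj, map_mul, map_inv, E.ι_c (hZT ha),
      ← commutatorElement_def, ← QuotientGroup.eq_one_iff, ← QuotientGroup.mk'_apply,
      map_commutatorElement, commutatorElement_eq_one_iff_mul_comm]
  obtain ⟨b, hb⟩ := E.exists_notMem
  have hS : ∀ s, E.ι s ∈ C := fun s => by
    rw [hmem, E.c_ι (hZT ha), ← commutatorElement_def, ← commutatorElement_inv]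
    exact inv_mem (D.comm₂ a ha s)
  obtain ⟨z, hz, rfl⟩ := (E.mem_cs hZT).1 ha'
  refine D.mem_B_of_fixed (D.le₂ ha) fun h => (hmem h).1 ?_
  suffices C = ⊤ from this ▸ Subgroup.mem_top h
  refine E.gen _ ⟨b, rfl⟩ hb C (hS b) ?_
  rintro _ ⟨_, ⟨s, rfl⟩, rfl⟩
  rw [hmem, MulEquiv.coe_toMonoidHom, MulAut.conj_apply]
  have h1 := D.invB.2 E.g0 _ (inv_mem (D.comm₂ z hz s))
  rw [commutatorElement_inv] at h1
  convert h1 using 1
  apply E.inj
  rw [map_mul, map_inv, E.ι_c (hZT ha), E.ι_c (hZT hz),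
    E.ι_c (by rw [← commutatorElement_inv]; exact inv_mem (D.invB.1 (D.comm₂ z hz s))),
    map_commutatorElement]
  simp only [commutatorElement_def]; group

omit Q in
/-- The two fixed-point groups span the section. -/
theorem exists_decomp {a : S} (ha : a ∈ A) :
    ∃ z ∈ Z0, ∃ e ∈ Z0, z * E.c E.g0 e = a := by
  have hZT : Z0 ≤ E.T := D.le₂.trans D.invA.1
  have hcs : E.cs E.g0 Z0 ≤ A := fun x hx => by
    obtain ⟨r, hr, rfl⟩ := (E.mem_cs hZT).1 hx
    exact D.invA.2 _ r (D.le₂ hr)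
  set N := Z0 ⊔ E.cs E.g0 Z0 with hN
  have hNA : N ≤ A := sup_le D.le₂ hcs
  have hNT := hNA.trans D.invA.1
  obtain ⟨b, hb⟩ := E.exists_notMem
  have hS : ∀ s : S, ∀ x ∈ N, s * x * s⁻¹ ∈ N := fun s x hx => by
    have h1 : (⁅x, s⁆)⁻¹ * x ∈ N :=
      mul_mem (inv_mem (Subgroup.mem_sup_left (D.comm₁ x (hNA hx) s))) hx
    convert h1 using 1
    group
  set R := Subgroup.normalizer ((N.map E.ι : Subgroup E.G) : Set E.G)
  have hR : ∀ h : E.G, (∀ x ∈ N, E.c h x ∈ N) → h ∈ R := fun h hh => by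
    rw [Subgroup.mem_normalizer_iff_map_conj_eq]
    refine Subgroup.eq_of_le_of_card_ge ?_ (CD.card_cj h _).ge
    rintro _ ⟨_, ⟨x, hx, rfl⟩, rfl⟩
    exact ⟨_, hh x hx, E.ι_c (hNT hx) h⟩
  have htop : R = ⊤ := by
    refine E.gen _ ⟨b, rfl⟩ hb R (hR _ fun x hx => by rw [E.c_ι (hNT hx)]; exact hS b x hx) ?_
    rintro _ ⟨_, ⟨s, rfl⟩, rfl⟩
    refine hR _ fun x hx => ?_
    have hxA := hNA hx
    have hxT := hNT hx
    set a' := E.c E.g0⁻¹ x
    have ha' : a' ∈ A := D.invA.2 _ x hxA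
    have h1 : E.c E.g0 ⁅a', s⁆ ∈ N := Subgroup.mem_sup_right (E.c_mem_cs hZT _ (D.comm₁ a' ha' s))
    convert mul_mem (inv_mem h1) hx using 1
    apply E.inj
    rw [MulEquiv.coe_toMonoidHom, MulAut.conj_apply, E.ι_c hxT, map_mul, map_inv,
      E.ι_c (hZT (D.comm₁ a' ha' s)), map_commutatorElement, E.ι_c hxT]
    simp only [commutatorElement_def]; group
  have hNi : E.Inv N := ⟨hNT, fun h x hx => by
    refine (Subgroup.mem_map_iff_mem E.inj).1 ?_
    rw [E.ι_c (hNT hx)]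
    exact (Subgroup.mem_normalizer_iff.1 (show h ∈ R from htop ▸ Subgroup.mem_top h) _).1 ⟨x, hx, rfl⟩⟩
  have hNe : N = A := by
    refine (D.irred N hNi (D.le₁.trans le_sup_left) hNA).resolve_left fun h => ?_
    exact D.not_Z0_le (h ▸ le_sup_left)
  have hnorm : E.cs E.g0 Z0 ≤ Subgroup.normalizer (Z0 : Set S) := by
    intro x _
    rw [Subgroup.normalizer_eq_top_iff.2 (⟨fun z hz s => D.conj_Z0 hz s⟩ : Z0.Normal)]
    trivial
  rw [← hNe, ← SetLike.mem_coe, hN, Subgroup.coe_mul_of_right_le_normalizer_left _ _ hnorm] at ha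
  obtain ⟨z, hz, x, hx, rfl⟩ := ha
  obtain ⟨e, he, rfl⟩ := (E.mem_cs hZT).1 hx
  exact ⟨z, hz, e, he, rfl⟩

/-- The section with the action of the ambient group is the natural module. -/
theorem exists_rep : ∃ (ρ : E.G →* Matrix.SpecialLinearGroup (Fin 2) F) (f : S → (Fin 2 → F)),
    (∀ a ∈ A, ∀ b ∈ A, f (a * b) = f a + f b) ∧ (∀ a ∈ A, (f a = 0 ↔ a ∈ B)) ∧
    (∀ v, ∃ a ∈ A, f a = v) ∧ (∀ h, ∀ a ∈ A, f (E.c h a) = (ρ h).1.mulVec (f a)) ∧
    (∀ s, ρ (E.ι s) = uSL (Q.θ s)) ∧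
    (∀ s, ρ (E.g0 * E.ι s * E.g0⁻¹) = lSL (-Q.θ s)) := by
  classical
  have hBn := Emb.Inv.map_normal E D.invB
  set q := QuotientGroup.mk' (B.map E.ι)
  have hqs : Function.Surjective q := QuotientGroup.mk'_surjective _
  have hZT : Z0 ≤ E.T := D.le₂.trans D.invA.1
  set Wg := (A.map E.ι).map q with hWg
  have hWn : Wg.Normal := (Emb.Inv.map_normal E D.invA).map q hqs
  have hq : ∀ a ∈ A, ∀ b ∈ A, (q (E.ι a) = q (E.ι b) ↔ a⁻¹ * b ∈ B) := fun a _ b _ => by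
    rw [QuotientGroup.mk'_apply, QuotientGroup.mk'_apply, QuotientGroup.eq, ← map_inv, ← map_mul,
      Subgroup.mem_map_iff_mem E.inj]
  have hWc : ∀ x ∈ Wg, ∀ y ∈ Wg, x * y = y * x := by
    rintro _ ⟨_, ⟨a, ha, rfl⟩, rfl⟩ _ ⟨_, ⟨b, hb, rfl⟩, rfl⟩
    rw [← commutatorElement_eq_one_iff_mul_comm, ← map_commutatorElement, ← map_commutatorElement,
      QuotientGroup.mk'_apply, QuotientGroup.eq_one_iff]
    exact ⟨_, D.comm_T ha (D.invA.1 hb), rfl⟩
  letI : CommGroup ↥Wg :=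
    { (inferInstance : Group ↥Wg) with mul_comm := fun x y => Subtype.ext (hWc x x.2 y y.2) }
  letI act : DistribMulAction E.G (Additive ↥Wg) :=
    { smul := fun h m => Additive.ofMul
        ⟨q h * ((Additive.toMul m : ↥Wg) : E.G ⧸ B.map E.ι) * (q h)⁻¹,
        hWn.conj_mem _ (Additive.toMul m).2 _⟩
      one_smul := fun m => Additive.toMul.injective (Subtype.ext (by
        show q 1 * _ * (q 1)⁻¹ = _; simp))
      mul_smul := fun h k m => Additive.toMul.injective (Subtype.ext (by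
        show q (h * k) * _ * (q (h * k))⁻¹ = q h * (q k * _ * (q k)⁻¹) * (q h)⁻¹
        rw [map_mul]; group))
      smul_zero := fun h => Additive.toMul.injective (Subtype.ext (by
        show q h * ((1 : ↥Wg) : E.G ⧸ _) * (q h)⁻¹ = 1; simp))
      smul_add := fun h m n => Additive.toMul.injective (Subtype.ext (by
        show q h * (((Additive.toMul m : ↥Wg) : E.G ⧸ B.map E.ι) *
            ((Additive.toMul n : ↥Wg) : E.G ⧸ B.map E.ι)) * (q h)⁻¹ =
          q h * ((Additive.toMul m : ↥Wg) : E.G ⧸ B.map E.ι) * (q h)⁻¹ *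
            (q h * ((Additive.toMul n : ↥Wg) : E.G ⧸ B.map E.ι) * (q h)⁻¹)
        group)) }
  let w : S → Additive ↥Wg := fun a =>
    if ha : a ∈ A then Additive.ofMul ⟨q (E.ι a), ⟨_, ⟨a, ha, rfl⟩, rfl⟩⟩ else 0
  have hw : ∀ a (ha : a ∈ A), ((Additive.toMul (w a) : ↥Wg) : E.G ⧸ B.map E.ι) = q (E.ι a) :=
    fun a ha => by simp only [w, dif_pos ha, toMul_ofMul]
  have hw_mul : ∀ a ∈ A, ∀ b ∈ A, w (a * b) = w a + w b := fun a ha b hb => by
    refine Additive.toMul.injective (Subtype.ext ?_)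
    rw [toMul_add, Subgroup.coe_mul, hw _ (mul_mem ha hb), hw a ha, hw b hb, map_mul, map_mul]
  have hw_eq : ∀ a ∈ A, ∀ b ∈ A, (w a = w b ↔ a⁻¹ * b ∈ B) := fun a ha b hb => by
    rw [← hq a ha b hb, ← hw a ha, ← hw b hb]
    exact ⟨fun h => by rw [h], fun h => Additive.toMul.injective (Subtype.ext h)⟩
  have hw_zero : ∀ a ∈ A, (w a = 0 ↔ a ∈ B) := fun a ha => by
    have h1 : w 1 = 0 := by
      have := hw_mul 1 (one_mem _) 1 (one_mem _)
      rw [one_mul] at this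
      exact left_eq_add.1 this
    rw [← h1, hw_eq a ha 1 (one_mem _), mul_one, inv_mem_iff]
  have hw_surj : ∀ m, ∃ a ∈ A, w a = m := fun m => by
    obtain ⟨_, ⟨a, ha, rfl⟩, he⟩ := (Additive.toMul m).2
    exact ⟨a, ha, Additive.toMul.injective (Subtype.ext ((hw a ha).trans he))⟩
  have hw_smul : ∀ h, ∀ a ∈ A, h • w a = w (E.c h a) := fun h a ha => by
    refine Additive.toMul.injective (Subtype.ext ?_)
    show q h * ((Additive.toMul (w a) : ↥Wg) : E.G ⧸ B.map E.ι) * (q h)⁻¹ = _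
    rw [hw a ha, hw _ (D.invA.2 h a ha), E.ι_c (D.invA.1 ha), map_mul, map_mul, map_inv]
  -- the two fixed-point groups
  let W0 : AddSubgroup (Additive ↥Wg) :=
    { carrier := {m | ∃ z ∈ Z0, w z = m}
      zero_mem' := ⟨1, one_mem _, (hw_zero 1 (one_mem _)).2 (one_mem _)⟩
      add_mem' := by
        rintro _ _ ⟨a, ha, rfl⟩ ⟨b, hb, rfl⟩
        exact ⟨a * b, mul_mem ha hb, hw_mul a (D.le₂ ha) b (D.le₂ hb)⟩
      neg_mem' := by
        rintro _ ⟨a, ha, rfl⟩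
        refine ⟨a⁻¹, inv_mem ha, eq_neg_of_add_eq_zero_left ?_⟩
        rw [← hw_mul _ (inv_mem (D.le₂ ha)) a (D.le₂ ha), hw_zero _ (by simp [one_mem]),
          inv_mul_cancel]
        exact one_mem _ }
  let W1 : AddSubgroup (Additive ↥Wg) := W0.map (DistribSMul.toAddMonoidHom _ E.g0)
  have hW0 : ∀ a ∈ A, w a ∈ W0 → a ∈ Z0 := by
    rintro a ha ⟨z, hz, e⟩
    have := mul_mem hz (D.le₁ ((hw_eq z (D.le₂ hz) a ha).1 e))
    rwa [mul_inv_cancel_left] at this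
  have hW1 : ∀ m, m ∈ W1 ↔ ∃ m0 ∈ W0, E.g0 • m0 = m := fun m => AddSubgroup.mem_map
  have hd : W0 ⊓ W1 = ⊥ := by
    refine (AddSubgroup.eq_bot_iff_forall _).2 fun m hm => ?_
    obtain ⟨⟨z, hz, rfl⟩, h1⟩ := hm
    obtain ⟨_, ⟨e, he, rfl⟩, h2⟩ := (hW1 _).1 h1
    rw [hw_smul _ e (D.le₂ he), eq_comm, hw_eq z (D.le₂ hz) _ (D.invA.2 _ e (D.le₂ he))] at h2
    have he' : E.c E.g0 e ∈ Z0 := by
      have := mul_mem hz (D.le₁ h2); rwa [mul_inv_cancel_left] at this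
    have h3 := D.mem_B_of_two he' (E.c_mem_cs hZT _ he)
    rw [hw_zero z (D.le₂ hz)]
    have := mul_mem h3 (inv_mem h2)
    rwa [_root_.mul_inv_rev, inv_inv, mul_inv_cancel_left] at this
  have hs : W0 ⊔ W1 = ⊤ := by
    refine (AddSubgroup.eq_top_iff' _).2 fun m => ?_
    obtain ⟨a, ha, rfl⟩ := hw_surj m
    obtain ⟨z, hz, e, he, rfl⟩ := D.exists_decomp ha
    rw [hw_mul z (D.le₂ hz) _ (D.invA.2 _ e (D.le₂ he)), ← hw_smul _ e (D.le₂ he)]
    exact AddSubgroup.add_mem_sup ⟨z, hz, rfl⟩ ((hW1 _).2 ⟨_, ⟨e, he, rfl⟩, rfl⟩)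
  have hc1 : Nat.card W0 ≤ Nat.card W1 :=
    Nat.card_le_card_of_injective (fun m => (⟨E.g0 • (m : Additive ↥Wg), (hW1 _).2 ⟨m, m.2, rfl⟩⟩ : W1))
      fun a b h => Subtype.ext (smul_left_cancel E.g0 (congrArg Subtype.val h))
  have hne0 : W0 ≠ ⊥ := fun h => D.not_Z0_le fun z hz => by
    rw [← hw_zero z (D.le₂ hz), ← AddSubgroup.mem_bot, ← h]
    exact ⟨z, hz, rfl⟩
  have hne : W1 ≠ ⊥ := fun h => hne0 ((AddSubgroup.eq_bot_iff_forall _).2 fun m hm => by
    have : E.g0 • m ∈ W1 := (hW1 _).2 ⟨m, hm, rfl⟩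
    rw [h, AddSubgroup.mem_bot] at this
    exact (smul_eq_zero_iff_eq _).1 this)
  have hc : Nat.card W0 ≤ Nat.card F := by
    let ω : ↥Z0 →* Multiplicative W0 := MonoidHom.mk'
      (fun z => Multiplicative.ofAdd (⟨w z, z, z.2, rfl⟩ : W0))
      fun z z' => congrArg Multiplicative.ofAdd (Subtype.ext (hw_mul z (D.le₂ z.2) z' (D.le₂ z'.2)))
    have hωs : Function.Surjective ω := fun m => by
      obtain ⟨z, hz, e⟩ := (Multiplicative.toAdd m).2
      exact ⟨⟨z, hz⟩, Subtype.ext e⟩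
    have hωk : ω.ker = B.subgroupOf Z0 := by
      ext z
      rw [MonoidHom.mem_ker, Subgroup.mem_subgroupOf, ← hw_zero _ (D.le₂ z.2)]
      exact ⟨fun h => congrArg (fun m => ((Multiplicative.toAdd m : W0) : Additive ↥Wg)) h,
        fun h => Multiplicative.toAdd.injective (Subtype.ext h)⟩
    refine Nat.le_of_mul_le_mul_right ?_ (Nat.card_pos (α := B))
    refine le_trans (le_of_eq ?_) (D.card_Z0_le Q)
    rw [← Nat.card_congr (Subgroup.subgroupOfEquivOfLe D.le₁).toEquiv, ← hωk,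
      Subgroup.card_eq_card_quotient_mul_card_subgroup ω.ker,
      Nat.card_congr (QuotientGroup.quotientKerEquivOfSurjective ω hωs).toEquiv]
    rfl
  -- the root groups
  let sec : F → S := Function.surjInv Q.θ_surj
  have hsec : ∀ a, Q.θ (sec a) = a := Function.surjInv_eq Q.θ_surj
  let u : F → E.G := fun a => E.ι (sec a)
  let l : F → E.G := fun a => E.g0 * u (-a) * E.g0⁻¹
  have hT : ∀ t ∈ E.T, ∀ m : Additive ↥Wg, E.ι t • m = m := fun t ht m => by
    obtain ⟨a, ha, rfl⟩ := hw_surj m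
    rw [hw_smul _ a ha, E.c_ι (D.invA.1 ha), eq_comm,
      hw_eq a ha _ (D.invA.2 (E.ι t) a ha |> fun h => by rwa [E.c_ι (D.invA.1 ha)] at h),
      show a⁻¹ * (t * a * t⁻¹) = ⁅a⁻¹, t⁆ by group]
    exact D.comm_T (inv_mem ha) ht
  have hu : ∀ a s, Q.θ s = a → ∀ m : Additive ↥Wg, u a • m = E.ι s • m := fun a s he m => by
    have h := hT _ (Q.θ_congr (he.trans (hsec a).symm)) m
    conv_rhs => rw [← h]
    rw [← mul_smul, ← map_mul, mul_inv_cancel_left]
  have huadd : ∀ a b, ∀ m : Additive ↥Wg, u (a + b) • m = u a • u b • m := fun a b m => by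
    rw [hu (a + b) (sec a * sec b) (by rw [Q.θ_mul, hsec, hsec]) m, map_mul, mul_smul]
  have hlg : ∀ a, ∀ m : Additive ↥Wg, l a • E.g0 • m = E.g0 • u (-a) • m := fun a m => by
    simp only [l, ← mul_smul]
    rw [inv_mul_cancel_right]
  have hladd : ∀ a b, ∀ m : Additive ↥Wg, l (a + b) • m = l a • l b • m := fun a b m => by
    rw [show m = E.g0 • E.g0⁻¹ • m from (smul_inv_smul _ _).symm, hlg, hlg, hlg, neg_add, huadd]
  have hu0 : ∀ a, ∀ m ∈ W0, u a • m = m := by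
    rintro a _ ⟨z, hz, rfl⟩
    rw [hw_smul _ z (D.le₂ hz), E.c_ι (hZT hz), eq_comm,
      hw_eq z (D.le₂ hz) _ (D.le₂ (D.conj_Z0 hz _)),
      show z⁻¹ * (sec a * z * (sec a)⁻¹) = ⁅z⁻¹, sec a⁆ by group]
    exact D.comm₂ _ (inv_mem hz) _
  have hu1 : ∀ a, ∀ m : Additive ↥Wg, u a • m - m ∈ W0 := by
    intro a m
    obtain ⟨x, hx, rfl⟩ := hw_surj m
    have hc : ⁅x, sec a⁆⁻¹ ∈ Z0 := inv_mem (D.comm₁ x hx _)
    refine ⟨_, hc, eq_sub_of_add_eq ?_⟩
    rw [← hw_mul _ (D.le₂ hc) x hx, hw_smul _ x hx, E.c_ι (D.invA.1 hx)]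
    congr 1
    group
  have hfix : ∀ a, a ≠ 0 → ∀ m, u a • m = m → m ∈ W0 := by
    intro a ha m hm
    obtain ⟨x, hx, rfl⟩ := hw_surj m
    refine ⟨x, D.fixed x hx (sec a) (fun h => ha ?_) ?_, rfl⟩
    · rw [← hsec a, Q.θ_eq]; exact h
    · have hxc : sec a * x * (sec a)⁻¹ ∈ A := by
        have := D.invA.2 (u a) x hx; rwa [E.c_ι (D.invA.1 hx)] at this
      rw [hw_smul _ x hx, E.c_ι (D.invA.1 hx), hw_eq _ hxc x hx] at hm
      have := (Emb.Inv.normal E D.invB).conj_mem _ hm x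
      convert this using 1
      group
  have hstab : ∀ h : E.G, (∀ m ∈ W0, h • m ∈ W0) →
      h ∈ Subgroup.normalizer ((Z0.map E.ι : Subgroup E.G) : Set E.G) := fun h hh => by
    refine D.mem_stab fun z hz => hW0 _ (D.invA.2 h z (D.le₂ hz)) ?_
    rw [← hw_smul h z (D.le₂ hz)]
    exact hh _ ⟨z, hz, rfl⟩
  have hinj : ∀ a, a ≠ 0 → ∀ m ∈ W1, u a • m = m → m = 0 := fun a ha m hm hf => by
    rw [← AddSubgroup.mem_bot, ← hd]; exact ⟨hfix a ha m hf, hm⟩
  -- `K` stabilises the fixed points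
  set R := Subgroup.normalizer ((Z0.map E.ι : Subgroup E.G) : Set E.G)
  have hK : Q.K ≤ R := by
    by_cases hp : Nat.card F = p
    swap
    · exact D.K_le_stab_of_card_ne Q hp
    intro k hk
    by_contra hkR
    obtain ⟨M, ⟨hMc, hSM⟩, huniq⟩ := Q.uniq
    have hle : ∀ H : Subgroup E.G, E.ι.range ≤ H → H ≠ ⊤ → H ≤ M := fun H h1 h2 => by
      obtain ⟨M', hM', h3⟩ := (eq_top_or_exists_le_coatom H).resolve_left h2
      exact huniq M' ⟨hM', h1.trans h3⟩ ▸ h3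
    have hRM : R ≤ M := hle R D.range_le_stab fun h => hkR (h ▸ Subgroup.mem_top k)
    have hKM : k ∈ M := hle _ le_sup_right Q.ne_top (Subgroup.mem_sup_left hk)
    obtain ⟨m, hm, hkm⟩ : ∃ m ∈ W0, k • m ∉ W0 := by
      by_contra h
      push Not at h
      exact hkR (hstab k h)
    obtain ⟨a, ha, b, hb, hab⟩ := AddSubgroup.mem_sup.1 (hs ▸ AddSubgroup.mem_top (k • m))
    have hb0 : b ≠ 0 := fun h => hkm (by rw [← hab, h, add_zero]; exact ha)
    let φ : F → W0 := fun x => ⟨u x • b - b, hu1 x b⟩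
    have hφ : Function.Injective φ := fun x y hxy => by
      have h1 : u x • b = u y • b := sub_left_inj.1 (congrArg Subtype.val hxy)
      by_contra hne
      refine hb0 (hinj (y - x) (sub_ne_zero.2 (Ne.symm hne)) b hb ?_)
      refine smul_left_cancel (u x) ?_
      rw [← huadd, add_sub_cancel, h1]
    obtain ⟨x, hx⟩ : ∃ x, u x • b - b = -a := by
      obtain ⟨x, hx⟩ := (hφ.bijective_of_nat_card_le hc).2 ⟨-a, W0.neg_mem ha⟩
      exact ⟨x, congrArg Subtype.val hx⟩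
    have hgb : E.g0⁻¹ • u x • k • m ∈ W0 := by
      rw [← hab, smul_add, hu0 x a ha, sub_eq_iff_eq_add.1 hx, add_neg_cancel_left]
      obtain ⟨b0, hb0', rfl⟩ := (hW1 b).1 hb
      rw [inv_smul_smul]; exact hb0'
    let H0 : AddSubgroup W0 :=
      (W0.comap (DistribSMul.toAddMonoidHom _ (E.g0⁻¹ * u x * k))).addSubgroupOf W0
    have hm0 : m ≠ 0 := fun h => hkm (by rw [h, smul_zero]; exact W0.zero_mem)
    have hcard : Nat.card W0 = p :=
      le_antisymm (hc.trans hp.le) (hp.ge.trans (Nat.card_le_card_of_injective φ hφ))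
    have hH : H0 = ⊤ := by
      have : Fact (Nat.card W0).Prime := ⟨by rw [hcard]; exact Fact.out⟩
      refine (H0.eq_bot_or_eq_top_of_prime_card).resolve_left fun h => hm0 ?_
      have : (⟨m, hm⟩ : W0) ∈ H0 := by
        show (E.g0⁻¹ * u x * k) • m ∈ W0
        rw [mul_smul, mul_smul]; exact hgb
      rw [h, AddSubgroup.mem_bot] at this
      exact congrArg Subtype.val this
    have hr : E.g0⁻¹ * u x * k ∈ R := hstab _ fun m' hm' => by
      have : (⟨m', hm'⟩ : W0) ∈ H0 := hH ▸ AddSubgroup.mem_top _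
      exact this
    have hg0 : E.g0 ∈ M := by
      have hux : u x ∈ M := hSM ⟨_, rfl⟩
      have := mul_mem (mul_mem hux hKM) (inv_mem (hRM hr))
      simpa [mul_assoc] using this
    obtain ⟨s0, hs0⟩ := E.exists_notMem
    refine hMc.1 (E.gen _ ⟨s0, rfl⟩ hs0 M (hSM ⟨s0, rfl⟩) ?_)
    rintro _ ⟨y, hy, rfl⟩
    exact mul_mem (mul_mem hg0 (hSM hy)) (inv_mem hg0)
  -- coordinates
  have hswap : ∀ a, a ≠ 0 → ∀ m ∈ W0, u a • l (-a⁻¹) • u a • m ∈ W1 := by
    intro a ha m hm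
    have h := Q.swap (sec a) (sec a⁻¹) (by rw [hsec]; exact ha) (by rw [hsec, hsec]) R
      D.range_le_stab D.normalizer_le_stab hK
    refine (hW1 _).2 ⟨_, ?_, smul_inv_smul E.g0 _⟩
    rw [show l (-a⁻¹) = E.g0 * E.ι (sec a⁻¹) * E.g0⁻¹ by simp only [l, u, neg_neg], ← mul_smul,
      ← mul_smul, ← mul_smul]
    obtain ⟨z, hz, rfl⟩ := hm
    rw [hw_smul _ z (D.le₂ hz)]
    exact ⟨_, D.c_mem_of_stab h hz, congrArg (fun x => w (E.c x z)) (by simp only [u]; group)⟩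
  obtain ⟨Φ, hΦu, hΦl⟩ := exists_natural_coord W0 W1 hd hs hne hc hc1 u l hu0
    (fun a m _ => hu1 a m) huadd hinj
    (fun a m hm => by
      obtain ⟨m0, hm0, rfl⟩ := (hW1 m).1 hm
      rw [hlg, hu0 _ m0 hm0])
    (fun a m _ => by
      refine (hW1 _).2 ⟨_, hu1 (-a) (E.g0⁻¹ • m), ?_⟩
      rw [smul_sub, ← hlg, smul_inv_smul])
    hladd hswap
  -- the representation
  have huniq : ∀ g g' : Matrix.SpecialLinearGroup (Fin 2) F,
      (∀ v, g.1.mulVec v = g'.1.mulVec v) → g = g' := fun g g' h =>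
    Subtype.ext (Matrix.ext_of_mulVec_single fun i => h _)
  let C : Subgroup E.G :=
    { carrier := {h | ∃ g : Matrix.SpecialLinearGroup (Fin 2) F,
        ∀ m, Φ (h • m) = g.1.mulVec (Φ m)}
      one_mem' := ⟨1, fun m => by rw [one_smul]; exact (Matrix.one_mulVec _).symm⟩
      mul_mem' := by
        rintro x y ⟨g, hg⟩ ⟨g', hg'⟩
        exact ⟨g * g', fun m => by
          rw [mul_smul, hg, hg', Matrix.mulVec_mulVec]; rfl⟩
      inv_mem' := by
        rintro x ⟨g, hg⟩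
        refine ⟨g⁻¹, fun m => ?_⟩
        have := hg (x⁻¹ • m)
        rw [smul_inv_smul] at this
        rw [this, Matrix.mulVec_mulVec, show g⁻¹.1 * g.1 = (g⁻¹ * g).1 from rfl, inv_mul_cancel]
        exact (Matrix.one_mulVec _).symm }
  have hCu : ∀ s, ∀ m, Φ (E.ι s • m) = (uSL (Q.θ s)).1.mulVec (Φ m) := fun s m => by
    rw [← hu _ s rfl m]; exact hΦu _ m
  have hCl : ∀ s, ∀ m, Φ ((E.g0 * E.ι s * E.g0⁻¹) • m) = (lSL (-Q.θ s)).1.mulVec (Φ m) := by
    intro s m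
    rw [← hΦl, ← smul_inv_smul E.g0 m, hlg, neg_neg, hu _ s rfl, ← mul_smul, ← mul_smul,
      inv_mul_cancel_right]
    simp only [← mul_smul, mul_assoc]
  have hC : C = ⊤ := by
    obtain ⟨b, hb⟩ := E.exists_notMem
    refine E.gen _ ⟨b, rfl⟩ hb C ⟨_, hCu b⟩ ?_
    rintro _ ⟨_, ⟨s, rfl⟩, rfl⟩
    exact ⟨_, hCl s⟩
  choose ρ0 hρ0 using fun h : E.G => (hC ▸ Subgroup.mem_top h : h ∈ C)
  have hΦs : ∀ v, ∃ m, Φ m = v := Φ.surjective
  let ρ : E.G →* Matrix.SpecialLinearGroup (Fin 2) F := MonoidHom.mk' ρ0 fun x y =>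
    huniq _ _ fun v => by
      obtain ⟨m, rfl⟩ := hΦs v
      rw [← hρ0, mul_smul, hρ0, hρ0, Matrix.mulVec_mulVec]; rfl
  refine ⟨ρ, fun a => Φ (w a), fun a ha b hb => (congrArg Φ (hw_mul a ha b hb)).trans (map_add Φ _ _),
    fun a ha => by rw [map_eq_zero_iff Φ Φ.injective, hw_zero a ha], fun v => ?_,
    fun h a ha => (congrArg Φ (hw_smul h a ha)).symm.trans (hρ0 h _), fun s => huniq _ _ fun v => ?_,
    fun s => huniq _ _ fun v => ?_⟩
  · obtain ⟨m, rfl⟩ := hΦs v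
    obtain ⟨a, ha, rfl⟩ := hw_surj m
    exact ⟨a, ha, rfl⟩
  · obtain ⟨m, rfl⟩ := hΦs v
    exact (hρ0 _ m).symm.trans (hCu s m)
  · obtain ⟨m, rfl⟩ := hΦs v
    exact (hρ0 _ m).symm.trans (hCl s m)

end Sect

end CfsgLib.LocalEven.GN
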