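import Cfsg.Agent.Lib.LocalEven.GN.RankQuot
import Cfsg.Agent.Lib.Coprime.Gaschutz
import Cfsg.Agent.Lib.PLocal.QdOverField

/-!
Rank one pushing up in a maximal local subgroup for `p ≥ 5`: the group is `Qd × E`.
-/

set_option autoImplicit false
set_option linter.unusedSectionVars false

namespace CfsgLib.LocalEven.GN

open Cfsg Matrix CfsgLib.Classical
open scoped commutatorElement
open CD (cj cen zOf)
open SL2Natural (nSL hSL)

universe u

variable {p : ℕ} [Fact p.Prime] {S : Type u} [Group S] [Finite S]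

theorem exists_sq_ne_one {F : Type*} [Field F] [Finite F] (h : 4 ≤ Nat.card F) :
    ∃ b : F, b ≠ 0 ∧ b ^ 2 ≠ 1 := by
  classical
  have := Fintype.ofFinite F
  by_contra hc
  push Not at hc
  have hsub : (Finset.univ : Finset F) ⊆ {0, 1, -1} := fun b _ => by
    rcases eq_or_ne b 0 with hb | hb
    · simp [hb]
    · rcases sq_eq_one_iff.1 (hc b hb) with h1 | h1 <;> simp [h1]
  have := (Finset.card_le_card hsub).trans Finset.card_le_three
  rw [Finset.card_univ, ← Nat.card_eq_fintype_card] at this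
  omega

/-- `G = Qd × E` when an automorphism of `S` moves `V` out of `T` and the centre away from itself. -/
theorem HD.qd_structure {E : Emb p S} (H : HD E) {F : Type} [Field F] [Finite F] [CharP F p]
    (Q : Par E F) (hp : 5 ≤ p) (hq : 4 ≤ Nat.card F) (hc : frattini S ≤ Subgroup.center S)
    {ρ : E.G →* Matrix.SpecialLinearGroup (Fin 2) F} (hρ : Function.Surjective ρ)
    (hk : ρ.ker = E.T0) {f : S → (Fin 2 → F)}
    (hfm : ∀ a ∈ E.V, ∀ b ∈ E.V, f (a * b) = f a + f b)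
    (hfB : ∀ a ∈ E.V, (f a = 0 ↔ a ∈ E.Zc)) (hfs : ∀ v, ∃ a ∈ E.V, f a = v)
    (hfc : ∀ h, ∀ a ∈ E.V, f (E.c h a) = (ρ h).1.mulVec (f a))
    (hu : ∀ s, ρ (E.ι s) = uSL (Q.θ s))
    (α : S ≃* S) (hα : ¬ E.V.map α.toMonoidHom ≤ E.T)
    (hZ : ∀ r ∈ E.Zc, α r ∈ E.Zc → r = 1) :
    ∃ G0 E0 : Subgroup E.G, Cfsg.IsInternalDirectProduct G0 E0 ⊤ ∧
      Cfsg.IsElementaryAbelian p E0 ∧ Nonempty (↥G0 ≃* ↥(Cfsg.qdOver F)) := by
  classical
  have hB := H.base
  have hT0n := E.setup.normal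
  have hZcV : E.Zc ≤ E.V := inf_le_left
  have hp2 : p ≠ 2 := by omega
  have h2F : (2 : F) ≠ 0 := by
    intro h
    have h' : ((2 : ℕ) : F) = 0 := by exact_mod_cast h
    have := Nat.le_of_dvd (by norm_num) ((CharP.cast_eq_zero_iff F p 2).1 h')
    omega
  -- an involution over `-1`
  obtain ⟨x, hx⟩ := hρ (hSL (-1))
  have hneg : ((hSL (-1) : Matrix.SpecialLinearGroup (Fin 2) F)).1 = !![-1, 0; 0, -1] := by
    rw [SL2Natural.hSL_coe (neg_ne_zero.2 one_ne_zero), inv_neg, inv_one]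
  have hsq : (hSL (-1) : Matrix.SpecialLinearGroup (Fin 2) F) * hSL (-1) = 1 := by
    rw [SL2Natural.hSL_mul (neg_ne_zero.2 one_ne_zero) (neg_ne_zero.2 one_ne_zero)]
    refine Subtype.ext ?_
    rw [SL2Natural.hSL_coe (by norm_num), show ((-1 : F) * -1) = 1 by norm_num, inv_one]
    ext i j
    fin_cases i <;> fin_cases j <;> rfl
  obtain ⟨j, hj⟩ := (E.setup.isP.to_le E.setup.le) ⟨x * x, hk ▸ by
    rw [MonoidHom.mem_ker, map_mul, hx, hsq]⟩
  have hj' : (x * x) ^ p ^ j = 1 := congrArg Subtype.val hj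
  set z := x ^ p ^ j with hzdef
  have hzz : z * z = 1 := by rw [hzdef, ← (Commute.refl x).mul_pow, hj']
  have hodd : Odd (p ^ j) := ((Fact.out : p.Prime).odd_of_ne_two hp2).pow
  have hρz : ρ z = hSL (-1) := by
    obtain ⟨k, hk'⟩ := hodd
    rw [hzdef, map_pow, hx, hk', pow_succ, pow_mul, pow_two, hsq, one_pow, one_mul]
  have hzg : ∀ g : E.G, ∃ t ∈ E.T, z * g = g * z * E.ι t := by
    intro g
    have h1 : (g * z)⁻¹ * (z * g) ∈ E.T.map E.ι := by
      rw [E.T0_eq, ← hk, MonoidHom.mem_ker, map_mul, map_inv, map_mul, map_mul, hρz,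
        SL2Natural.hSL_neg_one_comm, inv_mul_cancel]
    obtain ⟨t, ht, hte⟩ := h1
    exact ⟨t, ht, by rw [hte, mul_inv_cancel_left]⟩
  set σ := E.c z with hσ
  have hσσ : ∀ t ∈ E.T, σ (σ t) = t := fun t ht => by
    rw [hσ, E.c_c ht, hzz, E.c_one_left ht]
  have hσZ : ∀ v ∈ E.Zc, σ v = v := fun v hv => (E.mem_Zc_iff.1 hv).2 z
  have hcV : ∀ g : E.G, ∀ v ∈ E.V, σ (E.c g v) = E.c g (σ v) := by
    intro g v hv
    obtain ⟨t, ht, e⟩ := hzg g
    have hvT := E.V_le hv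
    rw [hσ, E.c_c hvT, e, ← E.c_c hvT, E.c_ι hvT,
      show t * v * t⁻¹ = v by rw [← E.V_comm hv ht, mul_inv_cancel_right], E.c_c hvT]
  have hfσ : ∀ v ∈ E.V, f (σ v) = -f v := fun v hv => by
    rw [hσ, hfc z v hv, hρz, hneg]
    funext i; fin_cases i <;> simp [Matrix.mulVec, dotProduct, Fin.sum_univ_two]
  have hf1 : f 1 = 0 := (hfB 1 (one_mem _)).2 (one_mem _)
  have hfinv : ∀ a ∈ E.V, f a⁻¹ = -f a := fun a ha => by
    refine eq_neg_of_add_eq_zero_left ?_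
    rw [← hfm _ (inv_mem ha) a ha, inv_mul_cancel, hf1]
  have hfix : ∀ v ∈ E.V, σ v = v → v ∈ E.Zc := fun v hv h => by
    rw [← hfB v hv]
    have h1 := hfσ v hv
    rw [h] at h1
    funext i
    have h2 : 2 * f v i = 0 := by
      have := congrFun h1 i
      simp only [Pi.neg_apply] at this
      linear_combination this
    exact (mul_eq_zero.1 h2).resolve_left h2F
  -- the inverted part of `V` and the fixed part of `T`
  let W : Subgroup S :=
    { carrier := {v | v ∈ E.V ∧ σ v = v⁻¹}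
      one_mem' := ⟨one_mem _, by rw [hσ, E.c_one, inv_one]⟩
      mul_mem' := fun {a b} ha hb => ⟨mul_mem ha.1 hb.1, by
        rw [hσ, E.c_mul (E.V_le ha.1) (E.V_le hb.1), ← hσ, ha.2, hb.2, _root_.mul_inv_rev,
          E.V_comm (inv_mem ha.1) (inv_mem (E.V_le hb.1))]⟩
      inv_mem' := fun {a} ha => ⟨inv_mem ha.1, by rw [hσ, E.c_inv (E.V_le ha.1), ← hσ, ha.2]⟩ }
  have hWV : W ≤ E.V := fun _ h => h.1
  have hWc : ∀ g : E.G, ∀ w ∈ W, E.c g w ∈ W := fun g w hw =>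
    ⟨E.V_inv.2 g w hw.1, by rw [hcV g w hw.1, hw.2, E.c_inv (E.V_le hw.1)]⟩
  have hWZ : ∀ w ∈ W, w ∈ E.Zc → w = 1 := fun w hw hz => by
    have h1 := hσZ w hz
    rw [hw.2] at h1
    refine orderOf_eq_one_iff.1 (Nat.eq_one_of_dvd_coprimes
      ((Fact.out : p.Prime).odd_of_ne_two hp2).coprime_two_left.symm
      (orderOf_dvd_of_pow_eq_one (E.V_pow_one hB H.zp hw.1)) (orderOf_dvd_of_pow_eq_one ?_))
    rw [pow_two]
    nth_rw 1 [← h1]
    exact inv_mul_cancel w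
  have hsplit : ∀ t ∈ E.T, ∃ w ∈ W, σ (w⁻¹ * t) = w⁻¹ * t := by
    intro t ht
    have hσt := E.c_mem ht z
    have hv : t * (σ t)⁻¹ ∈ E.V := by
      have := inv_mem (E.fx_T hB hc ht z)
      rwa [← hσ, _root_.mul_inv_rev, inv_inv] at this
    set v := t * (σ t)⁻¹ with hvdef
    have hσv : σ v = v⁻¹ := by
      rw [hvdef, hσ, E.c_mul ht (inv_mem hσt), E.c_inv hσt, ← hσ, hσσ t ht, _root_.mul_inv_rev,
        inv_inv]
    have hvW : v ∈ W := ⟨hv, hσv⟩
    set w := v ^ ((p + 1) / 2) with hwdef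
    have hw2 : w * w = v := by
      obtain ⟨k, hk'⟩ := (Fact.out : p.Prime).odd_of_ne_two hp2
      rw [hwdef, ← pow_add, show (p + 1) / 2 + (p + 1) / 2 = p + 1 by omega, pow_succ,
        E.V_pow_one hB H.zp hv, one_mul]
    have hwW : w ∈ W := pow_mem hvW _
    refine ⟨w, hwW, ?_⟩
    have hσt' : σ t = v⁻¹ * t := by rw [hvdef]; group
    rw [hσ, E.c_mul (inv_mem (E.V_le hwW.1)) ht, E.c_inv (E.V_le hwW.1), ← hσ, hwW.2, inv_inv,
      hσt', ← hw2]
    group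
  -- the first axis
  have hW0 : ∀ v ∈ E.V, ∀ s : S, ⁅v, s⁆ ∈ W ⊓ Subgroup.center S := by
    intro v hv s
    obtain ⟨w, hw, hfx⟩ := hsplit v (E.V_le hv)
    have hd : w⁻¹ * v ∈ E.Zc := hfix _ (mul_mem (inv_mem hw.1) hv) hfx
    have e : ⁅v, s⁆ = ⁅w, s⁆ := by
      have h1 : v = w * (w⁻¹ * v) := (mul_inv_cancel_left _ _).symm
      rw [h1, comm_mul_left, comm_eq_one (Subgroup.mem_center_iff.1 (E.Zc_le_center hd) s).symm,
        mul_one, mul_inv_cancel, one_mul]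
    refine ⟨?_, E.comm_V hB hv s⟩
    rw [e, show ⁅w, s⁆ = w * (s * w⁻¹ * s⁻¹) by group, ← E.c_ι (inv_mem (E.V_le hw.1))]
    exact mul_mem hw (hWc _ _ (inv_mem hw))
  have hWinj : ∀ a ∈ W, ∀ b ∈ W, f a = f b → a = b := fun a ha b hb h => by
    have h1 : a⁻¹ * b ∈ E.Zc := (hfB _ (mul_mem (inv_mem ha.1) hb.1)).1 (by
      rw [hfm _ (inv_mem ha.1) b hb.1, hfinv a ha.1, h, neg_add_cancel])
    exact inv_mul_eq_one.1 (hWZ _ (mul_mem (inv_mem ha) hb) h1)
  have hWsurj : ∀ y, ∃ w ∈ W, f w = y := fun y => by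
    obtain ⟨v, hv, rfl⟩ := hfs y
    obtain ⟨w, hw, hfx⟩ := hsplit v (E.V_le hv)
    refine ⟨w, hw, ?_⟩
    have h1 := (hfB _ (mul_mem (inv_mem hw.1) hv)).2 (hfix _ (mul_mem (inv_mem hw.1) hv) hfx)
    rw [hfm _ (inv_mem hw.1) v hv, hfinv w hw.1, neg_add_eq_zero] at h1
    exact h1
  -- the element outside `T`
  obtain ⟨_, ⟨v0, hv0, rfl⟩, heT⟩ := SetLike.not_le_iff_exists.1 hα
  set e := α.toMonoidHom v0 with hedef
  have hαZ : ∀ c : S, c ∈ Subgroup.center S → α c ∈ Subgroup.center S := fun c hc' =>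
    (Subgroup.characteristic_iff_map_le.1 center_char α) ⟨c, hc', rfl⟩
  set W0 := W ⊓ Subgroup.center S with hW0def
  have hW0le : W0 ≤ W0.map α.toMonoidHom := by
    intro y hy
    have hfy : f y 1 = 0 := by
      obtain ⟨s1, hs1⟩ := Q.θ_surj 1
      have hyV : y ∈ E.V := hy.1.1
      have h1 := hfc (E.ι s1) y hyV
      rw [E.c_ι (E.V_le hyV), Subgroup.mem_center_iff.1 hy.2 s1, mul_inv_cancel_right, hu, hs1,
        uSL_coe] at h1
      have h2 := congrFun h1 0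
      simp [Matrix.mulVec, dotProduct, Fin.sum_univ_two] at h2
      exact h2
    have hθ : Q.θ e ≠ 0 := fun h => heT ((Q.θ_eq e).1 h)
    obtain ⟨w, hw, hfw⟩ := hWsurj ![0, -(f y 0) / Q.θ e]
    have hcm := hW0 w hw.1 e
    have h3 : ⁅w, e⁆ = y := by
      refine hWinj _ hcm.1 y hy.1 ?_
      rw [show ⁅w, e⁆ = w * (e * w⁻¹ * e⁻¹) by group, ← E.c_ι (inv_mem (E.V_le hw.1)),
        hfm w hw.1 _ (E.V_inv.2 _ _ (inv_mem hw.1)), hfc _ _ (inv_mem hw.1), hfinv w hw.1, hu,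
        hfw, uSL_coe]
      funext i
      fin_cases i <;> simp [Matrix.mulVec, dotProduct, Fin.sum_univ_two, hfy] <;> field_simp
    refine ⟨⁅v0, α.symm w⁆⁻¹, inv_mem (hW0 v0 hv0 _), ?_⟩
    rw [commutatorElement_inv, map_commutatorElement, ← h3]
    congr 1
    exact α.apply_symm_apply w
  have hW0eq : W0.map α.toMonoidHom = W0 :=
    (Subgroup.eq_of_le_of_card_ge hW0le (Subgroup.card_map_of_injective α.injective).le).symm
  -- displacements of fixed elements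
  let D : S → Prop := fun d => d ∈ E.T ∧ σ d = d
  have hTV : ∀ t ∈ E.T, ∀ t' ∈ E.T, ⁅t, t'⁆ ∈ E.V := fun t ht t' _ => by
    have h1 := inv_mem (E.fx_T hB hc ht (E.ι t'))
    rw [E.c_ι ht, ← commutatorElement_def, commutatorElement_inv] at h1
    exact h1
  have hTTZ : ∀ t ∈ E.T, ∀ t' ∈ E.T, ⁅t, t'⁆ ∈ E.Zc := by
    intro t ht t' ht'
    obtain ⟨w, hw, hd⟩ := hsplit t ht
    obtain ⟨w', hw', hd'⟩ := hsplit t' ht'
    have h1 : ⁅t, t'⁆ = ⁅w⁻¹ * t, w'⁻¹ * t'⁆ := by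
      have ha : w⁻¹ * t ∈ E.T := mul_mem (inv_mem (E.V_le hw.1)) ht
      have hb : w'⁻¹ * t' ∈ E.T := mul_mem (inv_mem (E.V_le hw'.1)) ht'
      conv_lhs => rw [← mul_inv_cancel_left w t, ← mul_inv_cancel_left w' t']
      rw [comm_mul_left, comm_eq_one (E.V_comm hw.1 (mul_mem (E.V_le hw'.1) hb)), mul_one,
        comm_mul_right, comm_eq_one (E.V_comm hw'.1 ha).symm, one_mul]
      have hm := hTV _ ha _ hb
      rw [show w' * ⁅w⁻¹ * t, w'⁻¹ * t'⁆ * w'⁻¹ = ⁅w⁻¹ * t, w'⁻¹ * t'⁆ by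
        rw [← E.V_comm hm (E.V_le hw'.1), mul_inv_cancel_right]]
      rw [show w * ⁅w⁻¹ * t, w'⁻¹ * t'⁆ * w⁻¹ = ⁅w⁻¹ * t, w'⁻¹ * t'⁆ by
        rw [← E.V_comm hm (E.V_le hw.1), mul_inv_cancel_right]]
    rw [h1]
    refine hfix _ (hTV _ (mul_mem (inv_mem (E.V_le hw.1)) ht) _
      (mul_mem (inv_mem (E.V_le hw'.1)) ht')) ?_
    rw [hσ, E.c_comm (mul_mem (inv_mem (E.V_le hw.1)) ht) (mul_mem (inv_mem (E.V_le hw'.1)) ht'),
      ← hσ, hd, hd']
  have hgd : ∀ (g : E.G) (d : S), D d → E.c g d * d⁻¹ ∈ E.Zc := by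
    intro g d hd
    have hv : E.c g d * d⁻¹ ∈ E.V := E.fx_T hB hc hd.1 g
    set v := E.c g d * d⁻¹ with hvdef
    obtain ⟨t, ht, e'⟩ := hzg g
    set ζ := ⁅t, d⁆ with hζdef
    have hζ : ζ ∈ E.Zc := hTTZ t ht d hd.1
    have hζT := E.V_le (hZcV hζ)
    have h1 : σ (E.c g d) = ζ * E.c g d := by
      rw [hσ, E.c_c hd.1, e', ← E.c_c hd.1, E.c_ι hd.1,
        show t * d * t⁻¹ = ζ * d by rw [hζdef]; group, E.c_mul hζT hd.1, ← E.c_c hd.1, ← hσ, hd.2]
      congr 1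
      exact (E.mem_Zc_iff.1 hζ).2 _
    have h2 : σ v = ζ * v := by
      rw [hvdef, hσ, E.c_mul (E.c_mem hd.1 g) (inv_mem hd.1), E.c_inv hd.1, ← hσ, h1, hd.2,
        mul_assoc]
    refine hfix v hv ?_
    have h3 := hσσ v (E.V_le hv)
    rw [h2, hσ, E.c_mul hζT (E.V_le hv), ← hσ, hσZ ζ hζ, h2, ← mul_assoc, mul_eq_right] at h3
    rw [h2, show ζ = 1 from orderOf_eq_one_iff.1 (Nat.eq_one_of_dvd_coprimes
      ((Fact.out : p.Prime).odd_of_ne_two hp2).coprime_two_left.symm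
      (orderOf_dvd_of_pow_eq_one (E.V_pow_one hB H.zp (hZcV hζ)))
      (orderOf_dvd_of_pow_eq_one (by rw [pow_two, h3]))), one_mul]
  have hed : ∀ d : S, D d → Commute e d := by
    intro d hd
    rw [← commutatorElement_eq_one_iff_commute]
    have h1 : ⁅e, d⁆ ∈ W0 := by
      rw [← hW0eq]
      refine ⟨⁅v0, α.symm d⁆, hW0 v0 hv0 _, ?_⟩
      rw [map_commutatorElement]
      congr 1
      exact α.apply_symm_apply d
    refine hWZ _ h1.1 ?_
    have h2 := hgd (E.ι e) d hd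
    rw [E.c_ι hd.1, ← commutatorElement_def] at h2
    exact h2
  have hαT : ∀ d : S, D d → ∃ t ∈ E.T, α t = d := by
    intro d hd
    have h : d ∈ cen (E.V.map α.toMonoidHom) := by
      rintro _ ⟨v, hv, rfl⟩
      by_cases hvT : α.toMonoidHom v ∈ E.T
      · -- `e * α v` lies outside `T`
        have hev : ∀ d', D d' → Commute (α.toMonoidHom (v0 * v)) d' := by
          intro d' hd'
          rw [← commutatorElement_eq_one_iff_commute]
          have h1 : ⁅α.toMonoidHom (v0 * v), d'⁆ ∈ W0 := by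
            rw [← hW0eq]
            refine ⟨⁅v0 * v, α.symm d'⁆, hW0 _ (mul_mem hv0 hv) _, ?_⟩
            rw [map_commutatorElement]
            congr 1
            exact α.apply_symm_apply d'
          refine hWZ _ h1.1 ?_
          have h2 := hgd (E.ι (α.toMonoidHom (v0 * v))) d' hd'
          rw [E.c_ι hd'.1, ← commutatorElement_def] at h2
          exact h2
        have h3 := (hed d hd).inv_left.mul_left (hev d hd)
        rw [map_mul, hedef, inv_mul_cancel_left] at h3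
        exact h3.eq
      · rw [← commutatorElement_eq_one_iff_mul_comm]
        have h1 : ⁅α.toMonoidHom v, d⁆ ∈ W0 := by
          rw [← hW0eq]
          refine ⟨⁅v, α.symm d⁆, hW0 _ hv _, ?_⟩
          rw [map_commutatorElement]
          congr 1
          exact α.apply_symm_apply d
        refine hWZ _ h1.1 ?_
        have h2 := hgd (E.ι (α.toMonoidHom v)) d hd
        rw [E.c_ι hd.1, ← commutatorElement_def] at h2
        exact h2
    rw [← map_cen α E.V, E.cen_V hB] at h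
    exact h
  have hDD : ∀ d d' : S, D d → D d' → Commute d d' := by
    intro d d' hd hd'
    obtain ⟨t, ht, rfl⟩ := hαT d hd
    obtain ⟨t', ht', rfl⟩ := hαT d' hd'
    rw [← commutatorElement_eq_one_iff_commute, ← map_commutatorElement,
      hZ _ (hTTZ t ht t' ht') (by rw [map_commutatorElement]; exact hTTZ _ hd.1 _ hd'.1), map_one]
  have hTD : ∀ t ∈ E.T, ∀ d, D d → Commute t d := by
    intro t ht d hd
    obtain ⟨w, hw, hfx⟩ := hsplit t ht
    have h1 : Commute w d := E.V_comm hw.1 hd.1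
    have h2 := h1.mul_left (hDD (w⁻¹ * t) d ⟨mul_mem (inv_mem (E.V_le hw.1)) ht, hfx⟩ hd)
    rwa [mul_inv_cancel_left] at h2
  have hDZ : ∀ d, D d → d ∈ E.Zc := by
    intro d hd
    have hcomm : ∀ g h : E.G, E.c (g * h) d * d⁻¹ = (E.c g d * d⁻¹) * (E.c h d * d⁻¹) := by
      intro g h
      have hζ := hgd h d hd
      have hh : E.c h d = E.c h d * d⁻¹ * d := (inv_mul_cancel_right _ _).symm
      rw [← E.c_c hd.1]
      conv_lhs => rw [hh, E.c_mul (E.V_le (hZcV hζ)) hd.1, (E.mem_Zc_iff.1 hζ).2 g]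
      rw [mul_assoc, Subgroup.mem_center_iff.1 (E.Zc_le_center hζ)]
    let ψ : E.G →* ↥E.Zc := MonoidHom.mk' (fun g => ⟨_, hgd g d hd⟩) fun g h =>
      Subtype.ext (hcomm g h)
    have hab : ∀ a b : ↥E.Zc, a * b = b * a := fun a b =>
      Subtype.ext (E.V_comm (hZcV a.2) (E.V_le (hZcV b.2)))
    have hψT : E.T0 ≤ ψ.ker := by
      intro y hy
      obtain ⟨t, ht, rfl⟩ : y ∈ E.T.map E.ι := by rw [E.T0_eq]; exact hy
      refine Subtype.ext ?_
      show E.c (E.ι t) d * d⁻¹ = 1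
      rw [E.c_ι hd.1, (hTD t ht d hd).eq, mul_inv_cancel_right, mul_inv_cancel]
    have hS : ∀ s, E.ι s ∈ ψ.ker := by
      intro s
      obtain ⟨b, hb0, hb⟩ := exists_sq_ne_one hq
      obtain ⟨h, hh⟩ := hρ (hSL b)
      obtain ⟨s', hs'⟩ := Q.θ_surj (Q.θ s / (b ^ 2 - 1))
      have hb' : b ^ 2 - 1 ≠ 0 := sub_ne_zero.2 hb
      have h1 : (E.ι s)⁻¹ * (h * E.ι s' * h⁻¹ * (E.ι s')⁻¹) ∈ E.T0 := by
        rw [← hk, MonoidHom.mem_ker, map_mul, map_inv, map_mul, map_mul, map_mul, map_inv, map_inv,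
          hu, hu, hh, hs', SL2Natural.hSL_mul_uSL hb0, mul_inv_cancel_right,
          mul_inv_eq_iff_eq_mul.2 (?_ : uSL (b ^ 2 * (Q.θ s / (b ^ 2 - 1))) =
            uSL (Q.θ s) * uSL (Q.θ s / (b ^ 2 - 1))), inv_mul_cancel]
        rw [← SL2Natural.uSL_add]
        congr 1
        field_simp
        ring
      have h2 : ψ ((E.ι s)⁻¹ * (h * E.ι s' * h⁻¹ * (E.ι s')⁻¹)) = 1 := hψT h1
      rw [map_mul, map_inv, map_mul, map_mul, map_mul, map_inv, map_inv, hab (ψ h),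
        mul_inv_cancel_right, mul_inv_cancel, mul_one, inv_eq_one] at h2
      exact h2
    obtain ⟨b, hb⟩ := E.exists_notMem
    have htop : ψ.ker = ⊤ := by
      refine E.gen _ ⟨b, rfl⟩ hb _ (hS b) ?_
      refine le_trans (CD.cj_mono _ ?_) (Push.cj_le_of_normal (MonoidHom.normal_ker ψ) _)
      rintro _ ⟨s, rfl⟩
      exact hS s
    have hfix' : ∀ g, E.c g d = d := fun g =>
      mul_inv_eq_one.1 (congrArg Subtype.val
        (show ψ g = 1 from MonoidHom.mem_ker.1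
          (show g ∈ ψ.ker by rw [htop]; exact Subgroup.mem_top g)))
    exact E.mem_Zc_iff.2 ⟨fun t ht => (hTD t ht d hd).eq, hfix'⟩
  have hTeq : E.T = E.V := by
    refine le_antisymm (fun t ht => ?_) E.V_le
    obtain ⟨w, hw, hfx⟩ := hsplit t ht
    have := mul_mem hw.1 (hZcV (hDZ _ ⟨mul_mem (inv_mem (E.V_le hw.1)) ht, hfx⟩))
    rwa [mul_inv_cancel_left] at this
  -- the complement of `V` in `S`
  let W1 : Subgroup S :=
    { carrier := {w | w ∈ W ∧ f w 0 = 0}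
      one_mem' := ⟨one_mem _, by rw [hf1]; rfl⟩
      mul_mem' := fun {a b} ha hb => ⟨mul_mem ha.1 hb.1, by
        rw [hfm a ha.1.1 b hb.1.1, Pi.add_apply, ha.2, hb.2, add_zero]⟩
      inv_mem' := fun {a} ha => ⟨inv_mem ha.1, by
        rw [hfinv a ha.1.1, Pi.neg_apply, ha.2, neg_zero]⟩ }
  set U := W1.map α.toMonoidHom with hUdef
  have hUV : ∀ u ∈ U, u ∈ E.V → u = 1 := by
    rintro _ ⟨w, hw, rfl⟩ hV
    have hcen : α.toMonoidHom w ∈ Subgroup.center S := by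
      refine E.mem_center_of_comm hB hV heT ?_
      rw [hedef, ← map_commutatorElement, comm_eq_one (E.V_comm hw.1.1 (E.V_le hv0)), map_one]
      exact one_mem _
    have hwc : w ∈ Subgroup.center S := by
      have := (Subgroup.characteristic_iff_map_le.1 center_char α.symm) ⟨_, hcen, rfl⟩
      simpa using this
    obtain ⟨s1, hs1⟩ := Q.θ_surj 1
    have h1 := hfc (E.ι s1) w hw.1.1
    rw [E.c_ι (E.V_le hw.1.1), Subgroup.mem_center_iff.1 hwc s1, mul_inv_cancel_right, hu, hs1,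
      uSL_coe] at h1
    have h2 := congrFun h1 0
    simp [Matrix.mulVec, dotProduct, Fin.sum_univ_two] at h2
    have h0 : w = 1 := hWinj w hw.1 1 (one_mem _) (by
      rw [hf1]; funext i; fin_cases i
      · exact hw.2
      · exact h2)
    rw [h0, map_one]
  have hUcard : Nat.card F ≤ Nat.card U := by
    rw [hUdef, Subgroup.card_map_of_injective α.injective]
    choose w hw hfw using fun a : F => hWsurj ![0, a]
    refine Nat.card_le_card_of_injective (fun a => (⟨w a, hw a, by rw [hfw]; rfl⟩ : W1)) ?_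
    intro a b hab
    have h1 := congrArg (fun x : W1 => f x 1) hab
    simpa [hfw] using h1
  have hVn := Emb.Inv.normal E E.V_inv
  have hsup : E.V ⊔ U = ⊤ := by
    refine Subgroup.eq_top_of_card_eq _ (le_antisymm (Subgroup.card_le_card_group _) ?_)
    rw [sup_comm, Coprime.card_sup_of_inf_eq_bot (by rw [Subgroup.normalizer_eq_top_iff.2 hVn]
                                                     exact le_top)
      ((Subgroup.eq_bot_iff_forall _).2 fun u hu' => hUV u hu'.1 hu'.2), Q.card_S, hTeq]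
    exact Nat.mul_le_mul_right _ hUcard
  -- Gaschütz
  have hinf : U ⊓ E.V = ⊥ :=
    (Subgroup.eq_bot_iff_forall _).2 fun u hu' => hUV u hu'.1 hu'.2
  obtain ⟨P, hP⟩ := E.syl
  have hVι : E.V.map E.ι = E.T0 := by rw [← hTeq, E.T0_eq]
  have hT0c : IsMulCommutative E.T0 := ⟨⟨by
    rintro ⟨a, ha⟩ ⟨b, hb⟩
    obtain ⟨a, ha', rfl⟩ : a ∈ E.V.map E.ι := by rw [hVι]; exact ha
    obtain ⟨b, hb', rfl⟩ : b ∈ E.V.map E.ι := by rw [hVι]; exact hb
    exact Subtype.ext (show E.ι a * E.ι b = E.ι b * E.ι a by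
      rw [← map_mul, ← map_mul, E.V_comm ha' (E.V_le hb')])⟩⟩
  obtain ⟨C, hC⟩ := Coprime.gaschutz_exists E.T0 E.ι.range E.setup.le (by
      obtain ⟨m, hm⟩ := IsPGroup.iff_card.1 (E.setup.isP.to_le E.setup.le)
      rw [hm, ← hP]
      exact ((Fact.out : p.Prime).coprime_iff_not_dvd.2 P.not_dvd_index).pow_left m)
    (U.map E.ι) (Subgroup.map_le_range _ _) (by
      rw [← hVι, ← Subgroup.map_inf _ _ _ E.inj, hinf, Subgroup.map_bot])
    (by rw [← hVι, ← Subgroup.map_sup, hsup, MonoidHom.range_eq_map])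
  have hρC : Function.Bijective (ρ.comp C.subtype) := by
    refine ⟨(injective_iff_map_eq_one _).2 fun c hc' => Subtype.ext ?_, fun y => ?_⟩
    · have h1 : (c : E.G) ∈ E.T0 := by rw [← hk]; exact hc'
      have h2 := hC.disjoint.le_bot (show (c : E.G) ∈ E.T0 ⊓ C from ⟨h1, c.2⟩)
      exact Subgroup.mem_bot.1 h2
    · obtain ⟨g, rfl⟩ := hρ y
      obtain ⟨⟨⟨k, hk'⟩, c⟩, rfl⟩ := hC.2 g
      exact ⟨c, by
        show ρ (c : E.G) = ρ (k * c)
        rw [map_mul, show ρ k = 1 by rw [← MonoidHom.mem_ker, hk]; exact hk', one_mul]⟩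
  let sC := MulEquiv.ofBijective _ hρC
  choose wv hwv hfwv using hWsurj
  have hwv_add : ∀ v v', wv (v + v') = wv v * wv v' := fun v v' =>
    hWinj _ (hwv _) _ (mul_mem (hwv _) (hwv _)) (by
      rw [hfwv, hfm _ (hwv _).1 _ (hwv _).1, hfwv, hfwv])
  have hconj : ∀ (g : Matrix.SpecialLinearGroup (Fin 2) F) v,
      (sC.symm g : E.G) * E.ι (wv v) = E.ι (wv (g.1.mulVec v)) * (sC.symm g : E.G) := by
    intro g v
    have h1 : E.c (sC.symm g : E.G) (wv v) = wv (g.1.mulVec v) := by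
      refine hWinj _ (hWc _ _ (hwv _)) _ (hwv _) ?_
      rw [hfc _ _ (hwv _).1, hfwv, hfwv, show ρ (sC.symm g : E.G) = g from sC.apply_symm_apply g]
    rw [← h1, E.ι_c (E.V_le (hwv _).1), inv_mul_cancel_right]
  let Φ0 : ↥(qdOver F) → E.G := fun y =>
    E.ι (wv ((PLocal.Affine.eltEquiv F).symm y).1) *
      (sC.symm ((PLocal.Affine.eltEquiv F).symm y).2 : E.G)
  have hΦelt : ∀ v g, Φ0 (PLocal.Affine.elt v g) = E.ι (wv v) * (sC.symm g : E.G) := fun v g => by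
    show E.ι (wv ((PLocal.Affine.eltEquiv F).symm (PLocal.Affine.elt v g)).1) * _ = _
    rw [show (PLocal.Affine.eltEquiv F).symm (PLocal.Affine.elt v g) = (v, g) from
      (PLocal.Affine.eltEquiv F).symm_apply_apply (v, g)]
  let Φ : ↥(qdOver F) →* E.G := MonoidHom.mk' Φ0 fun y y' => by
    obtain ⟨v, g, rfl⟩ := PLocal.Affine.exists_elt_eq y
    obtain ⟨v', g', rfl⟩ := PLocal.Affine.exists_elt_eq y'
    rw [PLocal.Affine.elt_mul, hΦelt, hΦelt, hΦelt, hwv_add, map_mul, map_mul, Subgroup.coe_mul,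
      mul_assoc, mul_assoc, ← mul_assoc (E.ι (wv (g.1.mulVec v'))), ← hconj, mul_assoc]
  have hΦT : ∀ v g t, t ∈ E.T → Φ0 (PLocal.Affine.elt v g) = E.ι t → g = 1 ∧ wv v = t := by
    intro v g t ht he'
    rw [hΦelt] at he'
    have h1 : ρ (E.ι (wv v) * (sC.symm g : E.G)) = ρ (E.ι t) := by rw [he']
    have hkT : ∀ t ∈ E.T, ρ (E.ι t) = 1 := fun t ht => by
      rw [← MonoidHom.mem_ker, hk]; exact ht
    rw [map_mul, hkT _ (E.V_le (hwv v).1), hkT t ht, one_mul,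
      show ρ (sC.symm g : E.G) = g from sC.apply_symm_apply g] at h1
    subst h1
    rw [map_one, Subgroup.coe_one, mul_one] at he'
    exact ⟨rfl, E.inj he'⟩
  have hinj : Function.Injective Φ := (injective_iff_map_eq_one _).2 fun y hy => by
    obtain ⟨v, g, rfl⟩ := PLocal.Affine.exists_elt_eq y
    obtain ⟨rfl, h1⟩ := hΦT v g 1 (one_mem _) (by rw [map_one]; exact hy)
    have : v = 0 := by rw [← hfwv v, h1, hf1]
    rw [this, PLocal.Affine.elt_one]
  refine ⟨Φ.range, E.Zc.map E.ι, ⟨le_top, le_top, ?_, ?_, ?_⟩, ⟨?_, ?_⟩,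
    ⟨(MonoidHom.ofInjective hinj).symm⟩⟩
  · rintro a - _ ⟨c, hc', rfl⟩
    exact Subgroup.mem_center_iff.1 hc'.2 a
  · refine (Subgroup.eq_bot_iff_forall _).2 ?_
    rintro _ ⟨⟨y, rfl⟩, c, hc', he'⟩
    obtain ⟨v, g, rfl⟩ := PLocal.Affine.exists_elt_eq y
    obtain ⟨rfl, h1⟩ := hΦT v g c (E.V_le (hZcV hc')) he'.symm
    show Φ0 _ = 1
    rw [hΦelt, h1, hWZ c (h1 ▸ hwv v) hc', map_one, map_one, Subgroup.coe_one, one_mul]
  · refine eq_top_iff.2 fun g _ => ?_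
    obtain ⟨⟨⟨k, hk'⟩, c⟩, rfl⟩ := hC.2 g
    rw [SetLike.mem_coe, ← hVι] at hk'
    obtain ⟨v, hv, rfl⟩ := hk'
    obtain ⟨w, hw, hfx⟩ := hsplit v (E.V_le hv)
    have hd : w⁻¹ * v ∈ E.Zc := hfix _ (mul_mem (inv_mem hw.1) hv) hfx
    have hwe : wv (f w) = w := hWinj _ (hwv _) w hw (hfwv _)
    show E.ι v * (c : E.G) ∈ _
    have hsplit' : E.ι v * (c : E.G) = E.ι w * (c : E.G) * E.ι (w⁻¹ * v) := by
      rw [mul_assoc, Subgroup.mem_center_iff.1 hd.2 (c : E.G), ← mul_assoc, ← map_mul,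
        mul_inv_cancel_left]
    rw [hsplit']
    refine Subgroup.mul_mem_sup ⟨PLocal.Affine.elt (f w) (sC c), ?_⟩ ⟨_, hd, rfl⟩
    show Φ0 _ = _
    rw [hΦelt, hwe, MulEquiv.symm_apply_apply]
  · exact ⟨⟨fun a b => Subtype.ext (by
      obtain ⟨c, hc', e'⟩ := a.2
      show (a : E.G) * b = b * a
      rw [← e']
      exact (Subgroup.mem_center_iff.1 hc'.2 (b : E.G)).symm)⟩⟩
  · rintro _ ⟨c, hc', rfl⟩
    rw [← map_pow, E.V_pow_one hB H.zp (hZcV hc'), map_one]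

/-- A maximal local subgroup with a rank one quotient that is not pushed up is `Qd × E`. -/
theorem maximal_local_qd {H : Type u} [Group H] [Finite H] (hp : 5 ≤ p) (G : Subgroup H)
    (hmax : ∀ R : Subgroup H, IsPGroup p ↥R → R ≠ ⊥ → G ≤ Subgroup.normalizer (R : Set H) →
      Subgroup.normalizer (R : Set H) = G)
    (P : Sylow p ↥G)
    (hE₁ : Subgroup.centralizer (Cfsg.pCore p ↥G : Set ↥G) ≤ Cfsg.pCore p ↥G)
    (hE₂ : ∃! M : Subgroup ↥G, IsCoatom M ∧ (P : Subgroup ↥G) ≤ M) (K : Subgroup ↥G) [K.Normal]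
    (F : Type) [Field F] [Fintype F] (n : ℕ) (hn : 1 ≤ n) (hF : Fintype.card F = p ^ n)
    (hE₃ : Nonempty (↥G ⧸ K ≃* Matrix.ProjectiveSpecialLinearGroup (Fin 2) F))
    (hN : ¬ Subgroup.normalizer (((P : Subgroup ↥G).map G.subtype : Subgroup H) : Set H) ≤ G) :
    ∃ G₀ E₀ : Subgroup H, Cfsg.IsInternalDirectProduct G₀ E₀ G ∧
      Cfsg.IsElementaryAbelian p E₀ ∧ Nonempty (↥G₀ ≃* ↥(Cfsg.qdOver F)) := by
  classical
  haveI : CharP F p := charP_of_card_eq_prime_pow hF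
  set PH := (P : Subgroup ↥G).map G.subtype with hPH
  set T := ↥(P : Subgroup ↥G)
  let eP : T ≃* ↥PH := (P : Subgroup ↥G).equivMapOfInjective G.subtype G.subtype_injective
  have heP : ∀ s : T, ((eP s : ↥PH) : H) = ((s : ↥G) : H) := fun s =>
    Subgroup.coe_equivMapOfInjective_apply _ _ _ s
  have hpH : ∀ R : Subgroup T, IsPGroup p ↥((R.map (P : Subgroup ↥G).subtype).map G.subtype) :=
    fun R => ((P.2.to_subgroup R).map _).map _
  -- automorphisms of `S` induced by its normaliser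
  let au : ∀ n : H, n ∈ Subgroup.normalizer (PH : Set H) → (T ≃* T) := fun n hn =>
    eP.trans ((Subgroup.normalizerMonoidHom PH ⟨n, hn⟩).trans eP.symm)
  have hau : ∀ n hn (s : T), ((au n hn s : ↥G) : H) = n * ((s : ↥G) : H) * n⁻¹ := by
    intro n hn s
    rw [← heP (au n hn s)]
    simp only [au, MulEquiv.trans_apply, MulEquiv.apply_symm_apply]
    rw [← heP s]
    rfl
  -- nothing characteristic is normal
  have hd : ∀ R : Subgroup T, R ≠ ⊥ → R.Characteristic →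
      ¬ (R.map (P : Subgroup ↥G).subtype).Normal := by
    intro R hR hc hnorm
    set RH := (R.map (P : Subgroup ↥G).subtype).map G.subtype with hRH
    have hne : RH ≠ ⊥ := by
      rw [hRH, Ne, Subgroup.map_eq_bot_iff_of_injective _ G.subtype_injective,
        Subgroup.map_eq_bot_iff_of_injective _ (Subgroup.subtype_injective _)]
      exact hR
    have hGle : G ≤ Subgroup.normalizer (RH : Set H) := by
      intro g hg
      rw [Subgroup.mem_normalizer_iff_map_conj_eq]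
      refine Subgroup.eq_of_le_of_card_ge ?_ (CD.card_cj g RH).ge
      rintro _ ⟨_, ⟨x, hx, rfl⟩, rfl⟩
      exact ⟨⟨g, hg⟩ * x * ⟨g, hg⟩⁻¹, hnorm.conj_mem x hx ⟨g, hg⟩, rfl⟩
    refine hN fun n hn => ?_
    rw [← hmax RH (hpH R) hne hGle, Subgroup.mem_normalizer_iff_map_conj_eq]
    refine Subgroup.eq_of_le_of_card_ge ?_ (CD.card_cj n RH).ge
    rintro _ ⟨_, ⟨_, ⟨r, hr, rfl⟩, rfl⟩, rfl⟩
    exact ⟨_, ⟨au n hn r, (Subgroup.characteristic_iff_map_le.1 hc (au n hn)) ⟨r, hr, rfl⟩, rfl⟩,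
      hau n hn r⟩
  have hsi : Situ p (P : Subgroup ↥G).subtype :=
    ⟨⟨P, (Subgroup.range_subtype _).symm⟩, hE₁, by rw [Subgroup.range_subtype]; exact hE₂, K,
      inferInstance, F, inferInstance, inferInstance, n, hF, hE₃⟩
  obtain ⟨-, -, -, -, hz, hj, H0⟩ := exists_hd P hsi hd
  obtain ⟨g, h, h', hset, hs, -, ⟨Q⟩⟩ := exists_par P hE₁ hE₂ K F n hF hE₃ hz hj
  have HH : HD (Emb.mk ↥G (P : Subgroup ↥G).subtype (Subgroup.subtype_injective _)
      (Cfsg.pCore p ↥G) hset hs g h h' hz hj : Emb p T) := ⟨hsi, hd⟩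
  set E : Emb p T :=
    Emb.mk ↥G (P : Subgroup ↥G).subtype (Subgroup.subtype_injective _) (Cfsg.pCore p ↥G) hset hs g h
      h' hz hj with hE
  have hB : Base p T := HH.base
  have hc := HH.frattini_le_center_of_ne_three (by omega)
  obtain ⟨⟨ρ, hρ, hk, hu', hl'⟩, -⟩ :=
    Emb.quotient_and_factors hB (fun _ => HH.zp) HH.not_normal hE₁ rfl Q
  obtain ⟨ρV, f, hfm, hfB, hfs, hfc, hu, hl⟩ := (E.sect_V hB).exists_rep Q
  have hρe : ρV.ker = E.T0 := by rw [rep_unique E Q hu hl hu' hl']; exact hk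
  have hq : Nat.card F = p ^ n := by rw [Nat.card_eq_fintype_card, hF]
  have hq5 : p ≤ Nat.card F := hq ▸ Nat.le_self_pow (by omega) p
  -- `N_H(G) = G`
  set T0H := (Cfsg.pCore p ↥G).map G.subtype with hT0H
  have hT0ne : T0H ≠ ⊥ := by
    rw [hT0H, Ne, Subgroup.map_eq_bot_iff_of_injective _ G.subtype_injective]
    intro hb
    refine hset.ne fun x _ => ?_
    refine hE₁ (Subgroup.mem_centralizer_iff.2 fun y hy => ?_)
    rw [hb] at hy
    rw [Subgroup.mem_bot.1 hy, one_mul, mul_one]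
  have hT0le : G ≤ Subgroup.normalizer (T0H : Set H) := by
    intro g hg
    rw [Subgroup.mem_normalizer_iff_map_conj_eq]
    refine Subgroup.eq_of_le_of_card_ge ?_ (CD.card_cj g T0H).ge
    rintro _ ⟨_, ⟨x, hx, rfl⟩, rfl⟩
    exact ⟨⟨g, hg⟩ * x * ⟨g, hg⟩⁻¹,
      (inferInstance : (Cfsg.pCore p ↥G).Normal).conj_mem x hx ⟨g, hg⟩, rfl⟩
  have hself : Subgroup.normalizer (G : Set H) ≤ G := by
    intro n hn
    rw [← hmax T0H ((isPGroup_pCore (G := ↥G) (p := p)).map _) hT0ne hT0le,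
      Subgroup.mem_normalizer_iff_map_conj_eq]
    let c : ↥G ≃* ↥G := Subgroup.normalizerMonoidHom G ⟨n, hn⟩
    refine Subgroup.eq_of_le_of_card_ge ?_ (CD.card_cj n T0H).ge
    rintro _ ⟨_, ⟨x, hx, rfl⟩, rfl⟩
    exact ⟨c x, (CfsgLib.Base.map_pCore_mulEquiv c).le ⟨x, hx, rfl⟩, rfl⟩
  -- a normalising element moving `V` out of `T`
  obtain ⟨n₀, hn₀, hn₀G, hmove⟩ : ∃ n₀, ∃ hn₀ : n₀ ∈ Subgroup.normalizer (PH : Set H),
      n₀ ∉ G ∧ ¬ E.V.map (au n₀ hn₀).toMonoidHom ≤ E.T := by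
    by_contra hcon
    push Not at hcon
    set X : Subgroup T := ⨆ m : Subgroup.normalizer (PH : Set H),
      E.V.map (au m.1 m.2).toMonoidHom with hX
    have hVX : E.V ≤ X := by
      intro v hv
      refine Subgroup.mem_iSup_of_mem ⟨1, one_mem _⟩ ⟨v, hv, Subtype.ext (Subtype.ext ?_)⟩
      show ((au 1 (one_mem _) v : ↥G) : H) = _
      rw [hau, one_mul, inv_one, mul_one]
    have hXT : X ≤ E.T := by
      refine iSup_le fun m => ?_
      by_cases hm : (m : H) ∈ G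
      · intro y hy
        obtain ⟨v, hv, rfl⟩ := hy
        have : ((au m.1 m.2 v : T) : ↥G) = (⟨m, hm⟩ : ↥G) * ((v : T) : ↥G) * (⟨m, hm⟩ : ↥G)⁻¹ :=
          Subtype.ext (hau m.1 m.2 v)
        show ((au m.1 m.2 v : T) : ↥G) ∈ Cfsg.pCore p ↥G
        rw [this]
        exact (inferInstance : (Cfsg.pCore p ↥G).Normal).conj_mem _ (E.V_le hv) _
      · exact hcon m.1 m.2 hm
    have hXi : E.Inv X := ⟨hXT, fun k x hx => by
      have := mul_mem (hVX (E.fx_T hB hc (hXT hx) k)) hx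
      rwa [inv_mul_cancel_right] at this⟩
    have hXn := Emb.Inv.map_normal E hXi
    set XH := (X.map (P : Subgroup ↥G).subtype).map G.subtype with hXH
    have hne : XH ≠ ⊥ := by
      rw [hXH, Ne, Subgroup.map_eq_bot_iff_of_injective _ G.subtype_injective,
        Subgroup.map_eq_bot_iff_of_injective _ (Subgroup.subtype_injective _)]
      intro hb
      have hz0 : Subgroup.center T = ⊥ := le_bot_iff.1 ((E.center_le_V.trans hVX).trans hb.le)
      exact E.zne (by rw [hz0, Subgroup.map_bot]; exact bot_le)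
    have hGle : G ≤ Subgroup.normalizer (XH : Set H) := by
      intro g hg
      rw [Subgroup.mem_normalizer_iff_map_conj_eq]
      refine Subgroup.eq_of_le_of_card_ge ?_ (CD.card_cj g XH).ge
      rintro _ ⟨_, ⟨x, hx, rfl⟩, rfl⟩
      exact ⟨⟨g, hg⟩ * x * ⟨g, hg⟩⁻¹, hXn.conj_mem x hx ⟨g, hg⟩, rfl⟩
    refine hN fun n' hn' => ?_
    rw [← hmax XH (hpH X) hne hGle, Subgroup.mem_normalizer_iff_map_conj_eq]
    refine Subgroup.eq_of_le_of_card_ge ?_ (CD.card_cj n' XH).ge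
    rintro _ ⟨_, ⟨_, ⟨x, hx, rfl⟩, rfl⟩, rfl⟩
    refine ⟨_, ⟨au n' hn' x, ?_, rfl⟩, hau n' hn' x⟩
    have hle : X.map (au n' hn').toMonoidHom ≤ X := by
      rw [hX, Subgroup.map_iSup]
      refine iSup_le fun m => ?_
      refine le_iSup_of_le ⟨n' * m, mul_mem hn' m.2⟩ ?_
      rintro _ ⟨_, ⟨v, hv, rfl⟩, rfl⟩
      refine ⟨v, hv, Subtype.ext (Subtype.ext ?_)⟩
      show ((au (n' * m) _ v : ↥G) : H) = ((au n' hn' (au m.1 m.2 v) : ↥G) : H)
      rw [hau, hau, hau]; group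
    exact hle ⟨x, hx, rfl⟩
  set α := au n₀ hn₀
  have hZ : ∀ r ∈ E.Zc, α r ∈ E.Zc → r = 1 := by
    intro r hr hαr
    by_contra hne
    refine hn₀G (hself ?_)
    set rH : H := (((r : T) : ↥G) : H) with hrH
    have hfix : ∀ r' ∈ E.Zc, r' ≠ 1 →
        Subgroup.normalizer ((Subgroup.zpowers (((r' : T) : ↥G) : H) : Subgroup H) : Set H) = G := by
      intro r' hr' hne'
      refine hmax _ ?_ (fun hb => hne' ?_) ?_
      · have h1 : Subgroup.zpowers (((r' : T) : ↥G) : H) =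
            ((Subgroup.zpowers r').map (P : Subgroup ↥G).subtype).map G.subtype := by
          rw [MonoidHom.map_zpowers, MonoidHom.map_zpowers]; rfl
        rw [h1]; exact hpH _
      · exact Subtype.ext (Subtype.ext (Subgroup.zpowers_eq_bot.1 hb))
      · intro k hk
        have hcomm := congrArg Subtype.val (Subgroup.mem_center_iff.1 hr'.2 (⟨k, hk⟩ : ↥G))
        refine Subgroup.centralizer_le_normalizer _ ?_
        rw [Subgroup.mem_centralizer_iff]
        intro y hy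
        obtain ⟨i, rfl⟩ := hy
        exact ((Commute.zpow_left (show Commute (((r' : T) : ↥G) : H) k from hcomm.symm) i)).eq
    have hne' : α r ≠ 1 := fun h1 => hne (by simpa using h1)
    have h1 := hfix r hr hne
    have h2 := hfix _ hαr hne'
    rw [show (((α r : T) : ↥G) : H) = n₀ * rH * n₀⁻¹ from hau n₀ hn₀ r] at h2
    rw [Subgroup.mem_normalizer_iff_map_conj_eq]
    refine Subgroup.eq_of_le_of_card_ge ?_ (CD.card_cj n₀ G).ge
    rintro _ ⟨k, hk, rfl⟩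
    show n₀ * k * n₀⁻¹ ∈ G
    rw [← h1, SetLike.mem_coe, Subgroup.mem_normalizer_iff_map_conj_eq] at hk
    rw [← h2, Subgroup.mem_normalizer_iff_map_conj_eq]
    rw [show n₀ * rH * n₀⁻¹ = (MulAut.conj n₀).toMonoidHom rH from rfl, ← MonoidHom.map_zpowers]
    conv_rhs => rw [← hk]
    rw [Subgroup.map_map, Subgroup.map_map]
    congr 1
    ext y
    simp [mul_assoc]
  obtain ⟨G0, E0, ⟨-, -, hcm, hinf, hsup⟩, hel, ⟨e⟩⟩ := HH.qd_structure Q hp (by omega) hc
    (surjective_of_rep E Q hu hl) hρe hfm hfB hfs hfc hu α hmove hZ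
  refine ⟨G0.map G.subtype, E0.map G.subtype, ⟨Subgroup.map_subtype_le _, Subgroup.map_subtype_le _,
    ?_, ?_, ?_⟩, ⟨?_, ?_⟩,
    ⟨(G0.equivMapOfInjective G.subtype G.subtype_injective).symm.trans e⟩⟩
  · rintro _ ⟨a, ha, rfl⟩ _ ⟨b, hb, rfl⟩
    exact congrArg Subtype.val (hcm a ha b hb)
  · rw [← Subgroup.map_inf _ _ _ G.subtype_injective, hinf, Subgroup.map_bot]
  · rw [← Subgroup.map_sup, hsup, ← MonoidHom.range_eq_map, Subgroup.range_subtype]
  · exact ⟨⟨fun a b => Subtype.ext (by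
      obtain ⟨a', ha, ea⟩ := a.2
      obtain ⟨b', hb, eb⟩ := b.2
      show (a : H) * b = b * a
      rw [← ea, ← eb]
      exact congrArg (fun x => ((x : ↥E0) : ↥G).1) (hel.1.is_comm.comm ⟨a', ha⟩ ⟨b', hb⟩))⟩⟩
  · rintro _ ⟨a, ha, rfl⟩
    rw [← map_pow, hel.2 a ha, map_one]

end CfsgLib.LocalEven.GN
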