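import Cfsg.Agent.Lib.LocalEven.GN.Facts

/-!
Large abelian subgroups, minimal centrally large subgroups, and when conjugation splits.
-/

set_option autoImplicit false
set_option linter.unusedSectionVars false

namespace CfsgLib.LocalEven.GN

open Cfsg
open scoped commutatorElement Pointwise
open CD (cj cen zOf)

universe u

variable {p : ℕ} [Fact p.Prime] {S : Type u} [Group S] [Finite S]

theorem large_sSup {s : Set (Subgroup S)} (hs : s.Nonempty)
    (h : ∀ Q ∈ s, IsCentralizerLarge Q) : IsCentralizerLarge (sSup s) := by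
  have hfin : s.Finite := Set.toFinite s
  induction s, hfin using Set.Finite.induction_on with
  | empty => exact absurd hs (by simp)
  | @insert a t _ _ ih =>
    rw [sSup_insert]
    rcases t.eq_empty_or_nonempty with rfl | hne
    · simpa using h a (by simp)
    · exact (CD.large_sup_inf (h a (by simp)) (ih hne fun Q hQ => h Q (by simp [hQ]))).2.1

/-- An abelian subgroup of largest order against an abelian large one. -/
theorem cap {A U : Subgroup S} (hA : A ∈ maxAbelianSubgroups S) (hU : IsCentralizerLarge U)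
    (hUc : U ≤ cen U) :
    ((cen (A ⊓ U) : Subgroup S) : Set S) = (A : Set S) * ((cen U : Subgroup S) : Set S) ∧
      IsCentralizerLarge (A ⊓ U) ∧
      Nat.card A * Nat.card ↥(A ⊓ U) = Nat.card ↥(A ⊓ cen U) * Nat.card U := by
  have hAc : A ≤ cen A := CD.maxAb_isComm hA
  have hle : cen U ⊔ A ≤ cen (A ⊓ U) :=
    sup_le (CD.cen_anti inf_le_right) (hAc.trans (CD.cen_anti inf_le_left))
  set A2 := (A ⊓ cen U) ⊔ U with hA2
  have hUA : U ≤ cen (A ⊓ cen U) := (CD.le_cen_cen U).trans (CD.cen_anti inf_le_right)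
  have h1 : Nat.card A2 ≤ Nat.card A :=
    hA.2 A2 (Subgroup.le_centralizer_iff_isMulCommutative.1
      (CD.isComm_sup (inf_le_left.trans (hAc.trans (CD.cen_anti inf_le_left))) hUc hUA))
  have hinf : (A ⊓ cen U) ⊓ U = A ⊓ U :=
    le_antisymm (inf_le_inf_right _ inf_le_left) (le_inf (inf_le_inf_left _ hUc) inf_le_right)
  have h2 := Push.card_sup_inf_of_le_cen hUA
  rw [hinf, ← hA2] at h2
  have h2' : Nat.card ↥(A ⊓ cen U) * Nat.card U ≤ Nat.card A * Nat.card ↥(A ⊓ U) :=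
    h2.symm.le.trans (Nat.mul_le_mul_right _ h1)
  set P := Nat.card ((A : Set S) * ((cen U : Subgroup S) : Set S) : Set S)
  have h3 : P * Nat.card ↥(A ⊓ cen U) = Nat.card A * Nat.card (cen U) := CD.card_mul_set A (cen U)
  have hsub : (A : Set S) * ((cen U : Subgroup S) : Set S) ⊆ ((cen (A ⊓ U) : Subgroup S) : Set S) := by
    rintro _ ⟨a, ha, d, hd, rfl⟩
    exact mul_mem (hle (Subgroup.mem_sup_right ha)) (hle (Subgroup.mem_sup_left hd))
  have h4 : P ≤ Nat.card ↥(cen (A ⊓ U)) := Nat.card_mono (Set.toFinite _) hsub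
  have h5 : Nat.card ↥(A ⊓ U) * Nat.card ↥(cen (A ⊓ U)) ≤ maxCentralizerProduct S :=
    CD.meas_le (A ⊓ U)
  have hm : Nat.card U * Nat.card (cen U) = maxCentralizerProduct S := hU
  have h6 : maxCentralizerProduct S ≤ Nat.card ↥(A ⊓ U) * P := by
    refine Nat.le_of_mul_le_mul_right ?_ (Nat.card_pos (α := ↥(A ⊓ cen U)))
    calc maxCentralizerProduct S * Nat.card ↥(A ⊓ cen U)
        = (Nat.card ↥(A ⊓ cen U) * Nat.card U) * Nat.card (cen U) := by rw [← hm]; ring
      _ ≤ Nat.card A * Nat.card ↥(A ⊓ U) * Nat.card (cen U) := Nat.mul_le_mul_right _ h2'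
      _ = Nat.card ↥(A ⊓ U) * P * Nat.card ↥(A ⊓ cen U) := by rw [mul_assoc _ P, h3]; ring
  have h7 : Nat.card ↥(cen (A ⊓ U)) ≤ P :=
    Nat.le_of_mul_le_mul_left (h5.trans h6) Nat.card_pos
  refine ⟨(Set.eq_of_subset_of_ncard_le hsub ?_ (Set.toFinite _)).symm,
    CD.large_of_le (h6.trans (Nat.mul_le_mul_left _ h4)), le_antisymm ?_ h2'⟩
  · rw [← Nat.card_coe_set_eq, ← Nat.card_coe_set_eq]; exact h7
  · refine Nat.le_of_mul_le_mul_right ?_ (Nat.card_pos (α := cen U))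
    calc Nat.card A * Nat.card ↥(A ⊓ U) * Nat.card (cen U)
        = Nat.card ↥(A ⊓ U) * P * Nat.card ↥(A ⊓ cen U) := by rw [mul_assoc _ P, h3]; ring
      _ ≤ maxCentralizerProduct S * Nat.card ↥(A ⊓ cen U) :=
          Nat.mul_le_mul_right _ ((Nat.mul_le_mul_left _ h4).trans h5)
      _ = Nat.card ↥(A ⊓ cen U) * Nat.card U * Nat.card (cen U) := by rw [← hm]; ring

/-- An abelian large subgroup lies in the join of the minimal centrally large subgroups. -/
theorem le_mclJoin {A : Subgroup S} (hA : IsCentralizerLarge A) (hc : A ≤ cen A) :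
    A ≤ minimalCentrallyLargeJoin S := by
  obtain ⟨hl, he⟩ := CD.large_cen hA
  have hcl : IsCentrallyLarge (cen A) := CD.cl_iff.2 ⟨hl, by rw [he]; exact hc⟩
  obtain ⟨Q, hQA, hQ⟩ := CD.exists_mcl_le hcl
  refine le_trans ?_ (le_sSup hQ : Q ≤ minimalCentrallyLargeJoin S)
  exact le_trans ((CD.le_cen_cen A).trans (CD.cen_anti hQA)) (CD.cl_cen_le hQ.1)

theorem mclJoin_char : (minimalCentrallyLargeJoin S).Normal :=
  ⟨fun x hx s => by
    have hle : cj s (minimalCentrallyLargeJoin S) ≤ minimalCentrallyLargeJoin S :=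
      Subgroup.map_le_iff_le_comap.2 (sSup_le fun Q hQ => Subgroup.map_le_iff_le_comap.1
        (le_sSup (CD.mcl_cj s hQ)))
    exact hle ⟨x, hx, rfl⟩⟩

namespace Emb

variable (E : Emb p S)

theorem T_cl (hB : Base p S) : IsCentrallyLarge E.T := CD.cl_iff.2 ⟨E.T_large hB, E.V_le⟩

theorem cs_cs_inv {R : Subgroup S} (hR : R ≤ E.T) (g : E.G) : E.cs g (E.cs g⁻¹ R) = R := by
  refine le_antisymm (fun x hx => ?_) fun x hx =>
    (E.mem_cs (E.cs_le hR _)).2 ⟨_, E.c_mem_cs hR _ hx, E.c_c_inv (hR hx) g⟩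
  obtain ⟨r, hr, rfl⟩ := (E.mem_cs (E.cs_le hR _)).1 hx
  obtain ⟨r', hr', rfl⟩ := (E.mem_cs hR).1 hr
  rwa [E.c_c_inv (hR hr')]

theorem cl_cs (g : E.G) {R : Subgroup S} (hR : IsCentrallyLarge R) (hRT : R ≤ E.T) :
    IsCentrallyLarge (E.cs g R) := by
  have h : Nat.card R * Nat.card (Subgroup.center R) = maxCentralProduct S := hR
  show Nat.card (E.cs g R) * Nat.card (Subgroup.center (E.cs g R)) = maxCentralProduct S
  rw [← h, CD.card_center_eq, CD.card_center_eq, ← Push.card_mul_zOf_map E.inj, E.map_cs hRT,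
    Push.card_zOf_cj, Push.card_mul_zOf_map E.inj]

theorem mcl_cs (g : E.G) {R : Subgroup S} (hR : IsMinimalCentrallyLarge R) (hRT : R ≤ E.T) :
    IsMinimalCentrallyLarge (E.cs g R) := by
  refine ⟨E.cl_cs g hR.1 hRT, fun Q hQ hcl => ?_⟩
  have hQT := hQ.trans (E.cs_le hRT g)
  have h1 : E.cs g⁻¹ Q ≤ R := by
    intro x hx
    obtain ⟨q, hq, rfl⟩ := (E.mem_cs hQT).1 hx
    obtain ⟨r, hr, rfl⟩ := (E.mem_cs hRT).1 (hQ hq)
    rwa [E.c_inv_c (hRT hr)]
  rw [← hR.2 _ h1 (E.cl_cs _ hcl hQT), E.cs_cs_inv hQT]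

/-- Some minimal centrally large subgroup is not in `T`. -/
def Good : Prop := ¬ minimalCentrallyLargeJoin S ≤ E.T

theorem good_data (hB : Base p S) (hg : E.Good) :
    ∃ Q : Subgroup S, IsMinimalCentrallyLarge Q ∧ ∃ b ∈ cen Q, b ∉ E.T := by
  by_contra h
  push Not at h
  refine hg (sSup_le fun Q hQ => ?_)
  refine (CD.mcl_eq_inf_sup hQ (E.T_cl hB)).ge.trans (sup_le inf_le_right fun x hx => h Q hQ x hx)

theorem splits_of_good (hB : Base p S) (hg : E.Good) {U : Subgroup S}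
    (hU : IsCentralizerLarge U) : E.Splits U := by
  obtain ⟨Q, hQ, b, hb, hbT⟩ := E.good_data hB hg
  obtain ⟨hl, he⟩ := CD.large_cen (CD.cl_large hQ.1)
  obtain ⟨hs, -, -, hc, -⟩ := CD.large_sup_inf hl hU
  refine ⟨cen Q, b, hb, hbT, ?_, hc.le, fun u hu => ?_⟩
  · rw [he]; exact CD.cl_cen_le hQ.1
  · rw [← hs]
    exact mul_mem (mul_mem (Subgroup.mem_sup_left hb) (Subgroup.mem_sup_right hu))
      (inv_mem (Subgroup.mem_sup_left hb))

/-- Inside an invariant abelian subgroup an abelian subgroup of largest order will do. -/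
theorem splits_of_maxAb {A : Subgroup S} (hA : A ∈ maxAbelianSubgroups S) {b : S} (hb : b ∈ A)
    (hbT : b ∉ E.T) {U N : Subgroup S} (hU : IsCentralizerLarge U) (hUN : U ≤ N)
    (hN : N ≤ cen N) (hAN : ∀ a ∈ A, ∀ x ∈ N, a * x * a⁻¹ ∈ N) : E.Splits U := by
  have hUc : U ≤ cen U := hUN.trans (hN.trans (CD.cen_anti hUN))
  obtain ⟨hcap, -, hn⟩ := cap hA hU hUc
  refine ⟨A, b, hb, hbT, CD.maxAb_isComm hA, ?_, ?_⟩
  · rw [CD.cen_maxAb hA]; exact hcap.le
  set W := sSup ((fun a => cj a U) '' (A : Set S)) with hW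
  have hmem : ∀ a ∈ A, cj a U ≤ W := fun a ha => le_sSup ⟨a, ha, rfl⟩
  have hUW : U ≤ W := by
    have := hmem 1 (one_mem _)
    rwa [CD.cj_one] at this
  have hWN : W ≤ N := sSup_le (by
    rintro _ ⟨a, ha, rfl⟩ _ ⟨u, hu, rfl⟩
    exact hAN a ha u (hUN hu))
  have hWc : W ≤ cen W := hWN.trans (hN.trans (CD.cen_anti hWN))
  have hWl : IsCentralizerLarge W := large_sSup ⟨_, 1, one_mem A, rfl⟩ (by
    rintro _ ⟨a, -, rfl⟩; exact CD.large_cj a hU)
  obtain ⟨-, -, hn'⟩ := cap hA hWl hWc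
  have hcen : A ⊓ cen W = A ⊓ cen U := by
    refine le_antisymm (inf_le_inf_left _ (CD.cen_anti hUW)) (le_inf inf_le_left ?_)
    refine Subgroup.le_centralizer_iff.1 (sSup_le ?_)
    rintro _ ⟨a, ha, rfl⟩ _ ⟨u, hu, rfl⟩ a' ⟨ha', ha'U⟩
    show a' * (MulAut.conj a u) = MulAut.conj a u * a'
    have c1 : Commute a' u := ((ha'U : a' ∈ cen U) u hu).symm
    have c2 : Commute a' a := CD.maxAb_isComm hA ha a' ha'
    rw [MulAut.conj_apply]
    exact ((c2.mul_right c1).mul_right c2.inv_right).eq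
  rw [hcen] at hn'
  have hset : (U : Set S) * ((A ⊓ W : Subgroup S) : Set S) = (W : Set S) := by
    refine Set.eq_of_subset_of_ncard_le ?_ ?_ (Set.toFinite _)
    · rintro _ ⟨u, hu, a, ha, rfl⟩
      exact mul_mem (hUW hu) ha.2
    rw [← Nat.card_coe_set_eq, ← Nat.card_coe_set_eq]
    have hi : U ⊓ (A ⊓ W) = A ⊓ U := le_antisymm (le_inf (inf_le_right.trans inf_le_left) inf_le_left)
      (le_inf inf_le_right (inf_le_inf_left _ hUW))
    have h1 := CD.card_mul_set U (A ⊓ W)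
    rw [hi] at h1
    refine Nat.le_of_mul_le_mul_right ?_ (Nat.mul_pos (Nat.card_pos (α := ↥(A ⊓ cen U)))
      (Nat.card_pos (α := U)))
    calc Nat.card ↥W * (Nat.card ↥(A ⊓ cen U) * Nat.card U)
        = Nat.card A * Nat.card ↥(A ⊓ W) * Nat.card U := by rw [hn']; ring
      _ = Nat.card A * (Nat.card ((U : Set S) * ((A ⊓ W : Subgroup S) : Set S) : Set S) *
            Nat.card ↥(A ⊓ U)) := by rw [h1]; ring
      _ = _ := by rw [← hn]; ring
      _ ≤ _ := le_rfl
  intro u hu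
  have h1 : b * u * b⁻¹ ∈ (W : Set S) := hmem b hb ⟨u, hu, rfl⟩
  rw [← hset] at h1
  obtain ⟨u', hu', a, ha, e⟩ := h1
  exact ⟨a, ha.1, u', hu', (hWc (hUW hu') a ha.2).trans e⟩

/-- The centraliser of the join of the minimal centrally large subgroups, when it lies in `T`. -/
def N0 (_ : Emb p S) : Subgroup S := cen (minimalCentrallyLargeJoin S)

theorem bad_facts (hB : Base p S) (hbad : minimalCentrallyLargeJoin S ≤ E.T) :
    E.Inv E.N0 ∧ E.V ≤ E.N0 ∧ E.N0 ≤ cen E.N0 := by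
  have hX := CD.cl_minimalJoin (G := S)
  have hV : E.V ≤ minimalCentrallyLargeJoin S := le_mclJoin (E.V_large hB) E.V_abelian
  have hXi : E.Inv (minimalCentrallyLargeJoin S) := by
    refine ⟨hbad, fun g x hx => ?_⟩
    have hle : minimalCentrallyLargeJoin S ≤ E.cs g⁻¹ (minimalCentrallyLargeJoin S) := by
      refine sSup_le fun R (hR : IsMinimalCentrallyLarge R) => ?_
      have hRX : R ≤ minimalCentrallyLargeJoin S := le_sSup hR
      intro r hr
      refine (E.mem_cs hbad).2 ⟨E.c g r, ?_, E.c_inv_c (hbad (hRX hr)) g⟩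
      exact (le_sSup (E.mcl_cs g hR (hRX.trans hbad)) : _ ≤ minimalCentrallyLargeJoin S)
        (E.c_mem_cs (hRX.trans hbad) g hr)
    obtain ⟨x', hx', rfl⟩ := (E.mem_cs hbad).1 (hle hx)
    rwa [E.c_c_inv (hbad hx')]
  exact ⟨E.inv_cen' hB hXi hV, CD.cen_anti hbad,
    (CD.cl_cen_le hX).trans (CD.le_cen_cen _)⟩

end Emb

end CfsgLib.LocalEven.GN
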