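import Cfsg.Agent.Lib.LocalEven.GN.Split

/-!
Two pushing-up situations on the same `S` with `V' ≤ T` and `V'` not central modulo `V`.
-/

set_option autoImplicit false
set_option linter.unusedSectionVars false

namespace CfsgLib.LocalEven.GN

open Cfsg
open scoped commutatorElement Pointwise
open CD (cj cen zOf)

universe u

variable {p : ℕ} [Fact p.Prime] {S : Type u} [Group S] [Finite S]

namespace Emb

variable (E : Emb p S)

theorem comm_mem_T (x y : S) : ⁅x, y⁆ ∈ E.T := by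
  rw [mem_T, map_commutatorElement]
  exact E.setup.comm (Subgroup.commutator_mem_commutator ⟨x, rfl⟩ ⟨y, rfl⟩)

theorem pow_mem_T (x : S) : x ^ p ∈ E.T := by
  rw [mem_T, map_pow]; exact E.setup.pow _ ⟨x, rfl⟩


end Emb

/-- The hypotheses of the main case. -/
structure Pair (E E' : Emb p S) : Prop where
  base : Base p S
  le : E'.V ≤ E.T
  c0 : ∃ x ∈ E'.V, ¬ E.Fx E.V x

/-- A large part of `V V'` above `V` with central commutators against `T`. -/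
structure Part (E E' : Emb p S) (Y0 : Subgroup S) : Prop where
  large : IsCentralizerLarge Y0
  vle : E.V ≤ Y0
  le : Y0 ≤ E.V ⊔ E'.V
  py : ∀ y ∈ Y0, ∀ t ∈ E.T, ⁅y, t⁆ ∈ E.Zc

namespace Pair

variable {E E' : Emb p S}

/-- `V V'`. -/
abbrev Y (_ : Pair E E') : Subgroup S := E.V ⊔ E'.V

variable (P : Pair E E')
include P

theorem le' : E.V ≤ E'.T := by
  rw [← E'.cen_V P.base]
  intro v hv x hx
  exact (E.V_comm hv (P.le hx)).symm

theorem inter : E.V ⊓ E'.V ≤ Subgroup.center S := by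
  rintro x ⟨hx, hx'⟩
  by_contra hZ
  have hTT : E.T = E'.T := by
    refine le_antisymm (fun t ht => ?_) fun t ht => ?_
    · exact E'.mem_T_of_comm P.base hx' hZ (E.V_comm hx ht).symm
    · exact E.mem_T_of_comm P.base hx hZ (E'.V_comm hx' ht).symm
  obtain ⟨y, hy, hny⟩ := P.c0
  refine hny (E.fx_of_mem E.V_inv ?_)
  show y ∈ cen E.T
  rw [hTT]; exact hy

theorem Y_large : IsCentralizerLarge P.Y :=
  (CD.large_sup_inf (E.V_large P.base) (E'.V_large P.base)).2.1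

theorem Y_le_T : P.Y ≤ E.T := sup_le E.V_le P.le

theorem Y_le_T' : P.Y ≤ E'.T := sup_le P.le' E'.V_le

theorem V_le_Y : E.V ≤ P.Y := le_sup_left

theorem V'_le_Y : E'.V ≤ P.Y := le_sup_right

theorem Y_le_z2 : P.Y ≤ z2 S := sup_le (E.V_le_z2 P.base) (E'.V_le_z2 P.base)

theorem center_le_Y : Subgroup.center S ≤ P.Y := E.center_le_V.trans le_sup_left

theorem Zc_le_Y : E.Zc ≤ P.Y := E.Zc_le_center.trans P.center_le_Y

theorem Y_normal : P.Y.Normal := ⟨fun y hy s => by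
  have h1 : s * y * s⁻¹ = ⁅y, s⁆⁻¹ * y := by group
  rw [h1]
  exact mul_mem (inv_mem (P.center_le_Y (mem_z2.1 (P.Y_le_z2 hy) s))) hy⟩

theorem Y_abelian : P.Y ≤ cen P.Y :=
  CD.isComm_sup E.V_abelian E'.V_abelian fun _ hx _ hv => E.V_comm hv (P.le hx)

theorem mem_Y {y : S} (hy : y ∈ P.Y) : ∃ v ∈ E.V, ∃ x ∈ E'.V, v * x = y := by
  rw [← SetLike.mem_coe, (CD.large_sup_inf (E.V_large P.base) (E'.V_large P.base)).1] at hy
  exact hy

theorem Y_pow {y : S} (hy : y ∈ P.Y) (F : Emb p S) : y ^ p ∈ F.Zc := by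
  obtain ⟨v, hv, x, hx, rfl⟩ := P.mem_Y hy
  rw [(show Commute v x from E.V_comm hv (P.le hx)).mul_pow]
  exact mul_mem (E.V_pow P.base hv F) (E'.V_pow P.base hx F)

theorem Y_pow_one (hzp : ∀ z ∈ Subgroup.center S, z ^ p = 1) {y : S} (hy : y ∈ P.Y) :
    y ^ p = 1 := by
  obtain ⟨v, hv, x, hx, rfl⟩ := P.mem_Y hy
  rw [(show Commute v x from E.V_comm hv (P.le hx)).mul_pow, E.V_pow_one P.base hzp hv,
    E'.V_pow_one P.base hzp hx, one_mul]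

theorem cen_Y : cen P.Y = E.T ⊓ E'.T := by
  rw [CD.cen_sup, E.cen_V P.base, E'.cen_V P.base]

theorem mem_M {m : S} (h : m ∈ cen P.Y) : m ∈ E.T ∧ m ∈ E'.T := by
  rw [P.cen_Y] at h; exact h

theorem prod_eq (s : S) : ∃ t ∈ E.T, ∃ t' ∈ E'.T, t * t' = s := by
  have h := (CD.large_sup_inf (E.V_large P.base) (E'.V_large P.base)).2.2.2.1
  rw [E.cen_V P.base, E'.cen_V P.base] at h
  have hs : s ∈ ((cen (E.V ⊓ E'.V) : Subgroup S) : Set S) := fun z hz =>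
    (Subgroup.mem_center_iff.1 (P.inter hz) s).symm
  rw [h] at hs
  exact hs

/-- `Y ∩ F = V`. -/
theorem fx_Y {y : S} (hy : y ∈ P.Y) (hfy : E.Fx E.V y) : y ∈ E.V := by
  obtain ⟨v, hv, x, hx, rfl⟩ := P.mem_Y hy
  refine mul_mem hv ?_
  by_contra hxV
  have hxT := P.le hx
  have hxZ : x ∉ Subgroup.center S := fun h => hxV (E.center_le_V h)
  have hfx : E.Fx E.V x := by
    have h := E.fx_mul E.V_inv (inv_mem (E.V_le hv)) (mul_mem (E.V_le hv) hxT)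
      (E.fx_of_mem E.V_inv (inv_mem hv)) hfy
    rwa [inv_mul_cancel_left] at h
  have hM : E.Inv (cen P.Y) := by
    refine ⟨fun m hm => (P.mem_M hm).1, fun g m hm => ?_⟩
    obtain ⟨hmT, hmT'⟩ := P.mem_M hm
    rw [P.cen_Y]
    refine ⟨E.c_mem hmT g, E'.mem_T_of_comm P.base hx hxZ ?_⟩
    have hn := hfx g⁻¹
    have hcomm : E.c g⁻¹ x * m = m * E.c g⁻¹ x := by
      have h1 : E.c g⁻¹ x = E.c g⁻¹ x * x⁻¹ * x := by group
      rw [h1, mul_assoc, E'.V_comm hx hmT', ← mul_assoc, E.V_comm hn hmT, mul_assoc]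
    have h2 := congrArg (E.c g) hcomm
    rw [E.c_mul (E.c_mem hxT _) hmT, E.c_mul hmT (E.c_mem hxT _), E.c_c_inv hxT] at h2
    exact h2.symm
  have hY : E.Inv P.Y := by
    refine ⟨P.Y_le_T, fun g y hy => ?_⟩
    rw [← (CD.large_cen P.Y_large).2]
    intro m hm
    have hmT := (P.mem_M hm).1
    have h := congrArg (E.c g) ((hM.2 g⁻¹ m hm : _ ∈ cen P.Y) y hy)
    rw [E.c_mul (P.Y_le_T hy) (E.c_mem hmT _), E.c_mul (E.c_mem hmT _) (P.Y_le_T hy),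
      E.c_c_inv hmT] at h
    exact h.symm
  obtain ⟨z, hz, hnz⟩ := P.c0
  obtain ⟨b, hb⟩ := E.exists_notMem
  refine hnz (E.hammer E.gen E.V_inv (C := (P.Y : Set S)) (fun w hw => P.Y_le_T hw)
    (fun w hw s => E.center_le_V (mem_z2.1 (P.Y_le_z2 hw) s)) hb (fun w hw => ?_) z
    (P.V'_le_Y hz))
  refine Subgroup.mem_sup_left (Subgroup.subset_closure ?_)
  have hw' := P.Y_normal.conj_mem _ (hY.2 E.g0 w hw) b
  exact ⟨_, hY.2 E.g0⁻¹ _ hw', E.c_c_inv (P.Y_le_T hw') _⟩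

theorem swap (h : ∃ v ∈ E.V, ¬ E'.Fx E'.V v) : Pair E' E := ⟨P.base, P.le', h⟩

theorem A_inf_V {A : Subgroup S} (hAc : A ≤ cen A) {b : S} (hbA : b ∈ A) (hbT : b ∉ E.T) :
    A ⊓ E.V ≤ Subgroup.center S := fun _ hv =>
  E.fix P.base hv.2 hbT (hAc hv.1 b hbA)

theorem cover {g : E.G} (hg : E.Gen g) {A : Subgroup S} (hAc : A ≤ cen A) {b : S} (hbA : b ∈ A)
    (hbT : b ∉ E.T) : A ⊓ E.cs g P.Y ≤ Subgroup.center S := by
  rintro y ⟨hyA, hy⟩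
  refine P.A_inf_V hAc hbA hbT ⟨hyA, ?_⟩
  obtain ⟨y0, hy0, rfl⟩ := (E.mem_cs P.Y_le_T).1 hy
  refine E.V_inv.2 g y0 (P.fx_Y hy0 ?_)
  refine E.hammer hg E.V_inv (C := {y0}) ?_ ?_ hbT ?_ y0 rfl
  · rintro x rfl; exact P.Y_le_T hy0
  · rintro x rfl s; exact E.center_le_V (mem_z2.1 (P.Y_le_z2 hy0) s)
  · rintro x rfl
    rw [show b * E.c g x = E.c g x * b from (hAc hyA b hbA), mul_inv_cancel_right]
    exact Subgroup.mem_sup_left (Subgroup.subset_closure ⟨_, rfl, rfl⟩)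

/-- A minimal centrally large subgroup outside `T` gives one outside `T'`. -/
theorem propagate (h : E.Good) : E'.Good := by
  intro hX
  have hB := P.base
  obtain ⟨Q, hQ, b, hb, hbT⟩ := E.good_data hB h
  set g := E.g0
  set A0 := cen Q with hA0
  obtain ⟨hA0l, hA0c⟩ := CD.large_cen (CD.cl_large hQ.1)
  have hA0ab : A0 ≤ cen A0 := by rw [hA0c]; exact CD.cl_cen_le hQ.1
  have hYT := P.Y_le_T
  have hUl := E.cs_large hB (g := g) P.Y_large P.V_le_Y hYT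
  obtain ⟨R0, hR0T, hR0⟩ := CD.exists_mcl_le (E.T_cl hB)
  have hsp := (CD.large_sup_inf hA0l hUl).2.2.2.1
  rw [hA0c] at hsp
  set A1 := (A0 ⊓ E.T) ⊔ E.V with hA1
  have hVA : E.V ≤ cen (A0 ⊓ E.T) := CD.cen_anti inf_le_right
  have hA1l : IsCentralizerLarge A1 :=
    (CD.large_sup_inf (CD.large_sup_inf hA0l (E.T_large hB)).2.2.1 (E.V_large hB)).2.1
  have hA1T : A1 ≤ E.T := sup_le inf_le_right E.V_le
  have hA1c : A1 ≤ cen A1 :=
    CD.isComm_sup (inf_le_left.trans (hA0ab.trans (CD.cen_anti inf_le_left))) E.V_abelian hVA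
  have hA1g : IsCentralizerLarge (E.cs g⁻¹ A1) := E.cs_large hB hA1l le_sup_right hA1T
  have hA1gc : E.cs g⁻¹ A1 ≤ cen (E.cs g⁻¹ A1) := by
    intro x hx y hy
    obtain ⟨r, hr, rfl⟩ := (E.mem_cs hA1T).1 hx
    obtain ⟨r', hr', rfl⟩ := (E.mem_cs hA1T).1 hy
    rw [← E.c_mul (hA1T hr') (hA1T hr), ← E.c_mul (hA1T hr) (hA1T hr'), hA1c hr r' hr']
  have hTc : ∀ t ∈ E.T, t ∈ cen (E.cs g P.Y) := by
    intro t ht
    have ht' : t ∈ ((cen (A0 ⊓ E.cs g P.Y) : Subgroup S) : Set S) := fun z hz =>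
      (Subgroup.mem_center_iff.1 (P.cover E.gen hA0ab hb hbT hz) t).symm
    rw [hsp] at ht'
    obtain ⟨α, hα, d, hd, rfl⟩ := ht'
    refine mul_mem ?_ hd
    have hdT : d ∈ E.T := E.cen_le_T hB (E.cen_cs_le P.V_le_Y hYT) hd
    have hαT : α ∈ E.T := by simpa using mul_mem ht (inv_mem hdT)
    have hα' : α ∈ ((Q ⊓ R0) ⊔ A0 : Subgroup S) := by
      rw [hA0, CD.mcl_eq_inf_sup hQ hR0.1]; exact hα
    rw [← SetLike.mem_coe, CD.sup_eq_mul_of_le_cen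
      (show A0 ≤ cen (Q ⊓ R0) from CD.cen_anti inf_le_left)] at hα'
    obtain ⟨r, hr, a, ha, rfl⟩ := hα'
    have hrT : r ∈ E.T := hR0T hr.2
    have haT : a ∈ E.T := by simpa using mul_mem (inv_mem hrT) hαT
    have h1 : E.c g⁻¹ (r * a) ∈ minimalCentrallyLargeJoin S := by
      rw [E.c_mul hrT haT]
      refine mul_mem ?_ (le_mclJoin hA1g hA1gc
        (E.c_mem_cs hA1T _ (Subgroup.mem_sup_left ⟨ha, haT⟩)))
      exact (le_sSup (E.mcl_cs g⁻¹ hR0 hR0T) : _ ≤ minimalCentrallyLargeJoin S)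
        (E.c_mem_cs hR0T _ hr.2)
    have h2 : E.c g⁻¹ (r * a) ∈ cen P.Y := by
      rw [P.cen_Y]; exact ⟨E.c_mem (mul_mem hrT haT) _, hX h1⟩
    intro u hu
    obtain ⟨y, hy, rfl⟩ := (E.mem_cs hYT).1 hu
    have h3 := congrArg (E.c g) (h2 y hy)
    rwa [E.c_mul (hYT hy) (E.c_mem (mul_mem hrT haT) _),
      E.c_mul (E.c_mem (mul_mem hrT haT) _) (hYT hy), E.c_c_inv (mul_mem hrT haT)] at h3
  obtain ⟨x, hx, hnx⟩ := P.c0
  refine hnx (E.fx_of_mem E.V_inv ?_)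
  have hxV : E.c g x ∈ E.V := fun t ht =>
    (hTc t ht _ (E.c_mem_cs hYT g (P.V'_le_Y hx))).symm
  have := E.V_inv.2 g⁻¹ _ hxV
  rwa [E.c_inv_c (P.le hx)] at this

/-- Conjugation splits on the side of `E'`. -/
theorem side {L : Subgroup S} (hL : IsCentralizerLarge L) (hVL : E'.V ≤ L) (hLT : L ≤ E'.T)
    (hbad : E.Inv E.N0 → P.Y ≤ E.N0 → L ≤ E.N0) (g : E'.G) : E'.Splits (E'.cs g L) := by
  have hB := P.base
  have hUl := E'.cs_large hB (g := g) hL hVL hLT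
  by_cases h : E'.Good
  · exact E'.splits_of_good hB h hUl
  obtain ⟨hi, hV, hN⟩ := E.bad_facts hB (not_not.1 fun h' => h (P.propagate h'))
  obtain ⟨hi', hV', -⟩ := E'.bad_facts hB (not_not.1 h)
  obtain ⟨A, hA, b, hb, hbT⟩ := E'.exists_maxAb
  have hn := Emb.Inv.normal E' hi'
  refine E'.splits_of_maxAb hA hb hbT hUl
    ((E'.cs_mono (hbad hi (sup_le hV hV')) g).trans (Emb.Inv.cs_eq E' hi' g).le) hN
    fun a _ x hx => hn.conj_mem x hx a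

/-- `[Y, T'] ≤ Zc'`. -/
theorem PY' {y : S} (hy : y ∈ P.Y) {t : S} (ht : t ∈ E'.T) : ⁅y, t⁆ ∈ E'.Zc := by
  by_cases h : ∃ v ∈ E.V, ¬ E'.Fx E'.V v
  · have P' := P.swap h
    have hcomm : P'.Y = P.Y := sup_comm _ _
    have hsp := P.side P.Y_large P.V'_le_Y P.Y_le_T' (fun _ h => h) E'.g0
    exact E'.key P.base E'.gen E'.V_inv hsp P.V'_le_Y P.Y_le_T'
      (fun w hw s => E'.center_le_V (mem_z2.1 (P.Y_le_z2 hw) s)) (W := (E'.T : Set S))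
      (fun _ h => h) (fun _ hw hf _ ht => E'.V_comm (P'.fx_Y (hcomm ▸ hw) hf) ht)
      (fun _ hw t _ => mem_z2.1 (P.Y_le_z2 hw) t) y hy t ht
  · push Not at h
    obtain ⟨v, hv, x, hx, rfl⟩ := P.mem_Y hy
    have h1 := E'.equi (N := E'.V) E'.T_inv (fun n hn w hw => E'.V_comm hn hw) (P.le' hv) (h v hv)
      (fun w _ => E.comm_V P.base hv w) ht
    rw [comm_mul_left, comm_eq_one (E'.V_comm hx ht), mul_one, mul_inv_cancel, one_mul]
    exact h1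

variable {Y0 : Subgroup S}

theorem part_le (hY : Part E E' Y0) : Y0 ≤ E.T := hY.le.trans P.Y_le_T

theorem PhY0 (hY : Part E E' Y0) {h : E.G} {y : S} (hy : y ∈ E.cs h Y0) {t : S} (ht : t ∈ E.T) :
    ⁅y, t⁆ ∈ E.Zc := by
  obtain ⟨y0, hy0, rfl⟩ := (E.mem_cs (P.part_le hY)).1 hy
  have h1 : ⁅E.c h y0, t⁆ = E.c h ⁅y0, E.c h⁻¹ t⁆ := by
    rw [E.c_comm (P.part_le hY hy0) (E.c_mem ht _), E.c_c_inv ht]
  rw [h1]
  exact E.Zc_inv.2 _ _ (hY.py y0 hy0 _ (E.c_mem ht _))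

/-- Commutators lying in both central parts are trivial. -/
theorem D0 (hY : Part E E' Y0) {h : E.G} {y : S} (hy : y ∈ E.cs h Y0) {t : S} (ht : t ∈ E.T)
    (hd : ⁅y, t⁆ ∈ E'.Zc) : ⁅y, t⁆ = 1 := by
  obtain ⟨y0, hy0, rfl⟩ := (E.mem_cs (P.part_le hY)).1 hy
  have hy0Y : y0 ∈ P.Y := hY.le hy0
  obtain ⟨v, hv, x, hx, rfl⟩ := P.mem_Y hy0Y
  set t0 := E.c h⁻¹ t with ht0
  have ht0T : t0 ∈ E.T := E.c_mem ht _
  have h0 : ⁅v * x, t0⁆ = ⁅x, t0⁆ := by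
    have hz := E'.comm_V P.base hx t0
    rw [comm_mul_left, comm_eq_one (E.V_comm hv ht0T), mul_one, center_conj hz]
  have h1 : ⁅E.c h (v * x), t⁆ = E.c h ⁅x, t0⁆ := by
    rw [← h0, E.c_comm (P.Y_le_T hy0Y) ht0T, ht0, E.c_c_inv ht]
  have h2 : ⁅x, t0⁆ ∈ E.Zc := h0 ▸ hY.py _ hy0 _ ht0T
  rw [(E.mem_Zc_iff.1 h2).2 h] at h1
  rw [h1] at hd ⊢
  by_cases ht' : t0 ∈ E'.T
  · exact comm_eq_one (E'.V_comm hx ht')
  · exact comm_eq_one (Subgroup.mem_center_iff.1 (E'.mem_center_of_comm P.base hx ht' hd) t0).symm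

section MaxAb

variable {g : E.G} (hg : E.Gen g) {A : Subgroup S} (hA : A ∈ maxAbelianSubgroups S) {b : S}
  (hbA : b ∈ A) (hbT : b ∉ E.T)

include hA in
theorem AT_maxAb : (A ⊓ E.T) ⊔ E.V ∈ maxAbelianSubgroups S := by
  have hAc := CD.maxAb_isComm hA
  have hVA : E.V ≤ cen (A ⊓ E.T) := CD.cen_anti inf_le_right
  obtain ⟨-, -, hn⟩ := cap hA (E.V_large P.base) E.V_abelian
  rw [E.cen_V P.base] at hn
  have h1 := Push.card_sup_inf_of_le_cen hVA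
  rw [inf_assoc, inf_eq_right.2 E.V_le] at h1
  refine ⟨Subgroup.le_centralizer_iff_isMulCommutative.1
    (CD.isComm_sup (inf_le_left.trans (hAc.trans (CD.cen_anti inf_le_left))) E.V_abelian hVA),
    fun B hB => ?_⟩
  refine (hA.2 B hB).trans (Nat.le_of_mul_le_mul_right ?_ (Nat.card_pos (α := ↥(A ⊓ E.V))))
  rw [h1, hn]

include hA in
theorem step2 (hY : Part E E' Y0) {y : S} (hy : y ∈ E.cs g Y0) {a : S} (ha : a ∈ A) :
    ⁅y, a⁆ ∈ (A ⊓ E.T) ⊔ E.V := by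
  rw [← CD.cen_maxAb (P.AT_maxAb hA)]
  have hAab := CD.maxAb_isComm hA
  show _ ∈ cen ((A ⊓ E.T) ⊔ E.V)
  rw [CD.cen_sup]
  refine ⟨fun α hα => ?_, fun v hv => (hv _ (E.comm_mem_T y a)).symm⟩
  have hz := E.Zc_le_center (P.PhY0 hY hy hα.2)
  have hyT := E.cs_le (P.part_le hY) g hy
  set z := ⁅y, α⁆ with hzdef
  have c1 : a⁻¹ * α * a = α := by rw [mul_assoc, hAab ha α hα.1, inv_mul_cancel_left]
  have e1 : ⁅y⁻¹, α⁆ = z⁻¹ := by
    have : ⁅y⁻¹, α⁆ = y⁻¹ * z⁻¹ * y⁻¹⁻¹ := by rw [hzdef]; group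
    rw [this, center_conj (inv_mem hz)]
  have e2 : ⁅a * y⁻¹ * a⁻¹, α⁆ = z⁻¹ := by
    have : ⁅a * y⁻¹ * a⁻¹, α⁆ = a * ⁅y⁻¹, a⁻¹ * α * a⁆ * a⁻¹ := by group
    rw [this, c1, e1, center_conj (inv_mem hz)]
  have e3 : ⁅⁅y, a⁆, α⁆ = 1 := by
    rw [show ⁅y, a⁆ = y * (a * y⁻¹ * a⁻¹) by group, comm_mul_left, e2,
      center_conj (inv_mem hz), inv_mul_cancel]
  exact (commutatorElement_eq_one_iff_mul_comm.1 e3).symm

theorem single (hY : Part E E' Y0) {ξ : S}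
    (hξY : ξ ∈ E.cs g Y0) (a : S) {m : S} (hm : m ∈ E.T) :
    ∃ t ∈ E.T, ⁅⁅ξ, a⁆, m⁆ = ⁅ξ, t⁆ := by
  set m' := a⁻¹ * m * a with hm'
  have hm'T : m' ∈ E.T := by
    have := E.conj_mem_T hm a⁻¹
    rwa [inv_inv] at this
  refine ⟨m'⁻¹ * m, mul_mem (inv_mem hm'T) hm, ?_⟩
  have c1 := E.Zc_le_center (P.PhY0 hY hξY hm'T)
  have c2 := E.Zc_le_center (P.PhY0 hY hξY hm)
  have c3 := E.Zc_le_center (P.PhY0 hY (inv_mem hξY) hm'T)
  have e1 : ⁅ξ⁻¹, m'⁆ = ⁅ξ, m'⁆⁻¹ := by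
    have : ⁅ξ⁻¹, m'⁆ = ξ⁻¹ * ⁅ξ, m'⁆⁻¹ * ξ := by group
    rw [this, Subgroup.mem_center_iff.1 (inv_mem c1) ξ⁻¹, mul_assoc, inv_mul_cancel, mul_one]
  have e2 : ⁅ξ, m'⁻¹⁆ = ⁅ξ, m'⁆⁻¹ := by
    have : ⁅ξ, m'⁻¹⁆ = m'⁻¹ * ⁅ξ, m'⁆⁻¹ * m' := by group
    rw [this, Subgroup.mem_center_iff.1 (inv_mem c1) m'⁻¹, mul_assoc, inv_mul_cancel, mul_one]
  have e3 : ⁅a * ξ⁻¹ * a⁻¹, m⁆ = ⁅ξ, m'⁆⁻¹ := by
    have e : ⁅a * ξ⁻¹ * a⁻¹, m⁆ = a * ⁅ξ⁻¹, m'⁆ * a⁻¹ := by rw [hm']; group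
    rw [e, center_conj c3, e1]
  rw [show ⁅ξ, a⁆ = ξ * (a * ξ⁻¹ * a⁻¹) by group, comm_mul_left, e3,
    center_conj (inv_mem c1), comm_mul_right ξ m'⁻¹ m, e2, center_conj c2]


include hg hA hbA hbT in
theorem step3_mem (hY : Part E E' Y0) {y : S} (hy : y ∈ E.cs g Y0) {a : S} (ha : a ∈ A) :
    ⁅y, a⁆ ∈ P.Y := by
  have hB := P.base
  have hAc := CD.maxAb_isComm hA
  have hY0T := P.part_le hY
  set h := E.ι a * g with hh
  set U := E.cs g Y0 with hUdef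
  set Q := U ⊔ E.cs h Y0 with hQ
  set A1 := (A ⊓ E.T) ⊔ E.V with hA1
  set AV := (A ⊓ Q) ⊔ E.V with hAV
  set R := AV ⊓ Q ⊓ E'.T with hR
  set L := E'.V ⊔ R with hL
  have hUT : U ≤ E.T := E.cs_le hY0T g
  have hQT : Q ≤ E.T := sup_le hUT (E.cs_le hY0T h)
  have hVA : E.V ≤ cen (A ⊓ E.T) := CD.cen_anti inf_le_right
  have hAV1 : AV ≤ A1 := sup_le_sup_right (inf_le_inf_left _ hQT) _
  have hVU : E.V ≤ U := E.cen_cs_le hY.vle hY0T
  have hUl : IsCentralizerLarge U := E.cs_large hB hY.large hY.vle hY0T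
  have hUc : U ≤ cen U := by
    intro x hx z hz
    obtain ⟨r, hr, rfl⟩ := (E.mem_cs hY0T).1 hx
    obtain ⟨r', hr', rfl⟩ := (E.mem_cs hY0T).1 hz
    rw [← E.c_mul (hY0T hr') (hY0T hr), ← E.c_mul (hY0T hr) (hY0T hr'),
      P.Y_abelian (hY.le hr) r' (hY.le hr')]
  have hQl := CD.large_sup_inf hUl (E.cs_large hB (g := h) hY.large hY.vle hY0T)
  have hQlg : IsCentralizerLarge Q := hQl.2.1
  -- `A ∩ Q` is large
  have hQsub : (Q : Set S) ⊆ (U : Set S) * ((A ⊓ Q : Subgroup S) : Set S) := by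
    intro q hq
    have hq' := hq
    rw [hQl.1] at hq'
    obtain ⟨u2, hu2, w3, hw3, rfl⟩ := hq'
    obtain ⟨y00, hy00, rfl⟩ := (E.mem_cs hY0T).1 hw3
    set u := E.c g y00
    have hu : u ∈ U := E.c_mem_cs hY0T g hy00
    have hw : E.c h y00 = u * ⁅u⁻¹, a⁆ := by
      rw [hh, ← E.c_c (hY0T hy00), E.c_ι (E.c_mem (hY0T hy00) g)]
      show a * u * a⁻¹ = _
      group
    have h1 := P.step2 hA hY (inv_mem hu) ha
    rw [← SetLike.mem_coe, CD.sup_eq_mul_of_le_cen hVA] at h1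
    obtain ⟨α, hα, v, hv, e⟩ := h1
    have e2 : u2 * E.c h y00 = (u2 * u * v) * α := by
      rw [hw, ← e, mul_assoc (u2 * u), (show v * α = α * v from E.V_comm hv hα.2)]
      simp only [mul_assoc]
    have hl : u2 * u * v ∈ U := mul_mem (mul_mem hu2 hu) (hVU hv)
    refine ⟨_, hl, α, ⟨hα.1, ?_⟩, e2.symm⟩
    have := mul_mem (inv_mem (le_sup_left (b := E.cs h Y0) hl)) (show _ ∈ Q from hq)
    change (u2 * u * v)⁻¹ * (u2 * E.c h y00) ∈ Q at this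
    rwa [e2, inv_mul_cancel_left] at this
  obtain ⟨-, -, hnU⟩ := cap hA hUl hUc
  have hAQl : IsCentralizerLarge (A ⊓ Q) := by
    refine CD.large_of_le ?_
    show maxCentralizerProduct S ≤ Nat.card ↥(A ⊓ Q) * Nat.card ↥(cen (A ⊓ Q))
    have h1 : Nat.card Q ≤ Nat.card ((U : Set S) * ((A ⊓ Q : Subgroup S) : Set S) : Set S) :=
      Nat.card_mono (Set.toFinite _) hQsub
    have h2 := CD.card_mul_set U (A ⊓ Q)
    rw [show U ⊓ (A ⊓ Q) = A ⊓ U from le_antisymm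
      (le_inf (inf_le_right.trans inf_le_left) inf_le_left)
      (le_inf inf_le_right (inf_le_inf_left _ le_sup_left))] at h2
    have h3 := CD.card_mul_set A (cen Q)
    have h4 : Nat.card ((A : Set S) * ((cen Q : Subgroup S) : Set S) : Set S) ≤
        Nat.card ↥(cen (A ⊓ Q)) := Nat.card_mono (Set.toFinite _) (by
      rintro _ ⟨x, hx, d, hd, rfl⟩
      exact mul_mem (CD.cen_anti inf_le_left (hAc hx)) (CD.cen_anti inf_le_right hd))
    have h5 : Nat.card ↥(A ⊓ cen Q) ≤ Nat.card ↥(A ⊓ cen U) := Nat.card_mono (Set.toFinite _)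
      (SetLike.coe_subset_coe.2 (inf_le_inf_left _ (CD.cen_anti le_sup_left)))
    have hm : Nat.card Q * Nat.card (cen Q) = maxCentralizerProduct S := hQlg
    refine Nat.le_of_mul_le_mul_right ?_ (Nat.mul_pos (Nat.card_pos (α := ↥(A ⊓ U)))
      (Nat.card_pos (α := ↥(A ⊓ cen Q))))
    calc maxCentralizerProduct S * (Nat.card ↥(A ⊓ U) * Nat.card ↥(A ⊓ cen Q))
        = (Nat.card Q * Nat.card ↥(A ⊓ U)) * Nat.card ↥(A ⊓ cen Q) * Nat.card (cen Q) := by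
          rw [← hm]; ring
      _ ≤ (Nat.card U * Nat.card ↥(A ⊓ Q)) * Nat.card ↥(A ⊓ cen U) * Nat.card (cen Q) := by
          refine Nat.mul_le_mul_right _ (Nat.mul_le_mul ?_ h5)
          exact (Nat.mul_le_mul_right _ h1).trans h2.le
      _ = Nat.card ↥(A ⊓ Q) * (Nat.card A * Nat.card ↥(A ⊓ U)) * Nat.card (cen Q) := by
          rw [hnU]; ring
      _ = Nat.card ↥(A ⊓ Q) * (Nat.card A * Nat.card (cen Q)) * Nat.card ↥(A ⊓ U) := by ring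
      _ = Nat.card ↥(A ⊓ Q) * Nat.card ((A : Set S) * ((cen Q : Subgroup S) : Set S) : Set S) *
            (Nat.card ↥(A ⊓ U) * Nat.card ↥(A ⊓ cen Q)) := by rw [← h3]; ring
      _ ≤ _ := Nat.mul_le_mul_right _ (Nat.mul_le_mul_left _ h4)
  have hAVl := CD.large_sup_inf hAQl (E.V_large hB)
  have hRl : IsCentralizerLarge R :=
    (CD.large_sup_inf (CD.large_sup_inf hAVl.2.1 hQlg).2.2.1 (E'.T_large hB)).2.2.1
  have hLl := CD.large_sup_inf (E'.V_large hB) hRl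
  have hQc : ∀ u ∈ Q, ∀ t ∈ E.T, ⁅u, t⁆ ∈ E.Zc := by
    intro u hu t ht
    rw [← SetLike.mem_coe, hQl.1] at hu
    obtain ⟨y2, hy2, y3, hy3, rfl⟩ := hu
    rw [comm_mul_left, center_conj (E.Zc_le_center (P.PhY0 hY hy3 ht))]
    exact mul_mem (P.PhY0 hY hy3 ht) (P.PhY0 hY hy2 ht)
  have hRz : R ≤ z2 S := by
    intro u hu
    rw [mem_z2]
    intro s
    have hu1 : u ∈ AV := hu.1.1
    rw [← SetLike.mem_coe, hAVl.1] at hu1
    obtain ⟨α, hα, v, hv, hαv⟩ := hu1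
    change α * v = u at hαv
    have hs : s ∈ ((cen (A ⊓ E.V) : Subgroup S) : Set S) := fun z hz =>
      (Subgroup.mem_center_iff.1 (P.A_inf_V hAc hbA hbT hz) s).symm
    rw [(cap hA (E.V_large hB) E.V_abelian).1, E.cen_V hB] at hs
    obtain ⟨a', ha', t, ht, rfl⟩ := hs
    show ⁅u, a' * t⁆ ∈ _
    have e1 : ⁅u, a'⁆ ∈ Subgroup.center S := by
      rw [← hαv, comm_mul_left, comm_eq_one (hAc ha' α hα.1), mul_one,
        center_conj (E.comm_V hB hv a')]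
      exact E.comm_V hB hv a'
    have e2 := E.Zc_le_center (hQc u hu.1.2 t ht)
    rw [comm_mul_right, center_conj e2]
    exact mul_mem e1 e2
  have hLz : L ≤ z2 S := sup_le (E'.V_le_z2 hB) hRz
  have hLT : L ≤ E'.T := sup_le E'.V_le inf_le_right
  have hsp : E'.Splits (E'.cs E'.g0 L) := by
    refine P.side hLl.2.1 le_sup_left hLT (fun hi hYN => ?_) _
    have hc : ∀ k, E.cs k Y0 ≤ E.N0 := fun k =>
      (E.cs_mono (hY.le.trans hYN) k).trans (Emb.Inv.cs_eq E hi k).le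
    exact sup_le (le_sup_right.trans hYN)
      ((inf_le_left.trans inf_le_right).trans (sup_le (hc g) (hc h)))
  have hkey : ∀ u ∈ L, ∀ m ∈ (cen P.Y : Set S), ⁅u, m⁆ ∈ E'.Zc := by
    refine E'.key hB E'.gen E'.V_inv hsp le_sup_left hLT
      (fun u hu s => E'.center_le_V (mem_z2.1 (hLz hu) s)) (fun m hm => (P.mem_M hm).2) ?_
      (fun u hu m _ => mem_z2.1 (hLz hu) m)
    intro u hu hfu m hm
    obtain ⟨hmT, hmT'⟩ := P.mem_M hm
    rw [← SetLike.mem_coe, hLl.1] at hu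
    obtain ⟨x, hx, r, hr, rfl⟩ := hu
    have hfr : E'.Fx E'.V r := by
      have h := E'.fx_mul E'.V_inv (inv_mem (E'.V_le hx)) (mul_mem (E'.V_le hx) hr.2)
        (E'.fx_of_mem E'.V_inv (inv_mem hx)) hfu
      rwa [inv_mul_cancel_left] at h
    have hd : ⁅r, m⁆ ∈ E'.Zc := E'.equi E'.T_inv (fun n hn w hw => E'.V_comm hn hw) hr.2 hfr
      (fun w _ => mem_z2.1 (hRz hr) w) hmT'
    have hr' : r ∈ (Q : Set S) := hr.1.2
    rw [hQl.1] at hr'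
    obtain ⟨y2, hy2, w3, hw3, hr23⟩ := hr'
    change y2 * w3 = r at hr23
    obtain ⟨y00, hy00, hw3'⟩ := (E.mem_cs (P.part_le hY)).1 hw3
    set y3 := E.c g y00 with hy3def
    have hy3 : y3 ∈ E.cs g Y0 := E.c_mem_cs (P.part_le hY) g hy00
    have hw : w3 = a * y3 * a⁻¹ := by
      rw [← hw3', hh, ← E.c_c ((P.part_le hY) hy00), E.c_ι (E.c_mem ((P.part_le hY) hy00) g)]
    have hdec : r = (y2 * y3) * ⁅y3⁻¹, a⁆ := by rw [← hr23, hw]; group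
    have hy23 : y2 * y3 ∈ A1 := by
      have : y2 * y3 = r * ⁅y3⁻¹, a⁆⁻¹ := by rw [hdec, mul_inv_cancel_right]
      rw [this]
      exact mul_mem (hAV1 hr.1.1) (inv_mem (P.step2 hA hY (inv_mem hy3) ha))
    have hy23V : y2 * y3 ∈ E.V := by
      rw [← SetLike.mem_coe, hA1, CD.sup_eq_mul_of_le_cen hVA] at hy23
      obtain ⟨α, hα, v, hv, hαv⟩ := hy23
      change α * v = y2 * y3 at hαv
      rw [← hαv]
      refine mul_mem (E.center_le_V (P.cover hg hAc hbA hbT ⟨hα.1, E.cs_mono hY.le g ?_⟩)) hv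
      show α ∈ E.cs g Y0
      rw [show α = y2 * y3 * v⁻¹ by rw [← hαv, mul_inv_cancel_right]]
      exact mul_mem (mul_mem (show y2 ∈ E.cs g Y0 from hy2) hy3)
        (inv_mem (show v ∈ E.cs g Y0 from E.cen_cs_le hY.vle (P.part_le hY) hv))
    obtain ⟨t, ht, htm⟩ := P.single hY (inv_mem hy3) a hmT
    have hrm : ⁅r, m⁆ = ⁅y3⁻¹, t⁆ := by
      rw [hdec, comm_mul_left, comm_eq_one (E.V_comm hy23V hmT), mul_one, htm,
        center_conj (E.Zc_le_center (P.PhY0 hY (inv_mem hy3) ht))]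
    rw [hrm] at hd
    have h1 : ⁅r, m⁆ = 1 := hrm.trans (P.D0 hY (inv_mem hy3) ht hd)
    have h2 := commutatorElement_eq_one_iff_mul_comm.1 h1
    show x * r * m = m * (x * r)
    rw [mul_assoc, h2, ← mul_assoc, E'.V_comm hx hmT', mul_assoc]
  have hyaQ : ⁅y, a⁆ ∈ Q := by
    rw [show ⁅y, a⁆ = y * (a * y⁻¹ * a⁻¹) by group]
    refine mul_mem (Subgroup.mem_sup_left hy) (Subgroup.mem_sup_right ?_)
    obtain ⟨y0, hy0, e⟩ := (E.mem_cs hY0T).1 (inv_mem hy)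
    rw [← e, ← E.c_ι (E.c_mem (hY0T hy0) g), E.c_c (hY0T hy0)]
    exact E.c_mem_cs hY0T _ hy0
  have hwR : ⁅y, a⁆ ∈ R := by
    refine ⟨⟨?_, hyaQ⟩, E'.comm_mem_T y a⟩
    have h1 := P.step2 hA hY hy ha
    rw [← SetLike.mem_coe, CD.sup_eq_mul_of_le_cen hVA] at h1
    obtain ⟨α, hα, v, hv, e⟩ := h1
    rw [← e]
    refine mul_mem (Subgroup.mem_sup_left ⟨hα.1, ?_⟩) (Subgroup.mem_sup_right hv)
    show α ∈ Q
    rw [show α = ⁅y, a⁆ * v⁻¹ by rw [← e]; exact (mul_inv_cancel_right α v).symm]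
    exact mul_mem hyaQ (inv_mem (le_sup_left (b := E.cs h Y0) (hVU hv)))
  rw [← (CD.large_cen P.Y_large).2]
  intro m hm
  obtain ⟨hmT, -⟩ := P.mem_M hm
  have h1 := hkey _ (Subgroup.mem_sup_right hwR) m hm
  obtain ⟨t, ht, htm⟩ := P.single hY hy a hmT
  rw [htm] at h1
  exact (commutatorElement_eq_one_iff_mul_comm.1 (htm.trans (P.D0 hY hy ht h1))).symm

end MaxAb

/-- `[Y0^g, S] ≤ Y`. -/
theorem step3_0 (hY : Part E E' Y0) {g : E.G} (hg : E.Gen g) {y : S} (hy : y ∈ E.cs g Y0) (s : S) :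
    ⁅y, s⁆ ∈ P.Y := by
  obtain ⟨A, hA, b, hbA, hbT⟩ := E.exists_maxAb
  have hs : s ∈ ((cen (A ⊓ E.V) : Subgroup S) : Set S) := fun z hz =>
    (Subgroup.mem_center_iff.1 (P.A_inf_V (CD.maxAb_isComm hA) hbA hbT hz) s).symm
  rw [(cap hA (E.V_large P.base) E.V_abelian).1, E.cen_V P.base] at hs
  obtain ⟨a, ha, t, ht, rfl⟩ := hs
  show ⁅y, a * t⁆ ∈ P.Y
  rw [comm_mul_right, center_conj (E.Zc_le_center (P.PhY0 hY hy ht))]
  exact mul_mem (P.step3_mem hg hA hbA hbT hY hy ha) (P.Zc_le_Y (P.PhY0 hY hy ht))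

/-- `Y^g ∩ T' = V`. -/
theorem step4_0 (hY : Part E E' Y0) {g : E.G} (hg : E.Gen g) {ξ : S} (hξ : ξ ∈ E.cs g Y0) (hξT' : ξ ∈ E'.T) :
    ξ ∈ E.V := by
  set X := sSup (Set.range fun h : E'.G => E'.cs h P.Y) with hX
  have hgen : ∀ h : E'.G, E'.cs h P.Y ≤ X := fun h => le_sSup ⟨h, rfl⟩
  have hXl : IsCentralizerLarge X := large_sSup ⟨_, 1, rfl⟩ (by
    rintro _ ⟨h, rfl⟩
    exact E'.cs_large P.base P.Y_large P.V'_le_Y P.Y_le_T')
  have hXT : X ≤ E'.T := sSup_le (by rintro _ ⟨h, rfl⟩; exact E'.cs_le P.Y_le_T' h)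
  have hYX : P.Y ≤ X := fun y hy =>
    hgen 1 ((E'.mem_cs P.Y_le_T').2 ⟨y, hy, E'.c_one_left (P.Y_le_T' hy)⟩)
  have hXi : E'.Inv X := by
    refine ⟨hXT, fun k => ?_⟩
    intro x hx
    have hle : X ≤ E'.cs k⁻¹ X := sSup_le (by
      rintro _ ⟨h, rfl⟩ z hz
      obtain ⟨y, hy, rfl⟩ := (E'.mem_cs P.Y_le_T').1 hz
      refine (E'.mem_cs hXT).2 ⟨E'.c (k * h) y, hgen _ (E'.c_mem_cs P.Y_le_T' _ hy), ?_⟩
      rw [E'.c_c (P.Y_le_T' hy), ← mul_assoc, inv_mul_cancel, one_mul])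
    obtain ⟨x', hx', rfl⟩ := (E'.mem_cs hXT).1 (hle hx)
    rwa [E'.c_c_inv (hXT hx')]
  have hXZ : ∀ x ∈ X, x ∈ E'.T ∧ ∀ t ∈ E'.T, ⁅x, t⁆ ∈ E'.Zc := by
    intro x hx
    rw [hX, sSup_eq_iSup'] at hx
    induction hx using Subgroup.iSup_induction' with
    | hp i z hz =>
      obtain ⟨_, h, rfl⟩ := i
      obtain ⟨y, hy, rfl⟩ := (E'.mem_cs P.Y_le_T').1 hz
      refine ⟨E'.c_mem (P.Y_le_T' hy) h, fun t ht => ?_⟩
      have h1 : ⁅E'.c h y, t⁆ = E'.c h ⁅y, E'.c h⁻¹ t⁆ := by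
        rw [E'.c_comm (P.Y_le_T' hy) (E'.c_mem ht _), E'.c_c_inv ht]
      rw [h1]
      exact E'.Zc_inv.2 _ _ (P.PY' hy (E'.c_mem ht _))
    | h1 => exact ⟨one_mem _, fun t _ => by rw [commutatorElement_one_left]; exact one_mem _⟩
    | hmul z w _ _ ihz ihw =>
      refine ⟨mul_mem ihz.1 ihw.1, fun t ht => ?_⟩
      rw [comm_mul_left, center_conj (E'.Zc_le_center (ihw.2 t ht))]
      exact mul_mem (ihw.2 t ht) (ihz.2 t ht)
  have hgYl := E.cs_large P.base (g := g) hY.large hY.vle (P.part_le hY)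
  have hIl := (CD.large_sup_inf hgYl (E'.T_large P.base)).2.2.1
  have hLl := CD.large_sup_inf P.Y_large hIl
  set L := P.Y ⊔ (E.cs g Y0 ⊓ E'.T) with hL
  have hC0 : E'.Inv (cen X) := E'.inv_cen' P.base hXi (P.V'_le_Y.trans hYX)
  have hC0M : cen X ≤ cen P.Y := CD.cen_anti hYX
  have hgc : ∀ r ∈ E.cs g Y0, ∀ d ∈ cen X, ⁅r, d⁆ ∈ E.Zc := fun r hr d hd =>
    P.PhY0 hY hr (P.mem_M (hC0M hd)).1
  have hYd : ∀ y ∈ P.Y, ∀ d ∈ cen X, y * d = d * y := fun y hy d hd =>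
    (hC0M hd : d ∈ cen P.Y) y hy
  have hkey : ∀ u ∈ L, ∀ d ∈ (cen X : Set S), ⁅u, d⁆ ∈ E'.Zc := by
    have hsp : E'.Splits (E'.cs E'.g0 L) := by
      refine P.side hLl.2.1 (P.V'_le_Y.trans le_sup_left) (sup_le P.Y_le_T' inf_le_right)
        (fun hi hYN => ?_) _
      exact sup_le hYN (inf_le_left.trans
        ((E.cs_mono (hY.le.trans hYN) g).trans (Emb.Inv.cs_eq E hi g).le))
    refine E'.key P.base E'.gen hXi hsp (P.V'_le_Y.trans le_sup_left)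
      (sup_le P.Y_le_T' inf_le_right) ?_ (fun d hd => hC0.1 hd) ?_ ?_
    · intro u hu s
      rw [← SetLike.mem_coe, hLl.1] at hu
      obtain ⟨y, hy, r, hr, rfl⟩ := hu
      apply hYX
      show ⁅y * r, s⁆ ∈ P.Y
      rw [comm_mul_left]
      exact mul_mem (P.Y_normal.conj_mem _ (P.step3_0 hY hg hr.1 s) y)
        (P.center_le_Y (mem_z2.1 (P.Y_le_z2 hy) s))
    · intro u hu hfu d hd
      rw [← SetLike.mem_coe, hLl.1] at hu
      obtain ⟨y, hy, r, hr, rfl⟩ := hu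
      have hfr : E'.Fx X r := by
        have h := E'.fx_mul hXi (inv_mem (P.Y_le_T' hy)) (mul_mem (P.Y_le_T' hy) hr.2)
          (E'.fx_of_mem hXi (inv_mem (hYX hy))) hfu
        rwa [inv_mul_cancel_left] at h
      have h1 : ⁅r, d⁆ ∈ E'.Zc := E'.equi hC0 (fun n hn w hw => (hw : w ∈ cen X) n hn) hr.2 hfr
        (fun w hw => E.Zc_le_center (hgc r hr.1 w hw)) hd
      have h2 := commutatorElement_eq_one_iff_mul_comm.1
        (P.D0 hY hr.1 (P.mem_M (hC0M hd)).1 h1)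
      show y * r * d = d * (y * r)
      rw [mul_assoc, h2, ← mul_assoc, hYd y hy d hd, mul_assoc]
    · intro u hu d hd
      rw [← SetLike.mem_coe, hLl.1] at hu
      obtain ⟨y, hy, r, hr, rfl⟩ := hu
      show ⁅y * r, d⁆ ∈ _
      rw [comm_mul_left, comm_eq_one (hYd y hy d hd), mul_one]
      exact (inferInstance : (Subgroup.center S).Normal).conj_mem _
        (E.Zc_le_center (hgc r hr.1 d hd)) y
  have hξX : ξ ∈ X := by
    rw [← (CD.large_cen hXl).2]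
    intro d hd
    have h1 := hkey ξ (Subgroup.mem_sup_right ⟨hξ, hξT'⟩) d hd
    exact (commutatorElement_eq_one_iff_mul_comm.1 (P.D0 hY hξ (P.mem_M (hC0M hd)).1 h1)).symm
  have hξS : ∀ s : S, ⁅ξ, s⁆ ∈ Subgroup.center S := by
    intro s
    obtain ⟨t, ht, t', ht', rfl⟩ := P.prod_eq s
    have e := E'.Zc_le_center ((hXZ ξ hξX).2 t' ht')
    rw [comm_mul_right, center_conj e]
    exact mul_mem (E.Zc_le_center (P.PhY0 hY hξ ht)) e
  obtain ⟨y00, hy00, rfl⟩ := (E.mem_cs (P.part_le hY)).1 hξ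
  have hy0 : y00 ∈ P.Y := hY.le hy00
  obtain ⟨b, hb⟩ := E.exists_notMem
  refine E.V_inv.2 g y00 (P.fx_Y hy0 ?_)
  refine E.hammer hg E.V_inv (C := {y00}) ?_ ?_ hb ?_ y00 rfl
  · rintro x rfl; exact P.Y_le_T hy0
  · rintro x rfl s; exact E.center_le_V (mem_z2.1 (P.Y_le_z2 hy0) s)
  · rintro x rfl
    rw [show b * E.c g x * b⁻¹ = ⁅E.c g x, b⁆⁻¹ * E.c g x by group]
    exact mul_mem (Subgroup.mem_sup_right (inv_mem (E.center_le_V (hξS b))))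
      (Subgroup.mem_sup_left (Subgroup.subset_closure ⟨_, rfl, rfl⟩))

/-- `[Y, T] ≤ Zc`. -/
theorem PY {y : S} (hy : y ∈ P.Y) {t : S} (ht : t ∈ E.T) : ⁅y, t⁆ ∈ E.Zc := by
  have hB := P.base
  set g := E.g0
  obtain ⟨A, hA, b, hbA, hbT⟩ := E.exists_maxAb
  have hYT := P.Y_le_T
  set U := E.cs g P.Y with hUdef
  have hUT : U ≤ E.T := E.cs_le hYT g
  have hUl : IsCentralizerLarge U := E.cs_large hB P.Y_large P.V_le_Y hYT
  have hVU : E.V ≤ U := E.cen_cs_le P.V_le_Y hYT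
  have hUc : ∀ u ∈ U, ∀ u' ∈ U, u * u' = u' * u := by
    intro u hu u' hu'
    obtain ⟨r, hr, rfl⟩ := (E.mem_cs hYT).1 hu
    obtain ⟨r', hr', rfl⟩ := (E.mem_cs hYT).1 hu'
    rw [← E.c_mul (hYT hr') (hYT hr), ← E.c_mul (hYT hr) (hYT hr'),
      (P.Y_abelian hr r' hr').symm]
  set W := sSup (insert P.Y ((fun a => E.cs (E.ι a * g) P.Y) '' (A : Set S))) with hWdef
  have hYW : P.Y ≤ W := le_sSup (Set.mem_insert _ _)
  have haW : ∀ a ∈ A, E.cs (E.ι a * g) P.Y ≤ W := fun a ha =>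
    le_sSup (Set.mem_insert_of_mem _ ⟨a, ha, rfl⟩)
  have hUW : U ≤ W := by
    have := haW 1 (one_mem _)
    rwa [map_one, one_mul] at this
  have hWl : IsCentralizerLarge W := large_sSup ⟨_, Set.mem_insert _ _⟩ (by
    rintro _ (rfl | ⟨a, -, rfl⟩)
    · exact P.Y_large
    · exact E.cs_large hB P.Y_large P.V_le_Y hYT)
  have hWT : W ≤ E.T := sSup_le (by
    rintro _ (rfl | ⟨a, -, rfl⟩)
    · exact hYT
    · exact E.cs_le hYT _)
  have hWinv : ∀ a ∈ A, cj a W ≤ W := by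
    intro a ha
    refine Subgroup.map_le_iff_le_comap.2 (sSup_le ?_)
    rintro _ (rfl | ⟨a', ha', rfl⟩) x hx
    · exact hYW (P.Y_normal.conj_mem x hx a)
    · obtain ⟨r, hr, rfl⟩ := (E.mem_cs hYT).1 hx
      show MulAut.conj a (E.c (E.ι a' * g) r) ∈ W
      rw [MulAut.conj_apply, ← E.c_ι (E.c_mem (hYT hr) _), E.c_c (hYT hr), ← mul_assoc, ← map_mul]
      exact haW _ (mul_mem ha ha') (E.c_mem_cs hYT _ hr)
  have hWconj : ∀ a ∈ A, ∀ x ∈ W, a * x * a⁻¹ ∈ W := fun a ha x hx =>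
    hWinv a ha ⟨x, hx, rfl⟩
  have hZT : Subgroup.center S ≤ E.T := E.center_le_V.trans E.V_le
  -- `[U, T] ≤ Z^g`
  have hUTZ : ∀ u ∈ U, ∀ s ∈ E.T, ⁅u, s⁆ ∈ E.cs g (Subgroup.center S) := by
    intro u hu s hs
    obtain ⟨r, hr, rfl⟩ := (E.mem_cs hYT).1 hu
    have : ⁅E.c g r, s⁆ = E.c g ⁅r, E.c g⁻¹ s⁆ := by
      rw [E.c_comm (hYT hr) (E.c_mem hs _), E.c_c_inv hs]
    rw [this]
    exact E.c_mem_cs hZT g (mem_z2.1 (P.Y_le_z2 hr) _)
  have hgZ : E.cs g (Subgroup.center S) ≤ E.V :=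
    (E.cs_mono E.center_le_V g).trans (Emb.Inv.cs_eq E E.V_inv g).le
  -- `[U, W] ≤ Zc`
  have hUWZ : ∀ u ∈ U, ∀ w ∈ W, ⁅u, w⁆ ∈ E.Zc := by
    intro u hu
    let K : Subgroup S :=
      { carrier := {w | ⁅u, w⁆ ∈ E.Zc}
        one_mem' := by show ⁅u, (1 : S)⁆ ∈ E.Zc; rw [commutatorElement_one_right]; exact one_mem _
        mul_mem' := fun {w w'} h h' => by
          show ⁅u, w * w'⁆ ∈ E.Zc
          rw [comm_mul_right, center_conj (E.Zc_le_center h')]; exact mul_mem h h'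
        inv_mem' := fun {w} h => by
          show ⁅u, w⁻¹⁆ ∈ E.Zc
          have e : ⁅u, w⁻¹⁆ = w⁻¹ * ⁅u, w⁆⁻¹ * w⁻¹⁻¹ := by group
          rw [e, center_conj (E.Zc_le_center (inv_mem h))]; exact inv_mem h }
    refine fun w hw => (sSup_le ?_ : W ≤ K) hw
    rintro _ (rfl | ⟨a, ha, rfl⟩) x hx
    · show ⁅u, x⁆ ∈ E.Zc
      refine E.center_inf_cs E.gen ⟨?_, hUTZ u hu x (hYT hx)⟩
      show ⁅u, x⁆ ∈ Subgroup.center S
      rw [← commutatorElement_inv]; exact inv_mem (mem_z2.1 (P.Y_le_z2 hx) u)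
    · show ⁅u, x⁆ ∈ E.Zc
      obtain ⟨r, hr, rfl⟩ := (E.mem_cs hYT).1 hx
      rw [← E.c_c (hYT hr), E.c_ι (E.c_mem (hYT hr) _)]
      set u2 := E.c g r
      have hu2 : u2 ∈ U := E.c_mem_cs hYT g hr
      have hz := hUTZ u hu _ (E.conj_mem_T (hUT hu2) a)
      by_cases haT : a ∈ E.T
      · have h1 : ⁅u2, a⁆ ∈ E.V := hgZ (hUTZ u2 hu2 a haT)
        have h2 : a * u2 * a⁻¹ = ⁅u2, a⁆⁻¹ * u2 := by group
        rw [h2, comm_eq_one (((show Commute _ _ from E.V_comm (inv_mem h1) (hUT hu)).symm.mul_right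
          (hUc u hu u2 hu2)).eq)]
        exact one_mem _
      have he : a⁻¹ * ⁅u, a * u2 * a⁻¹⁆ * a ∈ E.cs g (Subgroup.center S) := by
        have h1 : a⁻¹ * ⁅u, a * u2 * a⁻¹⁆ * a = ⁅u2, a⁻¹ * u * a⁆⁻¹ := by group
        rw [h1]
        refine inv_mem (hUTZ u2 hu2 _ ?_)
        have := E.conj_mem_T (hUT hu) a⁻¹
        rwa [inv_inv] at this
      set e := a⁻¹ * ⁅u, a * u2 * a⁻¹⁆ * a with hedef
      have hze : ⁅u, a * u2 * a⁻¹⁆ = a * e * a⁻¹ := by rw [hedef]; group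
      rw [hze] at hz ⊢
      have hcm : ⁅e, a⁆ ∈ E.Zc := by
        refine E.center_inf_cs E.gen ⟨E.comm_V hB (hgZ he) a, ?_⟩
        show ⁅e, a⁆ ∈ E.cs g (Subgroup.center S)
        rw [show ⁅e, a⁆ = e * (a * e * a⁻¹)⁻¹ by group]
        exact mul_mem he (inv_mem hz)
      have heZ := E.mem_center_of_comm hB (hgZ he) haT hcm
      rw [center_conj heZ]
      exact E.center_inf_cs E.gen ⟨heZ, he⟩
  -- the part `H`
  set H' := U ⊓ cen W with hH'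
  have hH'T : H' ≤ E.T := inf_le_left.trans hUT
  have hVH' : E.V ≤ H' := le_inf hVU (CD.cen_anti hWT)
  have hH'l : IsCentralizerLarge H' := (CD.large_sup_inf hUl (CD.large_cen hWl).1).2.2.1
  set H := E.cs g⁻¹ H' with hH
  have hHY : H ≤ P.Y := by
    intro x hx
    obtain ⟨u, hu, rfl⟩ := (E.mem_cs hH'T).1 hx
    obtain ⟨r, hr, rfl⟩ := (E.mem_cs hYT).1 hu.1
    rwa [E.c_inv_c (hYT hr)]
  have hVH : E.V ≤ H := E.cen_cs_le hVH' hH'T
  have hHl : IsCentralizerLarge H := E.cs_large hB hH'l hVH' hH'T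
  have hgH : E.cs g H = H' := E.cs_cs_inv hH'T g
  have hsp : E.Splits (E.cs g H) := by
    rw [hgH]
    refine E.splits_of_maxAb hA hbA hbT hH'l (N := W ⊓ cen W) (inf_le_inf_right _ hUW)
      (inf_le_right.trans (CD.cen_anti inf_le_left)) fun a ha x hx => ⟨hWconj a ha x hx.1, ?_⟩
    intro w hw
    have hw' := hWconj _ (inv_mem ha) w hw
    rw [inv_inv] at hw'
    calc w * (a * x * a⁻¹) = a * ((a⁻¹ * w * a) * x) * a⁻¹ := by group
      _ = a * (x * (a⁻¹ * w * a)) * a⁻¹ := by rw [hx.2 _ hw']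
      _ = _ := by group
  have hPart : Part E E' H := ⟨hHl, hVH, hHY,
    E.key hB E.gen E.V_inv hsp hVH (hHY.trans hYT)
      (fun w hw s => E.center_le_V (mem_z2.1 (P.Y_le_z2 (hHY hw)) s)) (W := (E.T : Set S))
      (fun _ h => h) (fun _ hw hf _ ht => E.V_comm (P.fx_Y (hHY hw) hf) ht)
      (fun _ hw t _ => mem_z2.1 (P.Y_le_z2 (hHY hw)) t)⟩
  have hHV : H' = E.V := by
    refine le_antisymm (fun ξ hξ => ?_) hVH'
    refine P.step4_0 hPart E.gen (show ξ ∈ E.cs g H by rw [hgH]; exact hξ) ?_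
    rw [← E'.cen_V hB]
    exact fun x hx => hξ.2 x (hYW (P.V'_le_Y hx))
  have ht1 : E.c g t ∈ ((cen H' : Subgroup S) : Set S) := by
    rw [hHV, E.cen_V hB]; exact E.c_mem ht g
  rw [hH', (CD.large_sup_inf hUl (CD.large_cen hWl).1).2.2.2.1, (CD.large_cen hWl).2] at ht1
  obtain ⟨d, hd, w, hw, hdw⟩ := ht1
  change d * w = E.c g t at hdw
  have hu := E.c_mem_cs hYT g hy
  have h1 := hUWZ _ hu w hw
  have h2 : ⁅E.c g y, E.c g t⁆ = ⁅E.c g y, w⁆ := by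
    rw [← hdw, comm_mul_right, comm_eq_one ((hd : d ∈ cen U) _ hu),
      center_conj (E.Zc_le_center h1), one_mul]
  rw [← h2, ← E.c_comm (hYT hy) ht] at h1
  have h3 := E.Zc_inv.2 g⁻¹ _ h1
  rwa [E.c_inv_c (E.comm_mem_T y t)] at h3

theorem part : Part E E' P.Y := ⟨P.Y_large, P.V_le_Y, le_rfl, fun _ hy _ ht => P.PY hy ht⟩

theorem PhY {h : E.G} {y : S} (hy : y ∈ E.cs h P.Y) {t : S} (ht : t ∈ E.T) : ⁅y, t⁆ ∈ E.Zc :=
  P.PhY0 P.part hy ht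

/-- Commutators lying in both central parts are trivial. -/
theorem D {h : E.G} {y : S} (hy : y ∈ E.cs h P.Y) {t : S} (ht : t ∈ E.T)
    (hd : ⁅y, t⁆ ∈ E'.Zc) : ⁅y, t⁆ = 1 :=
  P.D0 P.part hy ht hd

/-- `[Y^g, S] ≤ Y`. -/
theorem step3 {g : E.G} (hg : E.Gen g) {y : S} (hy : y ∈ E.cs g P.Y) (s : S) : ⁅y, s⁆ ∈ P.Y :=
  P.step3_0 P.part hg hy s

/-- `Y^g ∩ T' = V`. -/
theorem step4 {g : E.G} (hg : E.Gen g) {ξ : S} (hξ : ξ ∈ E.cs g P.Y) (hξT' : ξ ∈ E'.T) :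
    ξ ∈ E.V :=
  P.step4_0 P.part hg hξ hξT'

theorem exists_moved : ∃ x ∈ E'.V, x ∉ Subgroup.center S := by
  obtain ⟨x, hx, hnx⟩ := P.c0
  exact ⟨x, hx, fun h => hnx (E.fx_of_mem E.V_inv (E.center_le_V h))⟩

theorem moved {g : E.G} (hg : E.Gen g) {x : S} (hx : x ∈ E'.V)
    (hxZ : x ∉ Subgroup.center S) : E.c g x ∈ E.T ∧ E.c g x ∉ E'.T := by
  have hxT := P.le hx
  refine ⟨E.c_mem hxT g, fun h => hxZ ?_⟩
  have h1 := P.step4 hg (E.c_mem_cs P.Y_le_T g (P.V'_le_Y hx)) h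
  have h2 := E.V_inv.2 g⁻¹ _ h1
  rw [E.c_inv_c hxT] at h2
  exact P.inter ⟨h2, hx⟩

/-- A nontrivial commutator of a moved element with an element outside `T` is not in `V`. -/
theorem not_mem_V {g : E.G} (hg : E.Gen g) {x : S} (hx : x ∈ E'.V)
    (hxZ : x ∉ Subgroup.center S) {a : S} (ha : a ∉ E.T) : ⁅E.c g x, a⁆ ∉ E.V := by
  intro h
  apply hxZ
  refine P.inter ⟨P.fx_Y (P.V'_le_Y hx) ?_, hx⟩
  refine E.hammer hg E.V_inv (C := {x}) ?_ ?_ ha ?_ x rfl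
  · rintro y rfl; exact P.le hx
  · rintro y rfl s; exact E.center_le_V (E'.comm_V P.base hx s)
  · rintro y rfl
    rw [show a * E.c g y * a⁻¹ = ⁅E.c g y, a⁆⁻¹ * E.c g y by group]
    exact mul_mem (Subgroup.mem_sup_right (inv_mem h))
      (Subgroup.mem_sup_left (Subgroup.subset_closure ⟨_, rfl, rfl⟩))

/-- The main case does not occur for `p = 2`. -/
theorem two_false (h2 : p = 2) (hzp : ∀ z ∈ Subgroup.center S, z ^ p = 1) : False := by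
  obtain ⟨x, hx, hxZ⟩ := P.exists_moved
  obtain ⟨a, ha⟩ := E.exists_notMem
  have hg : E.Gen E.g0 := E.gen
  obtain ⟨hξT, hξT'⟩ := P.moved hg hx hxZ
  set ξ := E.c E.g0 x with hξdef
  have hξ2 : ξ * ξ = 1 := by
    have h := E'.V_pow_one P.base hzp hx
    rw [h2, pow_two] at h
    rw [hξdef, ← E.c_mul (P.le hx) (P.le hx), h, E.c_one]
  have hξY : ξ ∈ E.cs E.g0 P.Y := E.c_mem_cs P.Y_le_T _ (P.V'_le_Y hx)
  have hζ := P.step3 hg hξY a
  have hinv : ⁅ξ, a⁆⁻¹ = ⁅ξ, a⁆ := by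
    rw [inv_eq_iff_mul_eq_one, ← pow_two, ← h2]; exact P.Y_pow_one hzp hζ
  have hfix : ξ * ⁅ξ, a⁆ = ⁅ξ, a⁆ * ξ := by
    have e : ξ * ⁅ξ, a⁆ * ξ⁻¹ = ⁅ξ, a⁆⁻¹ := by
      have hi : ξ⁻¹ = ξ := inv_eq_of_mul_eq_one_right hξ2
      simp only [commutatorElement_def, mul_inv_rev, inv_inv, hi]
      simp only [← mul_assoc, hξ2, one_mul]
    rw [hinv, mul_inv_eq_iff_eq_mul] at e
    exact e
  obtain ⟨v, hv, x', hx', hvx⟩ := P.mem_Y hζ
  refine P.not_mem_V hg hx hxZ ha ?_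
  rw [← hξdef, ← hvx]
  rw [← hvx] at hfix
  refine mul_mem hv (E.center_le_V ?_)
  by_contra hx'Z
  refine hξT' (E'.mem_T_of_comm P.base hx' hx'Z ?_)
  rw [← mul_assoc, ← E.V_comm hv hξT, mul_assoc, mul_assoc, mul_right_inj] at hfix
  exact hfix

end Pair

end CfsgLib.LocalEven.GN
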