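import Cfsg.Agent.Lib.LocalEven.GN.Line
import Cfsg.Agent.Lib.LocalEven.GN.End

/-!
The case `V' ≤ T` with `V` central modulo `V'`, for odd `p`.
-/

set_option autoImplicit false
set_option linter.unusedSectionVars false

namespace CfsgLib.LocalEven.GN

open Cfsg
open scoped commutatorElement Pointwise
open CD (cj cen zOf)

universe u

variable {p : ℕ} [Fact p.Prime] {S : Type u} [Group S] [Finite S]

namespace Pair

variable {E E' : Emb p S} (P : Pair E E')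
include P

theorem exists_T'_not_T : ∃ α ∈ E'.T, α ∉ E.T := by
  by_contra h
  push Not at h
  have h1 : E.V ≤ E'.V := CD.cen_anti (show E'.T ≤ E.T from h)
  have h2 : E.V ≤ Subgroup.center S := (le_inf le_rfl h1).trans P.inter
  obtain ⟨b, hb⟩ := E.exists_notMem
  refine hb ?_
  rw [← E.cen_V P.base]
  exact fun v hv => (Subgroup.mem_center_iff.1 (h2 hv) b).symm

/-- `V` cannot be central modulo `V'` when `p` is odd. -/
theorem sub_false (hp : p ≠ 2) (hc : ∀ v ∈ E.V, E'.Fx E'.V v) : False := by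
  have hB := P.base
  have hodd : Odd p := (Fact.out : p.Prime).odd_of_ne_two hp
  -- `Y` is invariant in the second group and central modulo `V'`
  have hYfix : ∀ y ∈ P.Y, E'.Fx E'.V y := by
    intro y hy
    obtain ⟨v, hv, x, hx, rfl⟩ := P.mem_Y hy
    exact E'.fx_mul E'.V_inv (P.le' hv) (E'.V_le hx) (hc v hv) (E'.fx_of_mem E'.V_inv hx)
  have hYi : E'.Inv P.Y := ⟨P.Y_le_T', fun h y hy => by
    rw [E'.c_eq_dl h y]; exact mul_mem (P.V'_le_Y (hYfix y hy h)) hy⟩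
  have hYc : ∀ y ∈ P.Y, ∀ z ∈ P.Y, y * z = z * y := fun y hy z hz =>
    ((P.Y_abelian hy : y ∈ cen P.Y) z hz).symm
  -- the moved element and the element `α`
  obtain ⟨x, hx, hxZ⟩ := P.exists_moved
  obtain ⟨hξT, hξT'⟩ := P.moved E.gen hx hxZ
  set ξ := E.c E.g0 x with hξdef
  have hξY : ξ ∈ E.cs E.g0 P.Y := E.c_mem_cs P.Y_le_T _ (P.V'_le_Y hx)
  have hξS : ∀ s : S, ⁅ξ, s⁆ ∈ P.Y := fun s => P.step3 E.gen hξY s
  obtain ⟨α, hαT', hαT⟩ := P.exists_T'_not_T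
  obtain ⟨v, hv, x', hx', hζ⟩ := P.mem_Y (hξS α)
  have hx'Z : x' ∉ Subgroup.center S := fun h => by
    apply P.not_mem_V E.gen hx hxZ hαT
    rw [← hξdef, ← hζ]; exact mul_mem hv (E.center_le_V h)
  set zs := ⁅ξ, x'⁆ with hzs
  have hzsZ : zs ∈ Subgroup.center S := E'.comm_V' hB hx' ξ
  have hzsc : zs ∉ E'.Zc := fun h => hx'Z <| by
    refine E'.mem_center_of_comm hB hx' hξT' ?_
    rw [← commutatorElement_inv]; exact inv_mem h
  obtain ⟨L⟩ := exists_line (g := E'.g0) hB E'.gen hξT' hzsZ hzsc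
  -- the kernel `C'`
  set C' := E'.sectionCent P.Y hYi with hC'
  have hC'n : C'.Normal := E'.sectionCent_normal hYi
  have hξC : E'.ι ξ ∈ C' := fun t ht => by
    show E'.c (E'.ι ξ) t * t⁻¹ ∈ P.Y
    rw [E'.c_ι ht]; exact hξS t
  have hCT : C' ⊔ E'.T0 = ⊤ := by
    have := E'.setup.normal
    have hHn : (C' ⊔ E'.T0).Normal := Subgroup.sup_normal C' E'.T0
    let B : Subgroup S := (C' ⊔ E'.T0).comap E'.ι
    have hB' : B = ⊤ := E'.eq_top_of_irred
      (fun t ht => Subgroup.mem_sup_right (show E'.ι t ∈ E'.T0 from ht))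
      (Subgroup.mem_sup_left hξC) hξT' fun y φ hφ s hs => by
        show E'.ι (φ s) ∈ C' ⊔ E'.T0
        rw [hφ]; exact hHn.conj_mem _ hs y
    refine E'.gen _ ⟨ξ, rfl⟩ hξT' _ (Subgroup.mem_sup_left hξC) ?_
    refine (CD.cj_mono _ ?_).trans (Push.cj_le_of_normal hHn _)
    rintro _ ⟨s, rfl⟩
    exact (hB' ▸ Subgroup.mem_top s : s ∈ B)
  have hsplit : ∀ h : E'.G, ∃ k ∈ C', ∃ w ∈ E'.T, k * E'.ι w = h := by
    intro h
    have h1 : h ∈ ((C' ⊔ E'.T0 : Subgroup E'.G) : Set E'.G) := by rw [hCT]; trivial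
    have := E'.setup.normal
    rw [Subgroup.mul_normal] at h1
    obtain ⟨k, hk, t, ht, rfl⟩ := h1
    obtain ⟨w, hw, rfl⟩ : t ∈ E'.T.map E'.ι := by rw [E'.T0_eq]; exact ht
    exact ⟨k, hk, w, hw, rfl⟩
  -- `[T', T'] ∩ V' ≤ Zc'`
  have hder : ∀ t ∈ E'.T, ∀ w ∈ E'.T, ⁅t, w⁆ ∈ E'.V → ⁅t, w⁆ ∈ E'.Zc := by
    intro t ht w hw hV
    have hZn : E'.Zc.Normal := Emb.Inv.normal E' E'.Zc_inv
    set q := QuotientGroup.mk' E'.Zc
    have hqc : ∀ y ∈ P.Y, ∀ r ∈ E'.T, Commute (q y) (q r) := fun y hy r hr => by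
      rw [commute_iff_eq, ← commutatorElement_eq_one_iff_mul_comm, ← map_commutatorElement,
        QuotientGroup.mk'_apply, QuotientGroup.eq_one_iff]
      exact P.PY' hy hr
    have hk : ∀ k ∈ C', E'.dl k ⁅t, w⁆ ∈ E'.Zc := by
      intro k hk
      have hy : E'.dl k t ∈ P.Y := hk t ht
      have hy' : E'.dl k w ∈ P.Y := hk w hw
      rw [← QuotientGroup.eq_one_iff, ← QuotientGroup.mk'_apply, Emb.dl, map_mul, map_inv,
        mul_inv_eq_one, E'.c_comm ht hw, E'.c_eq_dl k t, E'.c_eq_dl k w]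
      set y := E'.dl k t
      set y' := E'.dl k w
      have c1 : Commute (q y) (q w) := hqc y hy w hw
      have c2 : Commute (q y') (q t) := hqc y' hy' t ht
      have c3 : Commute (q y) (q y') := hqc y hy y' (P.Y_le_T' hy')
      have c4 : Commute (q y) (q t) := hqc y hy t ht
      have c5 : Commute (q y') (q w) := hqc y' hy' w hw
      simp only [commutatorElement_def, map_mul, map_inv, mul_inv_rev]
      generalize q y = Y1 at *
      generalize q y' = Y2 at *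
      generalize q t = A at *
      generalize q w = B at *
      calc Y1 * A * (Y2 * B) * (A⁻¹ * Y1⁻¹) * (B⁻¹ * Y2⁻¹)
          = Y1 * (A * Y2) * B * A⁻¹ * Y1⁻¹ * B⁻¹ * Y2⁻¹ := by group
        _ = (Y1 * Y2) * (A * B * A⁻¹) * Y1⁻¹ * B⁻¹ * Y2⁻¹ := by rw [← c2.eq]; group
        _ = Y2 * (Y1 * (A * B * A⁻¹)) * Y1⁻¹ * B⁻¹ * Y2⁻¹ := by rw [c3.eq]; group
        _ = Y2 * ((A * B * A⁻¹) * Y1) * Y1⁻¹ * B⁻¹ * Y2⁻¹ := by
          rw [((c4.mul_right c1).mul_right c4.inv_right).eq]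
        _ = Y2 * (A * B * A⁻¹ * B⁻¹) * Y2⁻¹ := by group
        _ = A * B * A⁻¹ * B⁻¹ := by
          rw [(((c2.mul_right c5).mul_right c2.inv_right).mul_right c5.inv_right).eq,
            mul_inv_cancel_right]
    have h1 := hk _ hξC
    rw [E'.dl_ι (E'.V_le hV), ← commutatorElement_inv] at h1
    have h2 := E'.mem_center_of_comm hB hV hξT' (inv_mem_iff.1 h1)
    obtain ⟨k, hk', r, hr, he⟩ := hsplit E'.g0
    refine E'.zc_of_center E'.gen h2 ?_
    rw [← he, ← E'.c_c (E'.V_le hV), E'.c_ι (E'.V_le hV), center_conj h2, E'.c_eq_dl k]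
    exact mul_mem (E'.Zc_le_center (hk k hk')) h2
  -- an inverting element of `C'` of order prime to `p`
  obtain ⟨k, hkC, r, hr, hkr⟩ := hsplit (L.n * L.n)
  have hrN : E'.ι r ∈ L.NQ := L.T0_le_NQ hr
  have hst2 : L.Stab (L.n * L.n) := L.stab_mul (L.stab_n hB) (L.stab_n hB)
  have hkst : L.Stab k := by
    rw [show k = L.n * L.n * (E'.ι r)⁻¹ by rw [← hkr, mul_inv_cancel_right]]
    exact L.stab_mul hst2 (L.stab_inv (L.stab_NQ hrN))
  have hkinv : ∀ u ∈ E'.V, E'.c k u * u ∈ L.H := fun u hu => by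
    have h1 := L.n_sq hB hu
    rwa [← hkr, ← E'.c_c (E'.V_le hu), E'.c_ι (E'.V_le hu),
      show r * u * r⁻¹ = u by rw [← E'.V_comm hu hr, mul_inv_cancel_right]] at h1
  obtain ⟨ea, m, hm, hkord⟩ :=
    Nat.exists_eq_pow_mul_and_not_dvd (orderOf_pos k).ne' p (Fact.out : p.Prime).ne_one
  set j := k ^ p ^ ea with hjdef
  have hjC : j ∈ C' := pow_mem hkC _
  have hjst : L.Stab j := L.stab_pow hkst _
  have hjinv : ∀ u ∈ E'.V, E'.c j u * u ∈ L.H := fun u hu =>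
    (L.parity hkst hkinv _ u hu).2 hodd.pow
  have hjm : j ^ m = 1 := by rw [hjdef, ← pow_mul, ← hkord, pow_orderOf_eq_one]
  have hcop : Nat.Coprime m p := ((Fact.out : p.Prime).coprime_iff_not_dvd.2 hm).symm
  -- displacements modulo `V'`
  have hVn : E'.V.Normal := Emb.Inv.normal E' E'.V_inv
  set qV := QuotientGroup.mk' E'.V
  have hdlmul : ∀ (h h' : E'.G) {t : S}, t ∈ E'.T →
      E'.dl (h * h') t = E'.c h (E'.dl h' t) * E'.dl h t := by
    intro h h' t ht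
    unfold Emb.dl
    rw [E'.c_mul (E'.c_mem ht h') (inv_mem ht), E'.c_inv ht, E'.c_c ht]
    group
  have hhom : ∀ {t : S}, t ∈ E'.T → ∃ φ : C' →* S ⧸ E'.V,
      (∀ h, φ h = qV (E'.dl h t)) ∧ ∀ h h', Commute (φ h) (φ h') := by
    intro t ht
    refine ⟨MonoidHom.mk' (fun h => qV (E'.dl h t)) fun h h' => ?_, fun h => rfl, fun h h' => ?_⟩
    · show qV (E'.dl ((h : E'.G) * h') t) = _
      have hy : E'.dl (h' : E'.G) t ∈ P.Y := h'.2 t ht
      have hyh : E'.dl (h : E'.G) t ∈ P.Y := h.2 t ht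
      have e : qV (E'.c h (E'.dl (h' : E'.G) t)) = qV (E'.dl (h' : E'.G) t) := by
        rw [E'.c_eq_dl (h : E'.G) (E'.dl (h' : E'.G) t), map_mul,
          show qV (E'.dl h (E'.dl (h' : E'.G) t)) = 1 from
            (QuotientGroup.eq_one_iff _).2 (hYfix _ hy h), one_mul]
      rw [hdlmul _ _ ht, map_mul, e, ← map_mul, ← map_mul, hYc _ hy _ hyh]
    · show qV (E'.dl h t) * qV (E'.dl h' t) = qV (E'.dl h' t) * qV (E'.dl h t)
      have hyh : E'.dl (h : E'.G) t ∈ P.Y := h.2 t ht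
      rw [← map_mul, ← map_mul, hYc _ hyh (E'.dl (h' : E'.G) t) (h'.2 t ht)]
  have hdj : E'.dl j α ∈ E'.V := by
    obtain ⟨φ, hφ, -⟩ := hhom hαT'
    refine mem_of_pow_two_coprime hcop ?_ (P.Y_pow (show E'.dl j α ∈ P.Y from hjC α hαT') E').1
    rw [← QuotientGroup.eq_one_iff, ← QuotientGroup.mk'_apply, map_pow]
    have h1 := map_pow φ ⟨j, hjC⟩ m
    rw [show (⟨j, hjC⟩ : C') ^ m = 1 from Subtype.ext hjm, map_one, hφ] at h1
    exact h1.symm
  set d := E'.dl j α with hddef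
  -- the corrected element `α₀`
  obtain ⟨l, hl⟩ : Odd (orderOf d) := by
    obtain ⟨i, hi⟩ := IsPGroup.iff_orderOf.1 hB.isP d
    rw [hi]; exact hodd.pow
  set u := d ^ (l + 1) with hudef
  have hu : u ∈ E'.V := pow_mem hdj _
  have huu : u * u = d := by
    rw [hudef, ← pow_add, show l + 1 + (l + 1) = orderOf d + 1 by omega, pow_succ,
      pow_orderOf_eq_one, one_mul]
  set α0 := u * α with hα0def
  have hα0T' : α0 ∈ E'.T := mul_mem (E'.V_le hu) hαT'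
  have hfix0 : E'.dl j α0 ∈ L.H := by
    have e : E'.dl j α0 = E'.c j u * u := by
      rw [Emb.dl, hα0def, E'.c_mul (E'.V_le hu) hαT', E'.c_eq_dl j α, ← hddef, ← huu,
        mul_inv_rev, ← mul_assoc, ← mul_assoc, ← mul_assoc, mul_inv_cancel_right,
        mul_inv_cancel_right]
    rw [e]; exact hjinv u hu
  -- the commutator `e` acts trivially
  set a' := E'.ι ξ with ha'
  have haiC : a'⁻¹ ∈ C' := inv_mem hξC
  set e := ⁅a', j⁆ with hedef
  have heC : e ∈ C' := by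
    rw [hedef, commutatorElement_def]
    exact mul_mem (mul_mem (mul_mem hξC hjC) haiC) (inv_mem hjC)
  have heN : e ∈ L.NQ := by
    intro w hw
    have hwT := E'.V_le hw
    set w1 := E'.c j⁻¹ w with hw1
    have hw1V : w1 ∈ E'.V := E'.V_inv.2 _ w hw
    set w2 := E'.c a'⁻¹ w1 with hw2
    have hw2V : w2 ∈ E'.V := E'.V_inv.2 _ w1 hw1V
    have h1 : w * w1 ∈ L.H := by
      have := hjinv w1 hw1V
      rwa [hw1, E'.c_c_inv hwT] at this
    have h2 := L.stab_a hB _ (hjinv w2 hw2V)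
    rw [E'.c_mul (E'.V_le (E'.V_inv.2 j _ hw2V)) (E'.V_le hw2V), hw2,
      E'.c_c_inv (E'.V_le hw1V)] at h2
    have h3 : E'.c e w = E'.c a' (E'.c j w2) := by
      rw [hw2, hw1, E'.c_c hwT, E'.c_c hwT, E'.c_c hwT, hedef, commutatorElement_def]
      congr 1
      simp only [mul_assoc]
    rw [← hw2] at h2
    have h4 := mul_mem h2 (inv_mem h1)
    rwa [← h3, mul_inv_rev, mul_assoc, mul_inv_cancel_left] at h4
  have hed : ∀ t ∈ E'.T, E'.dl e t ∈ L.H := by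
    intro t ht
    obtain ⟨φ, hφ, hφc⟩ := hhom ht
    have hV : E'.dl e t ∈ E'.V := by
      rw [← QuotientGroup.eq_one_iff, ← QuotientGroup.mk'_apply]
      have h1 := hφ ⟨e, heC⟩
      rw [show (⟨e, heC⟩ : C') = ⁅(⟨a', hξC⟩ : C'), ⟨j, hjC⟩⁆ from Subtype.ext rfl,
        map_commutatorElement, comm_eq_one (hφc _ _).eq] at h1
      exact h1.symm
    have hpow : ∀ i : ℕ, E'.dl (e ^ i) t * (E'.dl e t ^ i)⁻¹ ∈ L.H := by
      intro i
      induction i with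
      | zero => rw [pow_zero, pow_zero, Emb.dl, E'.c_one_left ht, mul_inv_cancel, inv_one,
          mul_one]; exact one_mem _
      | succ i ih =>
        rw [pow_succ, hdlmul _ _ ht, E'.c_eq_dl (e ^ i) (E'.dl e t), pow_succ, mul_inv_rev]
        have hcomm : E'.dl (e ^ i) t * (E'.dl e t)⁻¹ = (E'.dl e t)⁻¹ * E'.dl (e ^ i) t :=
          (E'.V_comm (inv_mem hV) (E'.dl_mem_T ht _)).symm
        have e1 : E'.dl (e ^ i) (E'.dl e t) * E'.dl e t * E'.dl (e ^ i) t *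
            ((E'.dl e t)⁻¹ * (E'.dl e t ^ i)⁻¹) =
            E'.dl (e ^ i) (E'.dl e t) * (E'.dl (e ^ i) t * (E'.dl e t ^ i)⁻¹) := by
          rw [← mul_assoc, mul_assoc (E'.dl (e ^ i) (E'.dl e t) * E'.dl e t), hcomm,
            ← mul_assoc, mul_inv_cancel_right, mul_assoc]
        rw [e1]
        exact mul_mem (L.NQ.pow_mem heN i _ hV) ih
    obtain ⟨eb, n', hn', hord⟩ :=
      Nat.exists_eq_pow_mul_and_not_dvd (orderOf_pos e).ne' p (Fact.out : p.Prime).ne_one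
    have hemT : e ^ n' ∈ E'.T0 := L.pElement_mem hB (L.NQ.pow_mem heN _)
      ⟨eb, by rw [← pow_mul, mul_comm, ← hord, pow_orderOf_eq_one]⟩
    obtain ⟨w, hw, hwe⟩ : e ^ n' ∈ E'.T.map E'.ι := by rw [E'.T0_eq]; exact hemT
    have hdem : E'.dl (e ^ n') t = ⁅w, t⁆ := by rw [← hwe, E'.dl_ι ht]
    have hi := hpow n'
    have hVn' : E'.dl (e ^ n') t ∈ E'.V := by
      have := mul_mem (L.H_le_V hi) (pow_mem hV n')
      rwa [inv_mul_cancel_right] at this
    rw [hdem] at hi hVn'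
    have hzc := L.zc_le_H (hder w hw t ht hVn')
    have hn : E'.dl e t ^ n' ∈ L.H := by
      have := mul_mem (inv_mem hi) hzc
      rwa [mul_inv_rev, inv_inv, inv_mul_cancel_right] at this
    exact mem_of_pow_two_coprime ((Fact.out : p.Prime).coprime_iff_not_dvd.2 hn').symm hn
      (L.zc_le_H (E'.V_pow hB hV E'))
  have hed' : ∀ t ∈ E'.T, E'.dl e⁻¹ t ∈ L.H := by
    intro t ht
    have h1 := inv_mem (hed _ (E'.c_mem ht e⁻¹))
    rwa [Emb.dl, E'.c_c_inv ht, mul_inv_rev, inv_inv] at h1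
  have hjξ : j * a' = e⁻¹ * a' * j := by rw [hedef, commutatorElement_def]; group
  -- the displacement `ρ` of `α₀`
  have hρ : ⁅ξ, α0⁆ = v * (⁅ξ, u⁆ * x') := by
    rw [hα0def, comm_mul_right, ← hζ]
    have c1 : u * (v * x') * u⁻¹ = v * x' := by
      rw [hYc u (P.V'_le_Y hu) (v * x') (by rw [hζ]; exact hξS α), mul_inv_cancel_right]
    rw [c1, ← mul_assoc, ← Subgroup.mem_center_iff.1 (E'.comm_V' hB hu ξ) v, mul_assoc]
  set x'' := ⁅ξ, u⁆ * x' with hx''def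
  have hcu := E'.comm_V' hB hu ξ
  have hx'' : x'' ∈ E'.V := mul_mem (E'.center_le_V hcu) hx'
  have hx''c : ⁅ξ, x''⁆ = zs := by
    rw [hx''def, E'.comm_V_mul hB (E'.center_le_V hcu) hx',
      comm_eq_one (Subgroup.mem_center_iff.1 hcu ξ), one_mul]
  set ρ := ⁅ξ, α0⁆ with hρdef
  have hρT : ρ ∈ E'.T := E'.comm_mem_T _ _
  have hcρ : E'.dl j ρ ∈ L.H := by
    have hρ' : ρ = E'.c a' α0 * α0⁻¹ := by rw [← Emb.dl, ha', E'.dl_ι hα0T']
    have hVT := fun {y} (hy : y ∈ L.H) => E'.V_le (L.H_le_V hy)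
    have haα : E'.c a' α0 ∈ E'.T := E'.c_mem hα0T' _
    have h1 : E'.c e⁻¹ (E'.c a' (E'.dl j α0)) ∈ L.H :=
      L.stab_NQ (inv_mem heN) _ (L.stab_a hB _ hfix0)
    have h2 := hed' _ haα
    have e1 : E'.c (j * a') α0 = E'.c e⁻¹ (E'.c a' (E'.dl j α0)) *
        (E'.dl e⁻¹ (E'.c a' α0) * (ρ * α0)) := by
      rw [hjξ, ← E'.c_c hα0T', ← E'.c_c (E'.c_mem hα0T' _), E'.c_eq_dl j α0,
        E'.c_mul (hVT hfix0) hα0T', E'.c_mul (E'.c_mem (hVT hfix0) _) haα,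
        E'.c_eq_dl e⁻¹ (E'.c a' α0)]
      rw [hρ', inv_mul_cancel_right]
    have e2 : E'.dl j ρ = E'.c (j * a') α0 * (E'.c j α0)⁻¹ * ρ⁻¹ := by
      rw [Emb.dl]
      congr 1
      rw [hρ', E'.c_mul haα (inv_mem hα0T'), E'.c_inv hα0T', E'.c_c hα0T']
    have hcm : ρ * (E'.dl j α0)⁻¹ = (E'.dl j α0)⁻¹ * ρ :=
      (E'.V_comm (inv_mem (L.H_le_V hfix0)) hρT).symm
    rw [e2, e1, E'.c_eq_dl j α0]
    have e3 : ∀ A B h0 : S, A * (B * (ρ * α0)) * (h0 * α0)⁻¹ * ρ⁻¹ =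
        A * B * (ρ * h0⁻¹ * ρ⁻¹) := fun A B h0 => by group
    rw [e3, hcm, mul_inv_cancel_right]
    exact mul_mem (mul_mem h1 h2) (inv_mem hfix0)
  -- the contradiction
  set η := E'.dl j v with hηdef
  have hη : η ∈ E'.V := hc v hv j
  have hvT' := P.le' hv
  have hx''T := E'.V_le hx''
  have h5 : η * (E'.c j x'' * x''⁻¹) ∈ L.H := by
    have e1 : E'.dl j ρ = η * (E'.c j x'' * x''⁻¹) := by
      have cc : Commute v (E'.c j x'' * x''⁻¹) := E.V_comm hv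
        (P.le (mul_mem (E'.V_inv.2 j _ hx'') (inv_mem hx'')))
      rw [Emb.dl, hρ, E'.c_mul hvT' hx''T, E'.c_eq_dl j v, ← hηdef]
      calc η * v * E'.c j x'' * (v * x'')⁻¹
          = η * (v * (E'.c j x'' * x''⁻¹) * v⁻¹) := by group
        _ = η * (E'.c j x'' * x''⁻¹) := by rw [cc.eq, mul_inv_cancel_right]
    rwa [e1] at hcρ
  have h6 : η * (x'' * x'')⁻¹ ∈ L.H := by
    have h := mul_mem h5 (inv_mem (hjinv x'' hx''))
    have e1 : η * (E'.c j x'' * x''⁻¹) * (E'.c j x'' * x'')⁻¹ = η * (x'' * x'')⁻¹ := by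
      have cc := (show Commute (E'.c j x'') x'' from
        E'.V_comm (E'.V_inv.2 j _ hx'') hx''T)
      calc η * (E'.c j x'' * x''⁻¹) * (E'.c j x'' * x'')⁻¹
          = η * (E'.c j x'' * (x'' * x'')⁻¹ * (E'.c j x'')⁻¹) := by group
        _ = η * (x'' * x'')⁻¹ := by rw [(cc.mul_right cc).inv_right.eq, mul_inv_cancel_right]
    rwa [e1] at h
  have h7 : ⁅ξ, η⁆ ∈ L.H := by
    have hξv : E'.c a' v = v := by
      rw [ha', E'.c_ι hvT', ← E.V_comm hv hξT, mul_inv_cancel_right]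
    have h1 : E'.c (j * a') v = η * v := by
      rw [← E'.c_c hvT', hξv, E'.c_eq_dl j v]
    have hηT := E'.V_le hη
    have haη : E'.c a' η ∈ E'.V := E'.V_inv.2 a' η hη
    have h2 : E'.c (j * a') v = E'.dl e⁻¹ (E'.c a' η) * E'.c a' η * (E'.dl e⁻¹ v * v) := by
      rw [hjξ, ← E'.c_c hvT', ← E'.c_c (E'.c_mem hvT' _), E'.c_eq_dl j v, ← hηdef,
        E'.c_mul hηT hvT', hξv, E'.c_mul (E'.V_le haη) hvT', E'.c_eq_dl e⁻¹ (E'.c a' η),
        E'.c_eq_dl e⁻¹ v]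
    rw [h1, ← mul_assoc, mul_right_cancel_iff] at h2
    rw [← E'.dl_ι hηT, ← ha', Emb.dl]
    have h3 := inv_mem (mul_mem (hed' _ (E'.V_le haη)) (hed' _ hvT'))
    have e1 : E'.c a' η * η⁻¹ = (E'.dl e⁻¹ (E'.c a' η) * E'.dl e⁻¹ v)⁻¹ := by
      have cc : E'.c a' η * E'.dl e⁻¹ v = E'.dl e⁻¹ v * E'.c a' η :=
        E'.V_comm haη (E'.dl_mem_T hvT' _)
      rw [mul_assoc, cc, ← mul_assoc] at h2
      refine (congrArg (fun y => E'.c a' η * y⁻¹) h2).trans ?_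
      group
    rw [e1]; exact h3
  have h8 : zs * zs ∈ L.H0 := by
    set hh := η * (x'' * x'')⁻¹ with hhdef
    have e1 : η = hh * (x'' * x'') := by rw [hhdef, inv_mul_cancel_right]
    rw [e1, E'.comm_V_mul hB (L.H_le_V h6) (mul_mem hx'' hx''),
      E'.comm_V_mul hB hx'' hx'', hx''c] at h7
    have hc1 : ⁅ξ, hh⁆ ∈ L.H := by
      rw [← E'.dl_ι (E'.V_le (L.H_le_V h6))]
      exact mul_mem (L.stab_a hB _ h6) (inv_mem h6)
    have h9 := mul_mem (inv_mem hc1) h7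
    rw [inv_mul_cancel_left] at h9
    exact L.H_inf_center hB h9 (mul_mem hzsZ hzsZ)
  refine L.z0_notMem (mem_of_pow_two_coprime
    (((Fact.out : p.Prime).coprime_iff_not_dvd.2 fun h => hp ?_).symm) (by rwa [pow_two])
    (L.zc_le (E'.zpow_mem_Zc hB hzsZ)))
  exact (Nat.prime_dvd_prime_iff_eq (Fact.out : p.Prime) Nat.prime_two).1 h

end Pair

end CfsgLib.LocalEven.GN
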